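import Mathlib.AlgebraicGeometry.Morphisms.Flat
import Mathlib.RingTheory.Flat.FaithfullyFlat.Basic
import Mathlib.RingTheory.Flat.Stability

/-!
Flatness descends along faithfully flat precomposition.
-/

universe u

open AlgebraicGeometry CategoryTheory TensorProduct

namespace Groth.Agent.GrpdLib

/-- If `A → C` is flat and `B → C` is faithfully flat then `A → B` is flat. -/
lemma moduleFlat_of_comp (A B C : Type u) [CommRing A] [CommRing B] [CommRing C] [Algebra A B]
    [Algebra B C] [Algebra A C] [IsScalarTower A B C] [Module.Flat A C]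
    [Module.FaithfullyFlat B C] : Module.Flat A B := by
  rw [Module.Flat.iff_lTensor_preserves_injective_linearMap]
  intro M N _ _ _ _ f hf
  -- `B ⊗ M → B ⊗ N` becomes injective after `C ⊗_B -`
  let g : B ⊗[A] M →ₗ[B] B ⊗[A] N := TensorProduct.AlgebraTensorModule.map LinearMap.id f
  suffices Function.Injective g from this
  rw [← Module.FaithfullyFlat.lTensor_injective_iff_injective B C]
  let e₁ := TensorProduct.AlgebraTensorModule.cancelBaseChange A B B C M
  let e₂ := TensorProduct.AlgebraTensorModule.cancelBaseChange A B B C N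
  have hcomm : ∀ z, e₂ (g.lTensor C z) = f.lTensor C (e₁ z) := by
    intro z
    induction z using TensorProduct.induction_on with
    | zero => simp
    | add x y hx hy => simp [hx, hy]
    | tmul c w =>
      induction w using TensorProduct.induction_on with
      | zero => simp
      | add x y hx hy => simp only [TensorProduct.tmul_add, map_add, hx, hy]
      | tmul b m => simp [e₁, e₂, g]
  intro x y hxy
  apply e₁.injective
  apply Module.Flat.lTensor_preserves_injective_linearMap (M := C) f hf
  rw [← hcomm, ← hcomm, hxy]

/-- Flatness descends along surjective flat precomposition. -/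
theorem flat_of_flat_comp {X' X Y : Scheme.{u}} (f : X' ⟶ X) (g : X ⟶ Y) [Flat f]
    [Surjective f] [Flat (f ≫ g)] : Flat g := by
  refine Flat.of_stalkMap _ fun x => ?_
  obtain ⟨x', rfl⟩ := f.surjective x
  let : Algebra (Y.presheaf.stalk (g (f x'))) (X.presheaf.stalk (f x')) :=
    (g.stalkMap (f x')).hom.toAlgebra
  let : Algebra (X.presheaf.stalk (f x')) (X'.presheaf.stalk x') := (f.stalkMap x').hom.toAlgebra
  let : Algebra (Y.presheaf.stalk (g (f x'))) (X'.presheaf.stalk x') :=
    ((f ≫ g).stalkMap x').hom.toAlgebra
  have : IsScalarTower (Y.presheaf.stalk (g (f x'))) (X.presheaf.stalk (f x'))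
      (X'.presheaf.stalk x') := .of_algebraMap_eq' (by
    simp only [RingHom.algebraMap_toAlgebra]
    exact (congrArg CommRingCat.Hom.hom (Scheme.Hom.stalkMap_comp f g x')))
  have : Module.Flat (Y.presheaf.stalk (g (f x'))) (X'.presheaf.stalk x') :=
    Flat.stalkMap (f ≫ g) x'
  have : Module.FaithfullyFlat (X.presheaf.stalk (f x')) (X'.presheaf.stalk x') :=
    @Module.FaithfullyFlat.of_flat_of_isLocalHom _ _ _ _ _ _ _
      (Flat.stalkMap f x') (f.toLRSHom.prop x')
  exact moduleFlat_of_comp _ _ (X'.presheaf.stalk x')

end Groth.Agent.GrpdLib
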