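import Groth.Prelude.Def_Grpd

/-!
The inverse of a groupoid scheme is an involution, so target and source share properties.
-/

universe u

open AlgebraicGeometry CategoryTheory CategoryTheory.Limits

namespace Groth.Agent.GrpdLib

variable {S : Scheme.{u}} (G : Grpd.GroupoidScheme S)

lemma comp_congr {T : Scheme.{u}} {α α' β β' : T ⟶ G.R} (h₁ : α = α') (h₂ : β = β')
    (h : α ≫ G.s = β ≫ G.t) (h' : α' ≫ G.s = β' ≫ G.t) :
    pullback.lift α β h ≫ G.c = pullback.lift α' β' h' ≫ G.c := by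
  subst h₁ h₂
  rfl

lemma i_i : G.i ≫ G.i = 𝟙 G.R := by
  have hts : (G.i ≫ G.i) ≫ G.s = (𝟙 G.R) ≫ G.s := by
    rw [Category.assoc, G.i_s, G.i_t, Category.id_comp]
  have h1 : (G.i ≫ G.i) ≫ G.s = G.i ≫ G.t := by rw [Category.assoc, G.i_s]
  have h2 : G.i ≫ G.s = 𝟙 G.R ≫ G.t := by rw [G.i_s, Category.id_comp]
  have a1 := G.assoc (G.i ≫ G.i) G.i (𝟙 _) h1 h2
  have e1 : pullback.lift G.i (𝟙 _) h2 ≫ G.c = (G.i ≫ G.i) ≫ G.s ≫ G.e := by
    refine (comp_congr G (Category.id_comp G.i).symm rfl h2 (by simp [G.i_s])).trans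
      ((G.i_comp (𝟙 G.R)).trans ?_)
    simp only [Category.id_comp, Category.assoc]
    rw [reassoc_of% G.i_s, reassoc_of% G.i_t]
  have e2 : pullback.lift (G.i ≫ G.i) G.i h1 ≫ G.c = 𝟙 G.R ≫ G.t ≫ G.e := by
    refine (G.i_comp G.i).trans ?_
    rw [reassoc_of% G.i_s, Category.id_comp]
  have hid : (𝟙 G.R : G.R ⟶ G.R) = G.i ≫ G.i :=
    calc (𝟙 G.R : G.R ⟶ G.R) = _ := (G.e_comp (𝟙 G.R)).symm
      _ = _ := comp_congr G e2.symm rfl _ ((G.comp_s _ _ h1).trans h2)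
      _ = _ := a1
      _ = _ := comp_congr G rfl e1 _ (by simp [G.e_t])
      _ = G.i ≫ G.i := G.comp_e (G.i ≫ G.i)
  exact hid.symm

instance : IsIso G.i := ⟨G.i, i_i G, i_i G⟩

lemma t_property (P : MorphismProperty Scheme.{u}) [P.RespectsIso] (h : P G.s) : P G.t := by
  rw [← G.i_s]
  exact (MorphismProperty.cancel_left_of_respectsIso P _ _).2 h

end Groth.Agent.GrpdLib
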