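import Groth.Agent.Grpd.Glue
import Groth.Agent.Grpd.Inverse
import Groth.Agent.QuotShLib.Fppf
import Mathlib.AlgebraicGeometry.Morphisms.Proper
import Mathlib.AlgebraicGeometry.Morphisms.QuasiSeparated

/-!
# Groupoid quotients as fppf quotient sheaves
-/

universe u

open AlgebraicGeometry CategoryTheory CategoryTheory.Limits

namespace Groth.Agent.GrpdLib

variable {S : Scheme.{u}} (G : Grpd.GroupoidScheme S)

/-- The source as a morphism over the base. -/
noncomputable abbrev sO : (Over.mk G.pR : Over S) ⟶ Over.mk G.pU := Over.homMk G.s G.s_over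

/-- The target as a morphism over the base. -/
noncomputable abbrev tO : (Over.mk G.pR : Over S) ⟶ Over.mk G.pU := Over.homMk G.t G.t_over

/-- An fppf morphism with the relation as kernel pair is the quotient sheaf. -/
theorem isQuotient_of_isPullback {M : Over S} (q : (Over.mk G.pU : Over S) ⟶ M) [Flat q.left]
    [Surjective q.left] [LocallyOfFinitePresentation q.left]
    (h : IsPullback G.t G.s q.left q.left) :
    QuotSh.IsQuotient Scheme.fppfPrecoverage (sO G) (tO G) q :=
  QuotShLib.isQuotient_fppf (QuotShLib.isKernelPair_of_left h.flip)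

/-- A morphism from `U` constant on the relation descends along the quotient. -/
lemma existsUnique_desc {M T : Scheme.{u}} (q : G.U ⟶ M) [Flat q] [Surjective q]
    [LocallyOfFinitePresentation q] (h : IsPullback G.t G.s q q) (f : G.U ⟶ T)
    (hf : G.t ≫ f = G.s ≫ f) : ∃! g : M ⟶ T, q ≫ g = f := by
  have hc : ∀ {Z : Scheme.{u}} (g₁ g₂ : Z ⟶ G.U), g₁ ≫ q = g₂ ≫ q → g₁ ≫ f = g₂ ≫ f :=
    fun g₁ g₂ he => by
      rw [← h.lift_fst g₁ g₂ he, Category.assoc, hf, ← Category.assoc, h.lift_snd]
  refine ⟨EffectiveEpi.desc q f hc, EffectiveEpi.fac _ _ _, fun g hg => ?_⟩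
  exact EffectiveEpi.uniq q f hc g hg

/-- Relations with jointly monomorphic projections have monomorphic graph. -/
lemma mono_j_of_injective
    (hinj : ∀ (T : Over S) (r r' : T ⟶ (Over.mk G.pR : Over S)),
      r ≫ tO G = r' ≫ tO G → r ≫ sO G = r' ≫ sO G → r = r') : Mono G.j := by
  refine ⟨fun {T} a b h => ?_⟩
  have h₁ : a ≫ G.t = b ≫ G.t := by
    have := congrArg (· ≫ pullback.fst _ _) h
    simpa only [Grpd.GroupoidScheme.j, Category.assoc, pullback.lift_fst] using this
  have h₂ : a ≫ G.s = b ≫ G.s := by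
    have := congrArg (· ≫ pullback.snd _ _) h
    simpa only [Grpd.GroupoidScheme.j, Category.assoc, pullback.lift_snd] using this
  have hw : b ≫ G.pR = a ≫ G.pR := by rw [← G.t_over, ← reassoc_of% h₁]
  exact congrArg CommaMorphism.left (hinj (Over.mk (a ≫ G.pR)) (Over.homMk a rfl)
    (Over.homMk b hw) (by ext; exact h₁) (by ext; exact h₂))

section
variable [IsFinite G.s] [Flat G.s] [LocallyOfFinitePresentation G.s]

/-- If every nonempty closed set has a point with orbit in an affine open, all orbits lie in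
affine opens. -/
lemma orbitsAffine_of_closed
    (h3 : ∀ Z : Set G.U, IsClosed Z → Z.Nonempty →
      ∃ u ∈ Z, ∃ W : G.U.Opens, IsAffineOpen W ∧ ∀ r : G.R, G.s r = u → G.t r ∈ W) :
    OrbitsAffine G := by
  have : IsFinite G.t := t_property G @IsFinite ‹_›
  intro x
  obtain ⟨x₀, hx₀, V, hV, hVr⟩ := h3 (closure {x}) isClosed_closure ⟨x, subset_closure rfl⟩
  obtain ⟨W, hW, hxW, -, -, hinv⟩ := exists_invariant_affine G x₀ V hV ⊤ (by
    rintro _ ⟨r, hr, rfl⟩
    exact ⟨hVr r hr, trivial⟩)
  have hx : x ∈ W := (specializes_iff_mem_closure.2 hx₀).mem_open W.2 hxW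
  refine ⟨W, hW, ?_⟩
  rintro _ ⟨r, hr, rfl⟩
  have hr' : G.s r = x := hr
  exact show r ∈ G.t ⁻¹ᵁ W from hinv ▸ (show G.s r ∈ W from hr' ▸ hx)

variable {G}
variable (hG : OrbitsAffine G)

/-- The quotient map is finite flat and finitely presented for equivalence relations. -/
theorem quotMap_finLocFree [IsFinite G.t] [Flat G.t] [LocallyOfFinitePresentation G.t] [Mono G.j] :
    IsFinite (quotMap hG) ∧ Flat (quotMap hG) ∧ LocallyOfFinitePresentation (quotMap hG) :=
  ⟨quotMap_property hG @IsFinite fun W => (quotient_spec W.gr).1.1,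
    quotMap_property hG @Flat fun W => (quotient_spec W.gr).1.2.1,
    quotMap_property hG @LocallyOfFinitePresentation fun W => (quotient_spec W.gr).1.2.2⟩

include hG in
/-- Existence of quotient sheaves of finite flat equivalence relations. -/
theorem exists_quotient_fppf [Mono G.j] :
    ∃ (M : Over S) (m : (Over.mk G.pU : Over S) ⟶ M),
      (IsFinite m.left ∧ Flat m.left ∧ LocallyOfFinitePresentation m.left) ∧
      IsPullback G.t G.s m.left m.left ∧
      QuotSh.IsQuotient Scheme.fppfPrecoverage (sO G) (tO G) m := by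
  have : IsFinite G.t := t_property G @IsFinite ‹_›
  have : Flat G.t := t_property G @Flat ‹_›
  have : LocallyOfFinitePresentation G.t := t_property G @LocallyOfFinitePresentation ‹_›
  obtain ⟨h₁, h₂, h₃⟩ := quotMap_finLocFree hG
  have hpb := quotMap_isPullback hG
  have hsurj : Surjective (quotMap hG) := ⟨quotMap_surjective hG⟩
  obtain ⟨g, hg, -⟩ := existsUnique_desc G (quotMap hG) hpb G.pU (by rw [G.t_over, G.s_over])
  let q : (Over.mk G.pU : Over S) ⟶ Over.mk g := Over.homMk (quotMap hG) hg
  have : Flat q.left := h₂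
  have : LocallyOfFinitePresentation q.left := h₃
  have : Surjective q.left := hsurj
  exact ⟨_, q, ⟨h₁, h₂, h₃⟩, hpb, isQuotient_of_isPullback G q hpb⟩

end

/-- The affine quotient is the quotient sheaf. -/
theorem toQuot_isQuotient [IsAffine G.U] [IsAffine G.R] [IsFinite G.s] [Flat G.s]
    [LocallyOfFinitePresentation G.s] [Mono G.j] :
    ∃! m : Spec (CommRingCat.of G.invariants) ⟶ S, ∃ h : G.toQuot ≫ m = G.pU,
      QuotSh.IsQuotient Scheme.fppfPrecoverage (sO G) (tO G)
        (Over.homMk G.toQuot h : Over.mk G.pU ⟶ Over.mk m) := by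
  obtain ⟨⟨_, h₂, h₃⟩, hpb⟩ := quotient_spec G
  have : Surjective G.toQuot := ⟨(toQuot_surjective_orbits G).1⟩
  obtain ⟨m, hm, hu⟩ := existsUnique_desc G G.toQuot hpb G.pU (by rw [G.t_over, G.s_over])
  refine ⟨m, ⟨hm, ?_⟩, fun m' ⟨h', _⟩ => hu m' h'⟩
  have : Flat (Over.homMk G.toQuot hm : Over.mk G.pU ⟶ Over.mk m).left := h₂
  have : LocallyOfFinitePresentation (Over.homMk G.toQuot hm : Over.mk G.pU ⟶ Over.mk m).left := h₃
  have : Surjective (Over.homMk G.toQuot hm : Over.mk G.pU ⟶ Over.mk m).left := ‹Surjective G.toQuot›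
  exact isQuotient_of_isPullback G _ hpb

/-- Separation of a quotient. -/
theorem separation_of_quotient [IsFinite G.s] [Mono G.j] {M : Over S}
    (m : (Over.mk G.pU : Over S) ⟶ M) [IsFinite m.left] [Flat m.left]
    [LocallyOfFinitePresentation m.left] [Surjective m.left]
    (hR : IsPullback G.t G.s m.left m.left) :
    (IsSeparated G.pU → IsSeparated M.hom) ∧ (QuasiSeparated G.pU → QuasiSeparated M.hom) := by
  have hw : m.left ≫ M.hom = G.pU := Over.w m
  let mm : pullback G.pU G.pU ⟶ pullback M.hom M.hom :=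
    pullback.map _ _ _ _ m.left m.left (𝟙 _) ((Category.comp_id _).trans hw.symm)
      ((Category.comp_id _).trans hw.symm)
  have e₁ : G.j ≫ pullback.fst _ _ = G.t := pullback.lift_fst _ _ _
  have e₂ : G.j ≫ pullback.snd _ _ = G.s := pullback.lift_snd _ _ _
  have f₁ : mm ≫ pullback.fst _ _ = pullback.fst _ _ ≫ m.left := pullback.lift_fst _ _ _
  have f₂ : mm ≫ pullback.snd _ _ = pullback.snd _ _ ≫ m.left := pullback.lift_snd _ _ _
  have hmm : IsPullback G.j (G.t ≫ m.left) mm (pullback.diagonal M.hom) := by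
    refine IsPullback.of_isLimit' ⟨?_⟩ (PullbackCone.IsLimit.mk _
      (fun c => hR.lift (c.fst ≫ pullback.fst _ _) (c.fst ≫ pullback.snd _ _) ?_) ?_ ?_ ?_)
    · apply pullback.hom_ext
      · rw [Category.assoc, f₁, reassoc_of% e₁, Category.assoc, pullback.diagonal_fst,
          Category.comp_id]
      · rw [Category.assoc, f₂, reassoc_of% e₂, Category.assoc, pullback.diagonal_snd,
          Category.comp_id, hR.w]
    · have h₁ := congrArg (· ≫ pullback.fst _ _) c.condition
      have h₂ := congrArg (· ≫ pullback.snd _ _) c.condition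
      simp only [Category.assoc, f₁, f₂, pullback.diagonal_fst, pullback.diagonal_snd,
        Category.comp_id] at h₁ h₂
      rw [Category.assoc, Category.assoc, h₁, h₂]
    · intro c
      apply pullback.hom_ext
      · rw [Category.assoc, e₁, hR.lift_fst]
      · rw [Category.assoc, e₂, hR.lift_snd]
    · intro c
      have h₁ := congrArg (· ≫ pullback.fst _ _) c.condition
      simp only [Category.assoc, f₁, pullback.diagonal_fst, Category.comp_id] at h₁
      rw [hR.lift_fst_assoc, Category.assoc, h₁]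
    · intro c l h₁ h₂
      apply hR.hom_ext
      · rw [hR.lift_fst, ← h₁, Category.assoc, e₁]
      · rw [hR.lift_snd, ← h₁, Category.assoc, e₂]
  have : Surjective mm :=
    MorphismProperty.pullbackMap (P := @Surjective) ‹_› ‹_› hw.symm hw.symm
  have : Flat mm := MorphismProperty.pullbackMap (P := @Flat) ‹_› ‹_› hw.symm hw.symm
  have : QuasiCompact mm :=
    MorphismProperty.pullbackMap (P := @QuasiCompact) inferInstance inferInstance hw.symm hw.symm
  have hj : G.j ≫ pullback.snd G.pU G.pU = G.s := pullback.lift_snd _ _ _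
  constructor
  · intro hsep
    have : UniversallyClosed (G.j ≫ pullback.snd G.pU G.pU) := by rw [hj]; infer_instance
    have : UniversallyClosed G.j := UniversallyClosed.of_comp_of_isSeparated G.j (pullback.snd G.pU G.pU)
    have : UniversallyClosed (pullback.diagonal M.hom) :=
      MorphismProperty.of_isPullback_of_descendsAlong
        (Q := @Surjective ⊓ @Flat ⊓ @QuasiCompact) hmm ⟨⟨‹_›, ‹_›⟩, ‹_›⟩ this
    constructor
    exact IsClosedImmersion.of_isPreimmersion _ (pullback.diagonal M.hom).isClosedMap.isClosed_range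
  · intro hqs
    have : QuasiCompact (G.j ≫ pullback.snd G.pU G.pU) := by rw [hj]; infer_instance
    have : QuasiCompact G.j := QuasiCompact.of_comp G.j (pullback.snd G.pU G.pU)
    constructor
    have : QuasiCompact (G.j ≫ mm) := inferInstance
    rw [hmm.w] at this
    have : Surjective (G.t ≫ m.left) :=
      MorphismProperty.IsStableUnderBaseChange.of_isPullback (P := @Surjective) hmm ‹_›
    refine ⟨fun V hV hVc => ?_⟩
    rw [← Set.image_preimage_eq ((pullback.diagonal M.hom) ⁻¹' V) (G.t ≫ m.left).surjective]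
    refine IsCompact.image ?_ (G.t ≫ m.left).continuous
    rw [← Set.preimage_comp, ← TopCat.coe_comp, ← Scheme.Hom.comp_base]
    exact QuasiCompact.isCompact_preimage V hV hVc

end Groth.Agent.GrpdLib
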