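import Groth.Agent.Grpd.BaseChange
import Mathlib.RingTheory.IntegralClosure.Algebra.Basic
import Mathlib.Algebra.Polynomial.Lifts
import Mathlib.RingTheory.MvPolynomial.Basic
import Mathlib.RingTheory.Flat.Stability

/-!
The norm along the source map and its invariance.
-/

universe u

open Polynomial TensorProduct Matrix

namespace Groth.Agent.GrpdLib

namespace Frame

variable {R : Type u} {D : Type u} [CommRing R] [CommRing D] [Algebra R D]
  {ι : Type} [Fintype ι] [DecidableEq ι] (F : Frame R D ι)

/-- The norm of a multiplication map, computed on the free module. -/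
noncomputable def nrm (ψ : D) : R := (1 - F.M 1 + F.M ψ).det

lemma nrm_mul (a b : D) : F.nrm (a * b) = F.nrm a * F.nrm b := by
  rw [nrm, nrm, nrm, ← Matrix.det_mul]
  congr 1
  simp only [add_mul, mul_add, sub_mul, mul_sub, one_mul, mul_one, ← F.M_mul]
  abel

lemma nrm_algebraMap_mul (a : R) :
    F.nrm (algebraMap R D a) * (F.M 1 + a • (1 - F.M 1)).det = a ^ Fintype.card ι := by
  rw [nrm, ← Matrix.det_mul]
  have h : (1 - F.M 1 + F.M (algebraMap R D a)) * (F.M 1 + a • (1 - F.M 1)) =
      a • (1 : Matrix ι ι R) := by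
    simp only [F.M_algebraMap, add_mul, mul_add, sub_mul, mul_sub, one_mul, mul_one, smul_mul_assoc,
      mul_smul_comm, ← F.M_mul, smul_sub, smul_add, smul_smul]
    abel
  rw [h, Matrix.det_smul, Matrix.det_one, mul_one]

lemma eval_one_charpoly (ψ : D) : (F.M (1 - ψ)).charpoly.eval 1 = F.nrm ψ := by
  rw [Matrix.eval_charpoly, nrm, F.M_sub, map_one, sub_sub_eq_add_sub, add_sub_right_comm]

/-- A unit after inverting the scalars has unit norm: criterion at a field point. -/
lemma nrm_ne_zero_of_eq_mul {k : Type u} [Field k] (χ : R →+* k) (ψ b : D) (a : R)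
    (ha : χ a ≠ 0) (h : ψ * b = algebraMap R D a) : χ (F.nrm ψ) ≠ 0 := by
  intro h0
  have := congrArg χ (F.nrm_algebraMap_mul a)
  rw [← h, F.nrm_mul] at this
  simp only [map_mul, h0, zero_mul, map_pow] at this
  exact pow_ne_zero _ ha this.symm

/-- Only zero and the scalar itself occur as roots for a scalar multiplication. -/
lemma root_scalar {k : Type u} [Field k] (χ : R →+* k) (c : R) (μ : k)
    (h : ((c • F.M 1).charpoly.map χ).eval μ = 0) : μ = 0 ∨ μ = χ c := by
  rw [← Matrix.charpoly_map, Matrix.eval_charpoly] at h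
  by_contra hne
  push Not at hne
  let E : Matrix ι ι k := (F.M 1).map χ
  have hE : E * E = E := by
    rw [← Matrix.map_mul, F.M_one_mul]
  have hm : (c • F.M 1).map χ = χ c • E := by ext i j; simp [E]
  have hμ : scalar ι μ = μ • (1 : Matrix ι ι k) := by
    rw [Matrix.scalar_apply, Matrix.smul_one_eq_diagonal]
  have h2 : (scalar ι μ - (c • F.M 1).map χ) * ((μ - χ c) • (1 - E) + μ • E) =
      (μ * (μ - χ c)) • (1 : Matrix ι ι k) := by
    rw [hm, hμ]
    simp only [sub_mul, mul_add, smul_mul_assoc, mul_smul_comm, one_mul, mul_sub, mul_one, hE,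
      smul_sub, smul_smul]
    module
  have h3 := congrArg Matrix.det h2
  rw [Matrix.det_mul, h, zero_mul, Matrix.det_smul, Matrix.det_one, mul_one] at h3
  exact pow_ne_zero _ (mul_ne_zero hne.1 (sub_ne_zero.2 hne.2)) h3.symm

end Frame

namespace GR

variable {A B : Type u} [CommRing A] [CommRing B] [Algebra A B] (G : GR A B)
  {ι : Type} [Fintype ι] [DecidableEq ι] (F : Frame A B ι)

/-- The norm of the pullback of a function along the target. -/
noncomputable def N (f : A) : A := F.nrm (G.t f)

lemma N_eq (f : A) : G.N F f = (G.P F (1 - f)).eval 1 := by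
  rw [N, P, ← F.eval_one_charpoly, map_sub, map_one]

lemma P_coeff_invariant (g : A) (k : ℕ) :
    G.t ((G.P F g).coeff k) = algebraMap A B ((G.P F g).coeff k) := by
  have := congrArg (fun p => Polynomial.coeff p k) (G.P_invariant F g)
  simpa using this

lemma N_invariant (f : A) : G.t (G.N F f) = algebraMap A B (G.N F f) := by
  rw [G.N_eq]
  have := congrArg (Polynomial.eval 1) (G.P_invariant F (1 - f))
  simpa [Polynomial.eval_map, ← Polynomial.hom_eval₂] using this

/-- Cayley–Hamilton for functions on the objects. -/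
lemma P_eval (g : A) : (G.P F g).eval g = 0 := by
  have h := congrArg G.e (F.aeval_charpoly (G.t g))
  rw [map_zero, aeval_def, Polynomial.hom_eval₂, G.e_t] at h
  rw [show G.e.comp (algebraMap A B) = RingHom.id A from RingHom.ext G.e_s] at h
  simpa [P] using h

lemma dvd_N (f : A) : f ∣ G.N F f := by
  rw [G.N_eq]
  simpa [G.P_eval F] using (G.P F (1 - f)).sub_dvd_eval_sub 1 (1 - f)

/-- Every function is integral over any ring containing the invariant functions. -/
theorem isIntegral [Module.Finite A B] [Module.Projective A B] (G : GR A B)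
    {C : Type u} [CommRing C] [Algebra C A]
    (hinv : ∀ a, G.t a = algebraMap A B a → a ∈ (algebraMap C A).range) (g : A) :
    IsIntegral C g := by
  obtain ⟨n, ⟨F⟩⟩ := Frame.exists_frame A B
  have hl : G.P F g ∈ Polynomial.lifts (algebraMap C A) := by
    rw [Polynomial.lifts_iff_coeff_lifts]
    exact fun k => hinv _ (G.P_coeff_invariant F g k)
  nontriviality A
  obtain ⟨p, hp, -, hm⟩ := Polynomial.lifts_and_degree_eq_and_monic hl (Matrix.charpoly_monic _)
  refine ⟨p, hm, ?_⟩
  rw [← Polynomial.eval_map, hp, G.P_eval]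

variable {C : Type u} [CommRing C] [Algebra C A] (hC : ∀ c, G.t (algebraMap C A c) =
    algebraMap A B (algebraMap C A c))

lemma bc_P (C' : Type u) [CommRing C'] [Algebra C C'] (g : A) :
    (G.baseChange hC C').P (F.baseChange (A ⊗[C] C')) (g ⊗ₜ 1) =
      (G.P F g).map (algebraMap A (A ⊗[C] C')) := by
  rw [P, baseChange_t, bcT_left, Frame.baseChange_M, Matrix.charpoly_map, P]

/-- The map of arrows induced by a map of the new constants. -/
noncomputable def bcMap {C₁ C₂ : Type u} [CommRing C₁] [CommRing C₂] [Algebra C C₁] [Algebra C C₂]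
    (π : C₁ →ₐ[C] C₂) : (A ⊗[C] C₁) ⊗[A] B →ₐ[A] (A ⊗[C] C₂) ⊗[A] B :=
  Algebra.TensorProduct.map (Algebra.TensorProduct.map (AlgHom.id A A) π) (AlgHom.id A B)

include hC in
/-- The characteristic polynomial of an invariant function comes from a base with flat constants. -/
theorem exists_charpoly_lift (hinv : ∀ a, G.t a = algebraMap A B a → a ∈ (algebraMap C A).range)
    (C' : Type u) [CommRing C'] [Algebra C C'] (f : A ⊗[C] C')
    (hf : G.bcT hC C' f = algebraMap (A ⊗[C] C') _ f) :
    ∃ q : C'[X], q.map (Algebra.TensorProduct.includeRight : C' →ₐ[C] A ⊗[C] C').toRingHom =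
      (f • (F.baseChange (A ⊗[C] C')).M 1).charpoly := by
  let C₁ := MvPolynomial C' C
  let π : C₁ →ₐ[C] C' := MvPolynomial.aeval (id : C' → C')
  have hπ : Function.Surjective π := fun x => ⟨MvPolynomial.X x, MvPolynomial.aeval_X _ _⟩
  let jA : A ⊗[C] C₁ →ₐ[A] A ⊗[C] C' := Algebra.TensorProduct.map (AlgHom.id A A) π
  obtain ⟨f₁, rfl⟩ : ∃ f₁, jA f₁ = f :=
    LinearMap.lTensor_surjective (Q := A) (g := π.toLinearMap) hπ f
  let G₁ := G.baseChange hC C₁
  let F₁ := F.baseChange (A ⊗[C] C₁)
  let F' := F.baseChange (A ⊗[C] C')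
  have hjt : ∀ x, bcMap (A := A) (B := B) π (G.bcT hC C₁ x) = G.bcT hC C' (jA x) := fun x => by
    have : (bcMap (A := A) (B := B) π).toRingHom.comp (G.bcT hC C₁) = (G.bcT hC C').comp jA.toRingHom := by
      refine ringHom_ext_tmul (fun a => ?_) fun c => ?_
      · simp [bcMap, bcT_left, jA, ← Algebra.TensorProduct.one_def]
      · simp [bcMap, bcT_right, incC_apply, jA]
    exact RingHom.congr_fun this x
  have hM : (F₁.M (G₁.t f₁)).map jA.toRingHom = jA f₁ • F'.M 1 := by
    rw [← F'.M_algebraMap, ← hf, ← hjt, baseChange_t]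
    refine (F₁.M_map F' jA.toRingHom (bcMap (A := A) (B := B) π).toRingHom (fun i => ?_) (fun d i => ?_) _).symm
    · simp [F₁, F', bcMap, Frame.baseChange]
    · induction d with
      | zero => simp
      | add a b ha hb => simp only [map_add, Pi.add_apply, ha, hb]
      | tmul x b => simp [F₁, F', bcMap, jA]
  have hl : G₁.P F₁ f₁ ∈ Polynomial.lifts
      (Algebra.TensorProduct.includeRight : C₁ →ₐ[C] A ⊗[C] C₁).toRingHom := by
    rw [Polynomial.lifts_iff_coeff_lifts]
    exact fun k => G.mem_range_of_invariant hC C₁ hinv _ (G₁.P_coeff_invariant F₁ f₁ k)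
  obtain ⟨q, hq⟩ := (Polynomial.mem_lifts _).1 hl
  refine ⟨q.map π.toRingHom, ?_⟩
  rw [← hM, Matrix.charpoly_map]
  change _ = (G₁.P F₁ f₁).map _
  rw [← hq, Polynomial.map_map, Polynomial.map_map]
  congr 1

include hC in
/-- Invariant functions after any base change take one value above each point of the constants. -/
theorem invariant_value_eq [Module.Finite A B] [Module.Projective A B]
    (hinv : ∀ a, G.t a = algebraMap A B a → a ∈ (algebraMap C A).range)
    {C' : Type u} [CommRing C'] [Algebra C C'] {k : Type u} [Field k]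
    (X Y : A ⊗[C] C' →+* k) (h : ∀ c, X (1 ⊗ₜ c) = Y (1 ⊗ₜ c)) (f : A ⊗[C] C')
    (hf : G.bcT hC C' f = algebraMap (A ⊗[C] C') _ f) : X f = Y f := by
  obtain ⟨n, ⟨F⟩⟩ := Frame.exists_frame A B
  obtain ⟨q, hq⟩ := G.exists_charpoly_lift F hC hinv C' f hf
  let G' := G.baseChange hC C'
  let F' := F.baseChange (A ⊗[C] C')
  have hP : G'.P F' f = (f • F'.M 1).charpoly := by
    rw [P, baseChange_t, hf, F'.M_algebraMap]
  have h0 : (f • F'.M 1).charpoly.eval f = 0 := by rw [← hP, G'.P_eval]
  have key : ∀ X Y : A ⊗[C] C' →+* k, (∀ c, X (1 ⊗ₜ c) = Y (1 ⊗ₜ c)) → Y f = 0 ∨ Y f = X f := by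
    intro X Y h
    refine F'.root_scalar X f (Y f) ?_
    rw [← hq, Polynomial.map_map]
    have : X.comp (Algebra.TensorProduct.includeRight : C' →ₐ[C] A ⊗[C] C').toRingHom =
        Y.comp (Algebra.TensorProduct.includeRight : C' →ₐ[C] A ⊗[C] C').toRingHom :=
      RingHom.ext fun c => h c
    rw [this, ← Polynomial.map_map, hq, Polynomial.eval_map,
      Polynomial.eval₂_at_apply, h0, map_zero]
  rcases key X Y h with h1 | h1
  · rcases key Y X (fun c => (h c).symm) with h2 | h2
    · rw [h1, h2]
    · exact h2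
  · exact h1.symm

end GR

end Groth.Agent.GrpdLib
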