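import Groth.Prelude.Def_Grpd
import Groth.Agent.Grpd.Norm
import Mathlib.AlgebraicGeometry.Morphisms.Finite
import Mathlib.AlgebraicGeometry.Morphisms.Flat
import Mathlib.AlgebraicGeometry.Morphisms.FinitePresentation
import Mathlib.AlgebraicGeometry.Morphisms.QuasiFinite
import Mathlib.AlgebraicGeometry.PullbackCarrier
import Mathlib.RingTheory.Flat.EquationalCriterion
import Mathlib.RingTheory.Finiteness.ModuleFinitePresentation
import Mathlib.RingTheory.Ideal.GoingUp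
import Mathlib.RingTheory.LocalRing.ResidueField.Ideal

/-!
Invariant affine opens of a finite locally free groupoid.
-/

universe u

open AlgebraicGeometry CategoryTheory CategoryTheory.Limits TopologicalSpace

namespace Groth.Agent.GrpdLib

/-- The norm detects invertibility along the fibres. -/
theorem Frame.nrm_notMem_iff {A B : Type u} [CommRing A] [CommRing B] [Algebra A B] {n : ℕ}
    (F : Frame A B (Fin n)) [Module.Finite A B] (ψ : B) (u : Ideal A) [u.IsPrime] :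
    F.nrm ψ ∉ u ↔ ∀ P : Ideal B, P.IsPrime → P.comap (algebraMap A B) = u → ψ ∉ P := by
  constructor
  · intro hN P hP hPu hψ
    refine hN ?_
    rw [← hPu, Ideal.mem_comap, ← F.eval_one_charpoly]
    have h2 := (((F.M (1 - ψ)).charpoly).map (algebraMap A B)).sub_dvd_eval_sub 1 (1 - ψ)
    rw [sub_sub_cancel, Polynomial.eval_map (algebraMap A B) (1 - ψ), ← Polynomial.aeval_def,
      F.aeval_charpoly, sub_zero, Polynomial.eval_one_map] at h2
    exact Ideal.mem_of_dvd _ h2 hψ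
  · intro hψ
    by_cases hle : (Ideal.span {ψ}).comap (algebraMap A B) ≤ u
    · obtain ⟨P, hP, hPo⟩ := Ideal.exists_ideal_over_prime_of_isIntegral u _ hle
      exact absurd (hP (Ideal.mem_span_singleton_self _)) (hψ P hPo.1 hPo.2)
    · obtain ⟨a, ha, ha'⟩ := SetLike.not_le_iff_exists.1 hle
      obtain ⟨b, hb⟩ := Ideal.mem_span_singleton'.1 (Ideal.mem_comap.1 ha)
      intro hN
      exact F.nrm_ne_zero_of_eq_mul (algebraMap A u.ResidueField) ψ b a
        (fun h0 => ha' (Ideal.algebraMap_residueField_eq_zero.1 h0)) (by rw [mul_comm]; exact hb)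
        (Ideal.algebraMap_residueField_eq_zero.2 hN)

/-- On affine schemes, the image of a vanishing locus under a finite locally free morphism is
cut out by the norm. -/
theorem exists_norm {P X : Scheme.{u}} [IsAffine P] [IsAffine X] (g : P ⟶ X) [IsFinite g] [Flat g]
    [LocallyOfFinitePresentation g] (ψ : Γ(P, ⊤)) :
    ∃ N : Γ(X, ⊤), ∀ x : X, x ∈ X.basicOpen N ↔ ∀ p : P, g p = x → p ∈ P.basicOpen ψ := by
  letI := g.appTop.hom.toAlgebra
  have : Module.Finite Γ(X, ⊤) Γ(P, ⊤) := g.finite_appTop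
  have : Module.Flat Γ(X, ⊤) Γ(P, ⊤) := g.flat_appTop
  have : Algebra.FinitePresentation Γ(X, ⊤) Γ(P, ⊤) := g.finitePresentation_appTop
  have := Module.FinitePresentation.of_finite_of_finitePresentation Γ(X, ⊤) Γ(P, ⊤)
  have : Module.Projective Γ(X, ⊤) Γ(P, ⊤) := Module.Flat.projective_of_finitePresentation
  obtain ⟨n, ⟨F⟩⟩ := Frame.exists_frame Γ(X, ⊤) Γ(P, ⊤)
  refine ⟨F.nrm ψ, fun x => ?_⟩
  have hX : ∀ (Y : Scheme.{u}) (r : Γ(Y, ⊤)) (y : Y), y ∈ Y.basicOpen r ↔ r ∉ (Y.toSpecΓ y).asIdeal :=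
    fun Y r y => by rw [← Scheme.toSpecΓ_preimage_basicOpen]; rfl
  have hnat : ∀ p : P, X.toSpecΓ (g p) =
      PrimeSpectrum.comap (algebraMap Γ(X, ⊤) Γ(P, ⊤)) (P.toSpecΓ p) := fun p => by
    rw [← Scheme.Hom.comp_apply, Scheme.toSpecΓ_naturality]
    rfl
  have hbij : ∀ (Y : Scheme.{u}) [IsAffine Y], Function.Bijective Y.toSpecΓ := fun Y _ =>
    ConcreteCategory.bijective_of_isIso Y.toSpecΓ.base
  rw [hX, F.nrm_notMem_iff]
  constructor
  · intro h p hp
    rw [hX]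
    refine h _ (P.toSpecΓ p).2 ?_
    rw [← hp, hnat]
    rfl
  · intro h Q hQ hQx
    obtain ⟨p, hp⟩ := (hbij P).2 ⟨Q, hQ⟩
    have hpx : g p = x := (hbij X).1 (by
      rw [hnat, hp]
      exact PrimeSpectrum.ext hQx)
    have := (hX P ψ p).1 (h p hpx)
    rw [hp] at this
    exact this

/-- A finite set of points in an open of an affine scheme lies in a basic open inside it. -/
theorem exists_basicOpen_of_finite {X : Scheme.{u}} [IsAffine X] (O : X.Opens) {E : Set X}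
    (hE : E.Finite) (hEO : E ⊆ O) : ∃ f : Γ(X, ⊤), X.basicOpen f ≤ O ∧ E ⊆ X.basicOpen f := by
  obtain ⟨hbij, hemb⟩ : Function.Bijective X.toSpecΓ ∧ Topology.IsClosedEmbedding X.toSpecΓ :=
    ⟨ConcreteCategory.bijective_of_isIso X.toSpecΓ.base,
      (TopCat.homeoOfIso (asIso X.toSpecΓ.base)).isClosedEmbedding⟩
  obtain ⟨I, hI⟩ := (PrimeSpectrum.isClosed_iff_zeroLocus_ideal _).1
    (hemb.isClosedMap _ O.2.isClosed_compl)
  have hX : ∀ (r : Γ(X, ⊤)) (y : X), y ∈ X.basicOpen r ↔ r ∉ (X.toSpecΓ y).asIdeal :=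
    fun r y => by rw [← Scheme.toSpecΓ_preimage_basicOpen]; rfl
  rcases E.eq_empty_or_nonempty with rfl | ⟨y₀, hy₀⟩
  · exact ⟨0, by simp, by simp⟩
  have hnot : ¬ ((I : Set Γ(X, ⊤)) ⊆ ⋃ y ∈ E, ((X.toSpecΓ y).asIdeal : Set Γ(X, ⊤))) := by
    rw [Ideal.subset_union_prime_finite hE y₀ y₀ fun y _ _ _ => (X.toSpecΓ y).2]
    rintro ⟨y, hy, hle⟩
    have : X.toSpecΓ y ∈ PrimeSpectrum.zeroLocus (I : Set Γ(X, ⊤)) := hle
    rw [← hI] at this
    obtain ⟨y', hy', he⟩ := this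
    exact hy' (hbij.1 he ▸ hEO hy)
  obtain ⟨f, hfI, hf⟩ := Set.not_subset.1 hnot
  simp only [Set.mem_iUnion, not_exists] at hf
  refine ⟨f, fun y hy => ?_, fun y hy => (hX f y).2 (hf y hy)⟩
  by_contra hyO
  have : X.toSpecΓ y ∈ PrimeSpectrum.zeroLocus (I : Set Γ(X, ⊤)) := hI ▸ ⟨y, hyO, rfl⟩
  exact (hX f y).1 hy (this hfI)

variable {S : Scheme.{u}} (G : Grpd.GroupoidScheme S)

/-- Two composable arrows compose. -/
lemma exists_comp {r₁ r₂ : G.R} (h : G.s r₁ = G.t r₂) :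
    ∃ r, G.t r = G.t r₁ ∧ G.s r = G.s r₂ := by
  obtain ⟨z, hz₁, hz₂⟩ := Scheme.Pullback.exists_preimage_pullback (f := G.s) (g := G.t) r₁ r₂ h
  have hs := G.comp_s (pullback.fst G.s G.t) (pullback.snd G.s G.t) pullback.condition
  have ht := G.comp_t (pullback.fst G.s G.t) (pullback.snd G.s G.t) pullback.condition
  have hid : pullback.lift (pullback.fst G.s G.t) (pullback.snd G.s G.t) pullback.condition = 𝟙 _ :=
    pullback.hom_ext (by simp) (by simp)
  rw [hid, Category.id_comp] at hs ht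
  refine ⟨G.c z, ?_, ?_⟩
  · rw [← Scheme.Hom.comp_apply, ht, Scheme.Hom.comp_apply, hz₁]
  · rw [← Scheme.Hom.comp_apply, hs, Scheme.Hom.comp_apply, hz₂]

lemma exists_inv (r : G.R) : ∃ r', G.t r' = G.s r ∧ G.s r' = G.t r :=
  ⟨G.i r, by rw [← Scheme.Hom.comp_apply, G.i_t], by rw [← Scheme.Hom.comp_apply, G.i_s]⟩

lemma exists_id (x : G.U) : ∃ r, G.t r = x ∧ G.s r = x :=
  ⟨G.e x, by rw [← Scheme.Hom.comp_apply, G.e_t]; rfl, by rw [← Scheme.Hom.comp_apply, G.e_s]; rfl⟩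

/-- The orbit of a point. -/
def orbit (x : G.U) : Set G.U := G.t '' (G.s ⁻¹' {x})

/-- The saturation of a set. -/
def sat (E : Set G.U) : Set G.U := G.t '' (G.s ⁻¹' E)

lemma subset_sat (E : Set G.U) : E ⊆ sat G E := fun x hx => by
  obtain ⟨r, h₁, h₂⟩ := exists_id G x
  exact ⟨r, show G.s r ∈ E by rw [h₂]; exact hx, h₁⟩

lemma mem_sat_iff (E : Set G.U) (r : G.R) : G.s r ∈ sat G E ↔ G.t r ∈ sat G E := by
  constructor
  · rintro ⟨r', hr', he⟩
    obtain ⟨r'', h₁, h₂⟩ := exists_comp G (r₁ := r) (r₂ := r') he.symm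
    exact ⟨r'', show G.s r'' ∈ E by rw [h₂]; exact hr', h₁⟩
  · rintro ⟨r', hr', he⟩
    obtain ⟨ri, hi₁, hi₂⟩ := exists_inv G r
    obtain ⟨r'', h₁, h₂⟩ := exists_comp G (r₁ := ri) (r₂ := r') (hi₂.trans he.symm)
    exact ⟨r'', show G.s r'' ∈ E by rw [h₂]; exact hr', h₁.trans hi₁⟩

/-- The largest invariant open inside an open. -/
def core [IsFinite G.t] (O : G.U.Opens) : G.U.Opens :=
  ⟨(sat G (O : Set G.U)ᶜ)ᶜ,
    (G.t.isClosedMap _ (O.2.isClosed_compl.preimage G.s.continuous)).isOpen_compl⟩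

lemma core_le [IsFinite G.t] (O : G.U.Opens) : core G O ≤ O := fun _ hx => by
  by_contra h
  exact hx (subset_sat G _ h)

lemma core_invariant [IsFinite G.t] (O : G.U.Opens) :
    G.s ⁻¹ᵁ core G O = G.t ⁻¹ᵁ core G O := by
  ext r
  exact not_congr (mem_sat_iff G _ r)

lemma mem_core_iff [IsFinite G.t] (O : G.U.Opens) (x : G.U) :
    x ∈ core G O ↔ ∀ r, G.s r = x → G.t r ∈ O := by
  constructor
  · intro hx r hr
    by_contra h
    obtain ⟨r', h₁, h₂⟩ := exists_inv G r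
    exact hx ⟨r', show G.s r' ∈ (O : Set G.U)ᶜ by rw [h₂]; exact h, h₁.trans hr⟩
  · rintro h ⟨r, hr, rfl⟩
    obtain ⟨r', h₁, h₂⟩ := exists_inv G r
    exact hr (show G.s r ∈ O from h₁ ▸ h r' h₂)

variable [IsFinite G.s] [Flat G.s] [LocallyOfFinitePresentation G.s] [IsFinite G.t]

omit [Flat G.s] [LocallyOfFinitePresentation G.s] [IsFinite G.t] in
lemma orbit_finite (x : G.U) : (orbit G x).Finite := (G.s.finite_preimage_singleton x).image _

/-- An orbit inside an affine open and an invariant open has an invariant affine neighbourhood. -/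
theorem exists_invariant_affine (x : G.U) (V : G.U.Opens) (hV : IsAffineOpen V)
    (O : G.U.Opens) (hx : orbit G x ⊆ (V : Set G.U) ∩ O) :
    ∃ W : G.U.Opens, IsAffineOpen W ∧ x ∈ W ∧ W ≤ O ∧ W ≤ V ∧ G.s ⁻¹ᵁ W = G.t ⁻¹ᵁ W := by
  let U' := core G (V ⊓ O)
  have hE : orbit G x ⊆ U' := by
    rintro _ ⟨r, hr, rfl⟩
    refine (mem_core_iff G _ _).2 fun r' hr' => ?_
    obtain ⟨r'', h₁, h₂⟩ := exists_comp G (r₁ := r') (r₂ := r) hr'
    rw [← h₁]
    exact hx ⟨r'', show G.s r'' ∈ ({x} : Set G.U) from h₂.trans hr, rfl⟩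
  have : IsAffine V.toScheme := hV
  obtain ⟨fV, hfle, hfE⟩ := exists_basicOpen_of_finite (V.ι ⁻¹ᵁ U') (E := V.ι ⁻¹' orbit G x)
    ((orbit_finite G x).preimage V.ι.isOpenEmbedding.injective.injOn) fun y hy => hE hy
  let V₁ : G.U.Opens := V.ι ''ᵁ V.toScheme.basicOpen fV
  have hV₁ : IsAffineOpen V₁ := ((isAffineOpen_top V.toScheme).basicOpen fV).image_of_isOpenImmersion _
  have : IsAffine V₁.toScheme := hV₁
  have hV₁U : V₁ ≤ U' := by
    rintro _ ⟨y, hy, rfl⟩
    exact hfle hy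
  let P := G.s ⁻¹ᵁ V₁
  have hP : IsAffineOpen P := hV₁.preimage G.s
  have : IsAffine P.toScheme := hP
  have hPV : P ≤ G.t ⁻¹ᵁ V := fun r hr => by
    have h1 : r ∈ G.t ⁻¹ᵁ U' := core_invariant G (V ⊓ O) ▸ (hV₁U hr : r ∈ G.s ⁻¹ᵁ U')
    exact (core_le G _ h1).1
  let g := G.s ∣_ V₁
  have hgfin : IsFinite g := IsZariskiLocalAtTarget.restrict ‹IsFinite G.s› _
  have hgflat : Flat g := IsZariskiLocalAtTarget.restrict ‹Flat G.s› _
  have hgfp : LocallyOfFinitePresentation g :=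
    IsZariskiLocalAtTarget.restrict ‹LocallyOfFinitePresentation G.s› _
  obtain ⟨N, hN⟩ := exists_norm g ((G.t.resLE V P hPV).appTop fV)
  have hψ : ∀ p : P.toScheme,
      p ∈ P.toScheme.basicOpen ((G.t.resLE V P hPV).appTop fV) ↔ G.t p.1 ∈ V₁ := fun p => by
    rw [← Scheme.preimage_basicOpen_top]
    show G.t.resLE V P hPV p ∈ V.toScheme.basicOpen fV ↔ _
    constructor
    · intro h
      exact ⟨_, h, Scheme.Hom.coe_resLE_apply G.t hPV p⟩
    · rintro ⟨y, hy, he⟩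
      rwa [show G.t.resLE V P hPV p = y from Subtype.ext
        ((Scheme.Hom.coe_resLE_apply G.t hPV p).trans he.symm)]
  let W := V₁.ι ''ᵁ V₁.toScheme.basicOpen N
  have hW : W = core G V₁ := by
    refine Opens.ext (Set.ext fun y => ?_)
    show y ∈ W ↔ y ∈ core G V₁
    constructor
    · rintro ⟨y', hy', rfl⟩
      refine (mem_core_iff G _ _).2 fun r hr => ?_
      have hrP : r ∈ P := show G.s r ∈ V₁ by rw [hr]; exact y'.2
      exact (hψ ⟨r, hrP⟩).1 ((hN y').1 hy' ⟨r, hrP⟩ (Subtype.ext (by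
        rw [morphismRestrict_base]
        exact hr)))
    · intro hy
      refine ⟨⟨y, core_le G _ hy⟩, (hN _).2 fun p hp => (hψ p).2 ?_, rfl⟩
      refine (mem_core_iff G _ _).1 hy p.1 ?_
      have := congrArg Subtype.val hp
      simpa [g, morphismRestrict_base] using this
  refine ⟨W, ((isAffineOpen_top V₁.toScheme).basicOpen N).image_of_isOpenImmersion _, ?_, ?_, ?_, ?_⟩
  · rw [hW, mem_core_iff]
    intro r hr
    have hmem : G.t r ∈ orbit G x := ⟨r, hr, rfl⟩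
    exact ⟨⟨G.t r, (hx hmem).1⟩, hfE hmem, rfl⟩
  · exact (V₁.ι_image_le _).trans (hV₁U.trans ((core_le G _).trans inf_le_right))
  · exact (V₁.ι_image_le _).trans (hV₁U.trans ((core_le G _).trans inf_le_left))
  · rw [hW, core_invariant]

end Groth.Agent.GrpdLib
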