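import Groth.Prelude.Def_Grpd

/-!
Restriction of a groupoid scheme to an invariant open.
-/

universe u

open AlgebraicGeometry CategoryTheory CategoryTheory.Limits

namespace Groth.Agent.GrpdLib

variable {S : Scheme.{u}} (G : Grpd.GroupoidScheme S) (W : G.U.Opens)
  (hW : G.s ⁻¹ᵁ W = G.t ⁻¹ᵁ W)

/-- The source map on the arrows over an open. -/
noncomputable def rS : (G.s ⁻¹ᵁ W).toScheme ⟶ W.toScheme := G.s ∣_ W

/-- The target map on the arrows over an invariant open. -/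
noncomputable def rT : (G.s ⁻¹ᵁ W).toScheme ⟶ W.toScheme := G.t.resLE W _ hW.le

@[reassoc] lemma rS_ι : rS G W ≫ W.ι = (G.s ⁻¹ᵁ W).ι ≫ G.s := morphismRestrict_ι _ _

@[reassoc] lemma rT_ι : rT G W hW ≫ W.ι = (G.s ⁻¹ᵁ W).ι ≫ G.t := Scheme.Hom.resLE_comp_ι _ _

lemma e_range : Set.range (W.ι ≫ G.e) ⊆ Set.range (G.s ⁻¹ᵁ W).ι := by
  rintro _ ⟨x, rfl⟩
  rw [Scheme.Opens.range_ι]
  show (W.ι ≫ G.e ≫ G.s) x ∈ W
  rw [G.e_s, Category.comp_id]
  exact x.2

include hW in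
lemma i_range : Set.range ((G.s ⁻¹ᵁ W).ι ≫ G.i) ⊆ Set.range (G.s ⁻¹ᵁ W).ι := by
  rintro _ ⟨x, rfl⟩
  rw [Scheme.Opens.range_ι]
  show ((G.s ⁻¹ᵁ W).ι ≫ G.i ≫ G.s) x ∈ W
  rw [G.i_s, ← rT_ι G W hW]
  exact (rT G W hW x).2

/-- The map on composable pairs. -/
noncomputable def pairMap : pullback (rS G W) (rT G W hW) ⟶ pullback G.s G.t :=
  pullback.map _ _ _ _ (G.s ⁻¹ᵁ W).ι (G.s ⁻¹ᵁ W).ι W.ι (rS_ι G W) (rT_ι G W hW)

lemma c_s : G.c ≫ G.s = pullback.snd G.s G.t ≫ G.s := by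
  have h := G.comp_s (pullback.fst G.s G.t) (pullback.snd G.s G.t) pullback.condition
  rwa [show pullback.lift (pullback.fst G.s G.t) (pullback.snd G.s G.t) pullback.condition = 𝟙 _ from
    pullback.hom_ext (by simp) (by simp), Category.id_comp] at h

lemma c_range : Set.range (pairMap G W hW ≫ G.c) ⊆ Set.range (G.s ⁻¹ᵁ W).ι := by
  rintro _ ⟨x, rfl⟩
  rw [Scheme.Opens.range_ι]
  show (pairMap G W hW ≫ G.c ≫ G.s) x ∈ W
  rw [c_s, pairMap, pullback.lift_snd_assoc, Category.assoc, ← rS_ι G W]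
  exact (rS G W (pullback.snd (rS G W) (rT G W hW) x)).2

lemma pair_cond {T : Scheme.{u}} {α β : T ⟶ (G.s ⁻¹ᵁ W).toScheme}
    (h : α ≫ rS G W = β ≫ rT G W hW) :
    (α ≫ (G.s ⁻¹ᵁ W).ι) ≫ G.s = (β ≫ (G.s ⁻¹ᵁ W).ι) ≫ G.t := by
  rw [Category.assoc, Category.assoc, ← rS_ι G W, ← rT_ι G W hW, reassoc_of% h]

lemma lift_pairMap {T : Scheme.{u}} {α β : T ⟶ (G.s ⁻¹ᵁ W).toScheme}
    (h : α ≫ rS G W = β ≫ rT G W hW) :
    pullback.lift α β h ≫ pairMap G W hW =
      pullback.lift (α ≫ (G.s ⁻¹ᵁ W).ι) (β ≫ (G.s ⁻¹ᵁ W).ι) (pair_cond G W hW h) := by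
  apply pullback.hom_ext
  · rw [Category.assoc, pairMap, pullback.map, pullback.lift_fst, pullback.lift_fst_assoc,
      pullback.lift_fst]
  · rw [Category.assoc, pairMap, pullback.map, pullback.lift_snd, pullback.lift_snd_assoc,
      pullback.lift_snd]

/-- The composition over an invariant open. -/
noncomputable def rC : pullback (rS G W) (rT G W hW) ⟶ (G.s ⁻¹ᵁ W).toScheme :=
  IsOpenImmersion.lift (G.s ⁻¹ᵁ W).ι _ (c_range G W hW)

lemma lift_rC_ι {T : Scheme.{u}} (α β : T ⟶ (G.s ⁻¹ᵁ W).toScheme)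
    (h : α ≫ rS G W = β ≫ rT G W hW) :
    (pullback.lift α β h ≫ rC G W hW) ≫ (G.s ⁻¹ᵁ W).ι =
      pullback.lift (α ≫ (G.s ⁻¹ᵁ W).ι) (β ≫ (G.s ⁻¹ᵁ W).ι) (pair_cond G W hW h) ≫ G.c := by
  rw [Category.assoc, rC, IsOpenImmersion.lift_fac, ← Category.assoc, lift_pairMap]

lemma lift_c_congr {T : Scheme.{u}} {α α' β β' : T ⟶ G.R} (h₁ : α = α') (h₂ : β = β')
    (h : α ≫ G.s = β ≫ G.t) (h' : α' ≫ G.s = β' ≫ G.t) :
    pullback.lift α β h ≫ G.c = pullback.lift α' β' h' ≫ G.c := by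
  subst h₁ h₂
  rfl

/-- The unit over an invariant open. -/
noncomputable def rE : W.toScheme ⟶ (G.s ⁻¹ᵁ W).toScheme :=
  IsOpenImmersion.lift (G.s ⁻¹ᵁ W).ι _ (e_range G W)

/-- The inverse over an invariant open. -/
noncomputable def rI : (G.s ⁻¹ᵁ W).toScheme ⟶ (G.s ⁻¹ᵁ W).toScheme :=
  IsOpenImmersion.lift (G.s ⁻¹ᵁ W).ι _ (i_range G W hW)

@[reassoc (attr := simp)] lemma rE_ι : rE G W ≫ (G.s ⁻¹ᵁ W).ι = W.ι ≫ G.e :=
  IsOpenImmersion.lift_fac _ _ _

@[reassoc (attr := simp)] lemma rI_ι : rI G W hW ≫ (G.s ⁻¹ᵁ W).ι = (G.s ⁻¹ᵁ W).ι ≫ G.i :=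
  IsOpenImmersion.lift_fac _ _ _

/-- The restriction of a groupoid scheme to an invariant open. -/
noncomputable def restrict : Grpd.GroupoidScheme S where
  U := W.toScheme
  R := (G.s ⁻¹ᵁ W).toScheme
  pU := W.ι ≫ G.pU
  pR := (G.s ⁻¹ᵁ W).ι ≫ G.pR
  s := rS G W
  t := rT G W hW
  e := rE G W
  i := rI G W hW
  c := rC G W hW
  s_over := by rw [rS_ι_assoc, G.s_over]
  t_over := by rw [rT_ι_assoc, G.t_over]
  comp_s α β h := by
    rw [← cancel_mono W.ι, Category.assoc (pullback.lift α β h ≫ rC G W hW), rS_ι, ← Category.assoc,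
      lift_rC_ι, G.comp_s, Category.assoc β, Category.assoc β, rS_ι]
  comp_t α β h := by
    rw [← cancel_mono W.ι, Category.assoc (pullback.lift α β h ≫ rC G W hW), rT_ι, ← Category.assoc,
      lift_rC_ι, G.comp_t, Category.assoc α, Category.assoc α, rT_ι]
  assoc α β γ h₁ h₂ := by
    rw [← cancel_mono (G.s ⁻¹ᵁ W).ι]
    refine (lift_rC_ι G W hW _ _ _).trans (Eq.trans ?_ (lift_rC_ι G W hW _ _ _).symm)
    exact (lift_c_congr G (lift_rC_ι G W hW α β h₁) rfl _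
      ((G.comp_s _ _ _).trans (pair_cond G W hW h₂))).trans
      ((G.assoc _ _ _ (pair_cond G W hW h₁) (pair_cond G W hW h₂)).trans
        (lift_c_congr G rfl (lift_rC_ι G W hW β γ h₂).symm _ _))
  e_s := by rw [← cancel_mono W.ι, Category.assoc, rS_ι, rE_ι_assoc, G.e_s, Category.comp_id,
    Category.id_comp]
  e_t := by rw [← cancel_mono W.ι, Category.assoc, rT_ι, rE_ι_assoc, G.e_t, Category.comp_id,
    Category.id_comp]
  comp_e α := by
    rw [← cancel_mono (G.s ⁻¹ᵁ W).ι, lift_rC_ι]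
    refine (lift_c_congr G rfl ?_ _ ?_).trans (G.comp_e (α ≫ (G.s ⁻¹ᵁ W).ι))
    · rw [Category.assoc, Category.assoc, rE_ι, rS_ι_assoc, Category.assoc]
    · rw [Category.assoc, Category.assoc, Category.assoc, Category.assoc, G.e_t, Category.comp_id]
  e_comp α := by
    rw [← cancel_mono (G.s ⁻¹ᵁ W).ι, lift_rC_ι]
    refine (lift_c_congr G ?_ rfl _ ?_).trans (G.e_comp (α ≫ (G.s ⁻¹ᵁ W).ι))
    · rw [Category.assoc, Category.assoc, rE_ι, rT_ι_assoc, Category.assoc]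
    · rw [Category.assoc, Category.assoc, Category.assoc, Category.assoc, G.e_s, Category.comp_id]
  i_s := by rw [← cancel_mono W.ι, Category.assoc, rS_ι, rI_ι_assoc, G.i_s, rT_ι]
  i_t := by rw [← cancel_mono W.ι, Category.assoc, rT_ι, rI_ι_assoc, G.i_t, rS_ι]
  comp_i α := by
    rw [← cancel_mono (G.s ⁻¹ᵁ W).ι, lift_rC_ι]
    refine (lift_c_congr G rfl ?_ _ ?_).trans ((G.comp_i (α ≫ (G.s ⁻¹ᵁ W).ι)).trans ?_)
    · rw [Category.assoc, rI_ι, Category.assoc]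
    · rw [Category.assoc, Category.assoc, Category.assoc, G.i_t]
    · simp [rT_ι_assoc]
  i_comp α := by
    rw [← cancel_mono (G.s ⁻¹ᵁ W).ι, lift_rC_ι]
    refine (lift_c_congr G ?_ rfl _ ?_).trans ((G.i_comp (α ≫ (G.s ⁻¹ᵁ W).ι)).trans ?_)
    · rw [Category.assoc, rI_ι, Category.assoc]
    · rw [Category.assoc, Category.assoc, Category.assoc, G.i_s]
    · simp [rS_ι_assoc]

instance [IsFinite G.s] : IsFinite (restrict G W hW).s := IsZariskiLocalAtTarget.restrict ‹_› _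

instance [Flat G.s] : Flat (restrict G W hW).s := IsZariskiLocalAtTarget.restrict ‹_› _

instance [LocallyOfFinitePresentation G.s] : LocallyOfFinitePresentation (restrict G W hW).s :=
  IsZariskiLocalAtTarget.restrict ‹_› _

lemma restrict_t_eq : (restrict G W hW).t = (G.R.isoOfEq hW).hom ≫ (G.t ∣_ W) := by
  show rT G W hW = _
  rw [← cancel_mono W.ι, rT_ι, Category.assoc, morphismRestrict_ι, Scheme.isoOfEq_hom_ι_assoc]

instance [IsFinite G.t] : IsFinite (restrict G W hW).t := by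
  have : IsFinite (G.t ∣_ W) := IsZariskiLocalAtTarget.restrict ‹_› _
  rw [restrict_t_eq]
  exact (MorphismProperty.cancel_left_of_respectsIso @IsFinite _ _).2 this

instance [Flat G.t] : Flat (restrict G W hW).t := by
  have : Flat (G.t ∣_ W) := IsZariskiLocalAtTarget.restrict ‹_› _
  rw [restrict_t_eq]
  exact (MorphismProperty.cancel_left_of_respectsIso @Flat _ _).2 this

instance [LocallyOfFinitePresentation G.t] : LocallyOfFinitePresentation (restrict G W hW).t := by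
  have : LocallyOfFinitePresentation (G.t ∣_ W) := IsZariskiLocalAtTarget.restrict ‹_› _
  rw [restrict_t_eq]
  exact (MorphismProperty.cancel_left_of_respectsIso @LocallyOfFinitePresentation _ _).2 this

instance [Mono G.j] : Mono (restrict G W hW).j := by
  refine ⟨fun {T} α β h => ?_⟩
  have h1 : (α ≫ (G.s ⁻¹ᵁ W).ι) ≫ G.j = (β ≫ (G.s ⁻¹ᵁ W).ι) ≫ G.j := by
    apply pullback.hom_ext
    · have := congrArg (· ≫ pullback.fst _ _ ≫ W.ι) h
      simp only [restrict, Grpd.GroupoidScheme.j, Category.assoc] at this ⊢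
      rw [pullback.lift_fst]
      rw [pullback.lift_fst_assoc, rT_ι] at this
      exact this
    · have := congrArg (· ≫ pullback.snd _ _ ≫ W.ι) h
      simp only [restrict, Grpd.GroupoidScheme.j, Category.assoc] at this ⊢
      rw [pullback.lift_snd]
      rw [pullback.lift_snd_assoc, rS_ι] at this
      exact this
  exact (cancel_mono (G.s ⁻¹ᵁ W).ι).1 ((cancel_mono G.j).1 h1)

end Groth.Agent.GrpdLib
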