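import Groth.Agent.Grpd.AffineQuot
import Groth.Agent.Grpd.InvAffine
import Groth.Agent.Grpd.Restrict

/-!
The quotient of a finite locally free groupoid with orbits inside affine opens.
-/

universe u

open AlgebraicGeometry CategoryTheory CategoryTheory.Limits TopologicalSpace

namespace Groth.Agent.GrpdLib

variable {S : Scheme.{u}} (G : Grpd.GroupoidScheme S)

/-- Invariant affine opens. -/
abbrev InvAff : Type u := {W : G.U.Opens // IsAffineOpen W ∧ G.s ⁻¹ᵁ W = G.t ⁻¹ᵁ W}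

variable {G}

/-- The groupoid on an invariant affine open. -/
noncomputable abbrev InvAff.gr (W : InvAff G) : Grpd.GroupoidScheme S := restrict G W.1 W.2.2

instance (W : InvAff G) : IsAffine W.gr.U := W.2.1

instance [IsFinite G.s] (W : InvAff G) : IsAffine W.gr.R := W.2.1.preimage G.s

variable [IsFinite G.s] [Flat G.s] [LocallyOfFinitePresentation G.s]
  [IsFinite G.t] [Flat G.t] [LocallyOfFinitePresentation G.t]

/-- The quotient chart. -/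
noncomputable abbrev InvAff.chart (W : InvAff G) : Scheme.{u} :=
  Spec (CommRingCat.of W.gr.invariants)

/-- The quotient map onto a chart. -/
noncomputable abbrev InvAff.q (W : InvAff G) : W.1.toScheme ⟶ W.chart := W.gr.toQuot

lemma InvAff.isQuot (W : InvAff G) : IsQuot (rS G W.1) (rT G W.1 W.2.2) W.q :=
  isQuot_toQuot W.gr

lemma InvAff.q_w (W : InvAff G) : rT G W.1 W.2.2 ≫ W.q = rS G W.1 ≫ W.q := W.isQuot.w

lemma InvAff.epi (W : InvAff G) {Z : Scheme.{u}} {g₁ g₂ : W.chart ⟶ Z}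
    (h : W.q ≫ g₁ = W.q ≫ g₂) : g₁ = g₂ := by
  obtain ⟨hl⟩ := W.isQuot.isColimit
  exact Cofork.IsColimit.hom_ext hl h

lemma InvAff.desc (W : InvAff G) {Z : Scheme.{u}} (g : W.1.toScheme ⟶ Z)
    (hg : rT G W.1 W.2.2 ≫ g = rS G W.1 ≫ g) : ∃ d : W.chart ⟶ Z, W.q ≫ d = g := by
  obtain ⟨hl⟩ := W.isQuot.isColimit
  exact ⟨_, (Cofork.IsColimit.desc' hl g hg).2⟩

lemma InvAff.inv_hom (W W' : InvAff G) (h : W.1 ≤ W'.1) :
    rT G W.1 W.2.2 ≫ G.U.homOfLE h ≫ W'.q = rS G W.1 ≫ G.U.homOfLE h ≫ W'.q := by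
  have h₁ : rT G W.1 W.2.2 ≫ G.U.homOfLE h =
      G.R.homOfLE (G.s.preimage_mono h) ≫ rT G W'.1 W'.2.2 := by
    simp [← cancel_mono W'.1.ι, rT_ι]
  have h₂ : rS G W.1 ≫ G.U.homOfLE h = G.R.homOfLE (G.s.preimage_mono h) ≫ rS G W'.1 := by
    simp [← cancel_mono W'.1.ι, rS_ι]
  rw [reassoc_of% h₁, reassoc_of% h₂, W'.q_w]

/-- The transition map of charts. -/
noncomputable def InvAff.trans (W W' : InvAff G) (h : W.1 ≤ W'.1) : W.chart ⟶ W'.chart :=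
  (W.desc (G.U.homOfLE h ≫ W'.q) (W.inv_hom W' h)).choose

@[reassoc]
lemma InvAff.q_trans (W W' : InvAff G) (h : W.1 ≤ W'.1) :
    W.q ≫ W.trans W' h = G.U.homOfLE h ≫ W'.q :=
  (W.desc (G.U.homOfLE h ≫ W'.q) (W.inv_hom W' h)).choose_spec

/-- The diagram of charts. -/
noncomputable def chartDiagram : InvAff G ⥤ Scheme.{u} where
  obj W := W.chart
  map {W W'} f := W.trans W' (leOfHom f)
  map_id W := W.epi (by simp [InvAff.q_trans])
  map_comp {W W' W''} f g := W.epi (by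
    rw [InvAff.q_trans, InvAff.q_trans_assoc, InvAff.q_trans, Scheme.homOfLE_homOfLE_assoc])

/-- The image of a smaller invariant open in a chart. -/
noncomputable def InvAff.img (W W' : InvAff G) : W'.chart.Opens :=
  ⟨W'.q '' (W'.1.ι ⁻¹ᵁ W.1 : Set W'.1.toScheme), W'.isQuot.isOpenMap _ (W'.1.ι ⁻¹ᵁ W.1).2⟩

lemma InvAff.preimage_img (W W' : InvAff G) : W'.q ⁻¹ᵁ W.img W' = W'.1.ι ⁻¹ᵁ W.1 := by
  refine Opens.ext (Set.ext fun x => ⟨?_, fun hx => ⟨x, hx, rfl⟩⟩)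
  rintro ⟨y, hy, he⟩
  obtain ⟨r, hr₁, hr₂⟩ := W'.isQuot.fib x y he.symm
  show x.1 ∈ W.1
  rw [← hr₁]
  have h1 : (G.s ⁻¹ᵁ W'.1).ι r ∈ G.s ⁻¹ᵁ W.1 := by
    show ((G.s ⁻¹ᵁ W'.1).ι ≫ G.s) r ∈ W.1
    rw [← rS_ι, Scheme.Hom.comp_apply, hr₂]
    exact hy
  rw [W.2.2] at h1
  show (rT G W'.1 W'.2.2 ≫ W'.1.ι) r ∈ W.1
  rw [rT_ι]
  exact h1

instance {W W' : InvAff G} (f : W ⟶ W') : IsOpenImmersion (chartDiagram.map f) := by
  show IsOpenImmersion (W.trans W' (leOfHom f))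
  generalize leOfHom f = h
  let O := W.img W'
  have hψ : Set.range (W.trans W' h) ⊆ Set.range O.ι := by
    rintro _ ⟨z, rfl⟩
    obtain ⟨x, rfl⟩ := W.isQuot.surj z
    rw [Scheme.Opens.range_ι, ← Scheme.Hom.comp_apply, InvAff.q_trans]
    refine ⟨G.U.homOfLE h x, ?_, rfl⟩
    show (G.U.homOfLE h ≫ W'.1.ι) x ∈ W.1
    rw [Scheme.homOfLE_ι]
    exact x.2
  let ψ' := IsOpenImmersion.lift O.ι _ hψ
  have ha : Set.range ((W'.q ⁻¹ᵁ O).ι ≫ W'.1.ι) ⊆ Set.range W.1.ι := by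
    rintro _ ⟨z, rfl⟩
    rw [Scheme.Opens.range_ι]
    have : (z.1 : W'.1.toScheme) ∈ W'.1.ι ⁻¹ᵁ W.1 := InvAff.preimage_img W W' ▸ z.2
    exact this
  let a := IsOpenImmersion.lift W.1.ι _ ha
  have ha' : a ≫ G.U.homOfLE h = (W'.q ⁻¹ᵁ O).ι := by
    rw [← cancel_mono W'.1.ι, Category.assoc, Scheme.homOfLE_ι, IsOpenImmersion.lift_fac]
  have hb : Set.range ((rS G W'.1 ⁻¹ᵁ (W'.q ⁻¹ᵁ O)).ι ≫ (G.s ⁻¹ᵁ W'.1).ι) ⊆
      Set.range (G.s ⁻¹ᵁ W.1).ι := by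
    rintro _ ⟨z, rfl⟩
    rw [Scheme.Opens.range_ι]
    show ((rS G W'.1 ⁻¹ᵁ (W'.q ⁻¹ᵁ O)).ι ≫ (G.s ⁻¹ᵁ W'.1).ι ≫ G.s) z ∈ W.1
    rw [← rS_ι G W'.1]
    have : rS G W'.1 z.1 ∈ W'.1.ι ⁻¹ᵁ W.1 := InvAff.preimage_img W W' ▸ z.2
    exact this
  let b := IsOpenImmersion.lift (G.s ⁻¹ᵁ W.1).ι _ hb
  have hinv : W'.isQuot.Inv O (a ≫ W.q) := by
    have h₁ : IsQuot.sD (rS G W'.1) W'.q O ≫ a = b ≫ rS G W.1 := by
      simp [← cancel_mono W.1.ι, a, b, IsQuot.sD, rS_ι]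
    have h₂ : W'.isQuot.tD O ≫ a = b ≫ rT G W.1 W.2.2 := by
      simp [← cancel_mono W.1.ι, a, b, IsQuot.tD, rT_ι]
    rw [IsQuot.Inv, reassoc_of% h₁, reassoc_of% h₂, W.q_w]
  obtain ⟨χ, hχ, -⟩ := W'.isQuot.desc O (a ≫ W.q) hinv
  have hk : Set.range (G.U.homOfLE h) ⊆ Set.range (W'.q ⁻¹ᵁ O).ι := by
    rintro _ ⟨x, rfl⟩
    rw [Scheme.Opens.range_ι, InvAff.preimage_img]
    show (G.U.homOfLE h ≫ W'.1.ι) x ∈ W.1
    rw [Scheme.homOfLE_ι]
    exact x.2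
  let k := IsOpenImmersion.lift (W'.q ⁻¹ᵁ O).ι _ hk
  have hka : k ≫ a = 𝟙 _ := by
    simp [← cancel_mono W.1.ι, a, k, IsOpenImmersion.lift_fac_assoc]
  have hkq : W.q ≫ ψ' = k ≫ (W'.q ∣_ O) := by
    simp [← cancel_mono O.ι, ψ', k, InvAff.q_trans, IsOpenImmersion.lift_fac_assoc]
  have h1 : ψ' ≫ χ = 𝟙 _ := W.epi (by
    rw [reassoc_of% hkq, hχ, reassoc_of% hka, Category.comp_id])
  have h2 : χ ≫ ψ' = 𝟙 _ := W'.isQuot.hom_ext O (by
    rw [reassoc_of% hχ, Category.comp_id, ← cancel_mono O.ι]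
    simp [ψ', InvAff.q_trans, reassoc_of% ha'])
  have : IsIso ψ' := ⟨χ, h1, h2⟩
  rw [← IsOpenImmersion.lift_fac O.ι _ hψ]
  infer_instance

variable (G) in
/-- Every orbit lies in an affine open. -/
def OrbitsAffine : Prop := ∀ x : G.U, ∃ V : G.U.Opens, IsAffineOpen V ∧ orbit G x ⊆ (V : Set G.U)

/-- An invariant affine neighbourhood inside two given ones. -/
lemma exists_invAff_le (W₁ W₂ : InvAff G) (x : G.U) (h₁ : x ∈ W₁.1) (h₂ : x ∈ W₂.1) :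
    ∃ W : InvAff G, x ∈ W.1 ∧ W.1 ≤ W₁.1 ∧ W.1 ≤ W₂.1 := by
  obtain ⟨W, hW, hxW, hW₂, hW₁, hinv⟩ := exists_invariant_affine G x W₁.1 W₁.2.1 W₂.1 (by
    rintro _ ⟨r, hr, rfl⟩
    have hr' : G.s r = x := hr
    constructor
    · exact show r ∈ G.t ⁻¹ᵁ W₁.1 from W₁.2.2 ▸ (show G.s r ∈ W₁.1 from hr' ▸ h₁)
    · exact show r ∈ G.t ⁻¹ᵁ W₂.1 from W₂.2.2 ▸ (show G.s r ∈ W₂.1 from hr' ▸ h₂))
  exact ⟨⟨W, hW, hinv⟩, hxW, hW₁, hW₂⟩

instance : (chartDiagram (G := G) ⋙ Scheme.forget).IsLocallyDirected := by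
  constructor
  intro W₁ W₂ W₃ f₁ f₂ y₁ y₂ h
  obtain ⟨x₁, rfl⟩ := W₁.isQuot.surj y₁
  obtain ⟨x₂, rfl⟩ := W₂.isQuot.surj y₂
  have e₁ : W₁.trans W₃ (leOfHom f₁) (W₁.q x₁) = W₃.q (G.U.homOfLE (leOfHom f₁) x₁) := by
    rw [← Scheme.Hom.comp_apply, W₁.q_trans, Scheme.Hom.comp_apply]
  have e₂ : W₂.trans W₃ (leOfHom f₂) (W₂.q x₂) = W₃.q (G.U.homOfLE (leOfHom f₂) x₂) := by
    rw [← Scheme.Hom.comp_apply, W₂.q_trans, Scheme.Hom.comp_apply]
  have h' : W₁.trans W₃ (leOfHom f₁) (W₁.q x₁) = W₂.trans W₃ (leOfHom f₂) (W₂.q x₂) := h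
  obtain ⟨r, hr₁, hr₂⟩ := W₃.isQuot.fib _ _ (e₁.symm.trans (h'.trans e₂))
  have hr₁' : G.t ((G.s ⁻¹ᵁ W₃.1).ι r) = x₁.1 := by
    rw [← Scheme.Hom.comp_apply, ← rT_ι G W₃.1 W₃.2.2, Scheme.Hom.comp_apply, hr₁]
    simp
  have hr₂' : G.s ((G.s ⁻¹ᵁ W₃.1).ι r) = x₂.1 := by
    rw [← Scheme.Hom.comp_apply, ← rS_ι G W₃.1, Scheme.Hom.comp_apply, hr₂]
    simp
  have hx₂ : x₁.1 ∈ W₂.1 := by
    have : (G.s ⁻¹ᵁ W₃.1).ι r ∈ G.s ⁻¹ᵁ W₂.1 := show G.s _ ∈ W₂.1 from hr₂' ▸ x₂.2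
    rw [W₂.2.2] at this
    exact hr₁' ▸ (this : G.t ((G.s ⁻¹ᵁ W₃.1).ι r) ∈ W₂.1)
  obtain ⟨W, hxW, hW₁, hW₂⟩ := exists_invAff_le W₁ W₂ x₁.1 x₁.2 hx₂
  refine ⟨W, homOfLE hW₁, homOfLE hW₂, W.q ⟨x₁.1, hxW⟩, ?_, ?_⟩
  · show W.trans W₁ hW₁ (W.q ⟨x₁.1, hxW⟩) = W₁.q x₁
    rw [← Scheme.Hom.comp_apply, W.q_trans, Scheme.Hom.comp_apply]
    exact congrArg W₁.q (Subtype.ext (by simp))
  · show W.trans W₂ hW₂ (W.q ⟨x₁.1, hxW⟩) = W₂.q x₂
    rw [← Scheme.Hom.comp_apply, W.q_trans, Scheme.Hom.comp_apply]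
    have : IsOpenImmersion (W₂.trans W₃ (leOfHom f₂)) :=
      inferInstanceAs (IsOpenImmersion (chartDiagram.map f₂))
    refine (W₂.trans W₃ (leOfHom f₂)).isOpenEmbedding.injective ?_
    rw [← h', e₁, ← Scheme.Hom.comp_apply, W₂.q_trans, Scheme.Hom.comp_apply]
    exact congrArg W₃.q (Subtype.ext (by simp))

variable (G) in
/-- The quotient scheme. -/
noncomputable def Quot : Scheme.{u} := colimit (chartDiagram (G := G))

/-- A chart of the quotient. -/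
noncomputable def InvAff.incl (W : InvAff G) : W.chart ⟶ Quot G := colimit.ι chartDiagram W

instance (W : InvAff G) : IsOpenImmersion W.incl :=
  inferInstanceAs (IsOpenImmersion (colimit.ι chartDiagram W))

@[reassoc]
lemma InvAff.trans_incl (W W' : InvAff G) (h : W.1 ≤ W'.1) : W.trans W' h ≫ W'.incl = W.incl :=
  colimit.w chartDiagram (homOfLE h)

variable (hG : OrbitsAffine G)
include hG

lemma exists_invAff (x : G.U) : ∃ W : InvAff G, x ∈ W.1 := by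
  obtain ⟨V, hV, hxV⟩ := hG x
  obtain ⟨W, hW, hxW, -, -, hinv⟩ :=
    exists_invariant_affine G x V hV ⊤ fun y hy => ⟨hxV hy, trivial⟩
  exact ⟨⟨W, hW, hinv⟩, hxW⟩

lemma invAff_cover : IsOpenCover fun W : InvAff G => W.1 := by
  rw [IsOpenCover, eq_top_iff]
  intro x _
  obtain ⟨W, hW⟩ := exists_invAff hG x
  exact Opens.mem_iSup.2 ⟨W, hW⟩

omit hG in
lemma glue_compat (W W' : InvAff G) :
    pullback.fst W.1.ι W'.1.ι ≫ W.q ≫ W.incl = pullback.snd W.1.ι W'.1.ι ≫ W'.q ≫ W'.incl := by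
  let k := pullback.fst W.1.ι W'.1.ι ≫ W.1.ι
  have hk : k = pullback.snd W.1.ι W'.1.ι ≫ W'.1.ι := pullback.condition
  let K := {W'' : InvAff G // W''.1 ≤ W.1 ∧ W''.1 ≤ W'.1}
  have hcov : IsOpenCover fun W'' : K => k ⁻¹ᵁ W''.1.1 := by
    rw [IsOpenCover, eq_top_iff]
    intro z _
    have h₁ : k z ∈ W.1 := (pullback.fst W.1.ι W'.1.ι z).2
    have h₂ : k z ∈ W'.1 := by rw [hk]; exact (pullback.snd W.1.ι W'.1.ι z).2
    obtain ⟨W'', hz, hle₁, hle₂⟩ := exists_invAff_le W W' (k z) h₁ h₂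
    exact Opens.mem_iSup.2 ⟨⟨W'', hle₁, hle₂⟩, hz⟩
  refine Scheme.Cover.hom_ext (Scheme.openCoverOfIsOpenCover _ _ hcov) _ _ fun W'' => ?_
  show (k ⁻¹ᵁ W''.1.1).ι ≫ _ = (k ⁻¹ᵁ W''.1.1).ι ≫ _
  have h₁ : (k ⁻¹ᵁ W''.1.1).ι ≫ pullback.fst W.1.ι W'.1.ι =
      (k ∣_ W''.1.1) ≫ G.U.homOfLE W''.2.1 := by
    rw [← cancel_mono W.1.ι, Category.assoc, Category.assoc, Scheme.homOfLE_ι, morphismRestrict_ι]
  have h₂ : (k ⁻¹ᵁ W''.1.1).ι ≫ pullback.snd W.1.ι W'.1.ι =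
      (k ∣_ W''.1.1) ≫ G.U.homOfLE W''.2.2 := by
    rw [← cancel_mono W'.1.ι, Category.assoc, Category.assoc, Scheme.homOfLE_ι, morphismRestrict_ι,
      hk]
  rw [reassoc_of% h₁, reassoc_of% h₂, ← InvAff.q_trans_assoc, ← InvAff.q_trans_assoc,
    InvAff.trans_incl, InvAff.trans_incl]

/-- The quotient map. -/
noncomputable def quotMap : G.U ⟶ Quot G :=
  (G.U.openCoverOfIsOpenCover _ (invAff_cover hG)).glueMorphisms
    (fun W => InvAff.q W ≫ InvAff.incl W) fun W W' => glue_compat W W'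

@[reassoc]
lemma ι_quotMap (W : InvAff G) : W.1.ι ≫ quotMap hG = W.q ≫ W.incl :=
  Scheme.Cover.ι_glueMorphisms (G.U.openCoverOfIsOpenCover _ (invAff_cover hG)) _ _ W

lemma quotMap_w : G.t ≫ quotMap hG = G.s ≫ quotMap hG := by
  have hcov : IsOpenCover fun W : InvAff G => G.s ⁻¹ᵁ W.1 := by
    rw [IsOpenCover, eq_top_iff]
    intro r _
    obtain ⟨W, hW⟩ := exists_invAff hG (G.s r)
    exact Opens.mem_iSup.2 ⟨W, hW⟩
  refine Scheme.Cover.hom_ext (Scheme.openCoverOfIsOpenCover _ _ hcov) _ _ fun W => ?_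
  show (G.s ⁻¹ᵁ W.1).ι ≫ G.t ≫ quotMap hG = (G.s ⁻¹ᵁ W.1).ι ≫ G.s ≫ quotMap hG
  rw [← rT_ι_assoc G W.1 W.2.2, ← rS_ι_assoc G W.1, ι_quotMap, ← Category.assoc, InvAff.q_w,
    Category.assoc]

lemma quotMap_apply (W : InvAff G) (x : W.1.toScheme) :
    quotMap hG x.1 = W.incl (W.q x) := by
  have := congrArg (fun g : W.1.toScheme ⟶ Quot G => g x) (ι_quotMap hG W)
  simpa using this

lemma quotMap_surjective : Function.Surjective (quotMap hG) := fun y => by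
  obtain ⟨W, y', rfl⟩ := Scheme.IsLocallyDirected.ι_jointly_surjective chartDiagram y
  obtain ⟨x, rfl⟩ := W.isQuot.surj y'
  exact ⟨x.1, quotMap_apply hG W x⟩

lemma preimage_incl (W : InvAff G) : quotMap hG ⁻¹ᵁ W.incl.opensRange = W.1 := by
  refine Opens.ext (Set.ext fun x => ⟨?_, fun hx => ⟨W.q ⟨x, hx⟩, (quotMap_apply hG W ⟨x, hx⟩).symm⟩⟩)
  rintro ⟨y, hy⟩
  obtain ⟨W', hW'⟩ := exists_invAff hG x
  rw [quotMap_apply hG W' ⟨x, hW'⟩] at hy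
  obtain ⟨W'', f₁, f₂, z, hz₁, hz₂⟩ :=
    (Scheme.IsLocallyDirected.ι_eq_ι_iff (chartDiagram (G := G))).1 hy
  obtain ⟨z, rfl⟩ := W''.isQuot.surj z
  have hz₂' : W'.q (G.U.homOfLE (leOfHom f₂) z) = W'.q ⟨x, hW'⟩ := by
    rw [← hz₂, ← Scheme.Hom.comp_apply]
    exact congrArg (fun g : W''.1.toScheme ⟶ W'.chart => g z) (W''.q_trans W' (leOfHom f₂)).symm
  obtain ⟨r, hr₁, hr₂⟩ := W'.isQuot.fib _ _ hz₂'
  have hr₁' : G.t ((G.s ⁻¹ᵁ W'.1).ι r) = z.1 := by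
    rw [← Scheme.Hom.comp_apply, ← rT_ι G W'.1 W'.2.2, Scheme.Hom.comp_apply, hr₁]
    simp
  have hr₂' : G.s ((G.s ⁻¹ᵁ W'.1).ι r) = x := by
    rw [← Scheme.Hom.comp_apply, ← rS_ι G W'.1, Scheme.Hom.comp_apply, hr₂]
    rfl
  have : (G.s ⁻¹ᵁ W'.1).ι r ∈ G.t ⁻¹ᵁ W.1 :=
    show G.t _ ∈ W.1 from hr₁' ▸ leOfHom f₁ z.2
  rw [← W.2.2] at this
  exact hr₂' ▸ (this : G.s ((G.s ⁻¹ᵁ W'.1).ι r) ∈ W.1)

/-- Points with the same image are related by an arrow. -/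
lemma quotMap_fib (x y : G.U) (h : quotMap hG x = quotMap hG y) :
    ∃ r, G.t r = x ∧ G.s r = y := by
  obtain ⟨W, hx⟩ := exists_invAff hG x
  have hy : y ∈ W.1 := by
    rw [← preimage_incl hG W]
    exact ⟨W.q ⟨x, hx⟩, by rw [← quotMap_apply hG W ⟨x, hx⟩]; exact h⟩
  rw [quotMap_apply hG W ⟨x, hx⟩, quotMap_apply hG W ⟨y, hy⟩] at h
  obtain ⟨r, hr₁, hr₂⟩ := W.isQuot.fib _ _ (W.incl.isOpenEmbedding.injective h)
  refine ⟨(G.s ⁻¹ᵁ W.1).ι r, ?_, ?_⟩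
  · rw [← Scheme.Hom.comp_apply, ← rT_ι G W.1 W.2.2, Scheme.Hom.comp_apply, hr₁]; rfl
  · rw [← Scheme.Hom.comp_apply, ← rS_ι G W.1, Scheme.Hom.comp_apply, hr₂]; rfl

lemma quotMap_isOpenMap : IsOpenMap (quotMap hG) := by
  intro O hO
  rw [isOpen_iff_forall_mem_open]
  rintro _ ⟨x, hx, rfl⟩
  obtain ⟨W, hW⟩ := exists_invAff hG x
  refine ⟨W.incl '' (W.q '' (W.1.ι ⁻¹' O)), ?_, W.incl.isOpenEmbedding.isOpenMap _
    (W.isQuot.isOpenMap _ (hO.preimage W.1.ι.continuous)), ?_⟩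
  · rintro _ ⟨_, ⟨z, hz, rfl⟩, rfl⟩
    exact ⟨z.1, hz, quotMap_apply hG W z⟩
  · exact ⟨_, ⟨⟨x, hW⟩, hx, rfl⟩, (quotMap_apply hG W ⟨x, hW⟩).symm⟩

/-- The quotient map is a coequalizer. -/
theorem quotMap_isColimit : Nonempty (IsColimit (Cofork.ofπ (quotMap hG) (quotMap_w hG))) := by
  have hepi : ∀ {Z : Scheme.{u}} {g₁ g₂ : Quot G ⟶ Z}, quotMap hG ≫ g₁ = quotMap hG ≫ g₂ → g₁ = g₂ := by
    intro Z g₁ g₂ h
    refine colimit.hom_ext fun W => InvAff.epi W ?_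
    have := congrArg (W.1.ι ≫ ·) h
    simp only [ι_quotMap_assoc] at this
    exact this
  have key : ∀ c : Cofork G.t G.s, ∃ g : Quot G ⟶ c.pt, quotMap hG ≫ g = c.π := by
    intro c
    have hd : ∀ W : InvAff G, ∃ d : W.chart ⟶ c.pt, W.q ≫ d = W.1.ι ≫ c.π := fun W =>
      W.desc _ (by rw [rT_ι_assoc, rS_ι_assoc, c.condition])
    choose d hd using hd
    let cc : Cocone (chartDiagram (G := G)) :=
      { pt := c.pt
        ι := { app := fun W => d W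
               naturality := fun W W' f => W.epi (by
                 show W.q ≫ W.trans W' (leOfHom f) ≫ d W' = W.q ≫ d W ≫ 𝟙 _
                 rw [InvAff.q_trans_assoc, hd, Category.comp_id, hd, Scheme.homOfLE_ι_assoc]) } }
    refine ⟨colimit.desc _ cc, ?_⟩
    refine Scheme.Cover.hom_ext (G.U.openCoverOfIsOpenCover _ (invAff_cover hG)) _ _ fun W => ?_
    show W.1.ι ≫ quotMap hG ≫ colimit.desc _ cc = W.1.ι ≫ c.π
    rw [ι_quotMap_assoc, ← hd W]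
    exact congrArg (W.q ≫ ·) (colimit.ι_desc cc W)
  exact ⟨Cofork.IsColimit.mk _ (fun c => (key c).choose) (fun c => (key c).choose_spec)
    (fun c m hm => hepi (hm.trans (key c).choose_spec.symm))⟩

/-- The open cover of the quotient by charts. -/
noncomputable def chartCover : (Quot G).OpenCover :=
  Scheme.IsLocallyDirected.openCover (chartDiagram (G := G))

lemma isPullback_chart (W : InvAff G) : IsPullback W.q W.1.ι W.incl (quotMap hG) :=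
  IsOpenImmersion.isPullback _ _ _ _ (ι_quotMap hG W)
    (by rw [preimage_incl, Scheme.Opens.opensRange_ι])

lemma quotMap_property (P : MorphismProperty Scheme.{u}) [IsZariskiLocalAtTarget P]
    (h : ∀ W : InvAff G, P W.q) : P (quotMap hG) := by
  refine IsZariskiLocalAtTarget.of_openCover (Scheme.IsLocallyDirected.openCover (chartDiagram (G := G)))
    fun W => ?_
  have hpb := (isPullback_chart hG W).flip
  show P (pullback.snd (quotMap hG) W.incl)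
  rw [← hpb.isoPullback_inv_snd]
  exact (MorphismProperty.cancel_left_of_respectsIso P _ _).2 (h W)

lemma quotMap_isIntegralHom : IsIntegralHom (quotMap hG) :=
  quotMap_property hG @IsIntegralHom fun W => isIntegralHom_toQuot W.gr

/-- Geometric points of the fibre square come from geometric arrows. -/
lemma quotMap_lift_surjective : Function.Surjective (pullback.lift G.t G.s (quotMap_w hG)) := by
  intro z
  obtain ⟨K, _, _, c, w, hw⟩ := exists_geom_point z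
  let a := w ≫ pullback.fst (quotMap hG) (quotMap hG)
  let b := w ≫ pullback.snd (quotMap hG) (quotMap hG)
  have hab : a ≫ quotMap hG = b ≫ quotMap hG := by
    simp [a, b, pullback.condition]
  obtain ⟨W, hW⟩ := exists_invAff hG (a c)
  have hall : ∀ c' : Spec (CommRingCat.of K), c' = c := fun c' => Subsingleton.elim _ _
  have hbW : b c ∈ W.1 := by
    rw [← preimage_incl hG W]
    show quotMap hG (b c) ∈ W.incl.opensRange
    rw [← Scheme.Hom.comp_apply, ← hab, Scheme.Hom.comp_apply]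
    show a c ∈ quotMap hG ⁻¹ᵁ W.incl.opensRange
    rw [preimage_incl]
    exact hW
  have hra : Set.range a ⊆ Set.range W.1.ι := by
    rintro _ ⟨c', rfl⟩
    rw [Scheme.Opens.range_ι, hall c']
    exact hW
  have hrb : Set.range b ⊆ Set.range W.1.ι := by
    rintro _ ⟨c', rfl⟩
    rw [Scheme.Opens.range_ι, hall c']
    exact hbW
  have hq : IsOpenImmersion.lift W.1.ι a hra ≫ W.q = IsOpenImmersion.lift W.1.ι b hrb ≫ W.q := by
    rw [← cancel_mono W.incl, Category.assoc, Category.assoc, ← ι_quotMap hG W,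
      IsOpenImmersion.lift_fac_assoc, IsOpenImmersion.lift_fac_assoc, hab]
  obtain ⟨(r : _ ⟶ (G.s ⁻¹ᵁ W.1).toScheme), hr₁, hr₂⟩ := toQuot_exists_arrow W.gr _ _ hq
  refine ⟨(r ≫ (G.s ⁻¹ᵁ W.1).ι) c, ?_⟩
  have : (r ≫ (G.s ⁻¹ᵁ W.1).ι) ≫ pullback.lift G.t G.s (quotMap_w hG) = w := by
    apply pullback.hom_ext
    · rw [Category.assoc, Category.assoc, pullback.lift_fst, ← rT_ι G W.1 W.2.2, ← Category.assoc]
      exact (congrArg (· ≫ W.1.ι) hr₁).trans (IsOpenImmersion.lift_fac _ _ _)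
    · rw [Category.assoc, Category.assoc, pullback.lift_snd, ← rS_ι G W.1, ← Category.assoc]
      exact (congrArg (· ≫ W.1.ι) hr₂).trans (IsOpenImmersion.lift_fac _ _ _)
  rw [← Scheme.Hom.comp_apply, this, hw]

lemma quot_isAffine [IsAffine G.U] : IsAffine (Quot G) := by
  let W : InvAff G := ⟨⊤, isAffineOpen_top G.U, rfl⟩
  have : Surjective W.incl := ⟨fun y => by
    obtain ⟨x, rfl⟩ := quotMap_surjective hG y
    exact ⟨W.q ⟨x, trivial⟩, (quotMap_apply hG W ⟨x, trivial⟩).symm⟩⟩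
  have : Epi W.incl.base := (TopCat.epi_iff_surjective _).2 W.incl.surjective
  have : IsIso W.incl := IsOpenImmersion.isIso W.incl
  exact IsAffine.of_isIso (inv W.incl)

/-- For an equivalence relation the quotient square is cartesian. -/
theorem quotMap_isPullback [Mono G.j] : IsPullback G.t G.s (quotMap hG) (quotMap hG) := by
  have huniq : ∀ {T : Scheme.{u}} (r r' : T ⟶ G.R), r ≫ G.t = r' ≫ G.t → r ≫ G.s = r' ≫ G.s →
      r = r' := by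
    intro T r r' h₁ h₂
    rw [← cancel_mono G.j]
    apply pullback.hom_ext
    · rw [Category.assoc, Category.assoc, Grpd.GroupoidScheme.j, pullback.lift_fst]; exact h₁
    · rw [Category.assoc, Category.assoc, Grpd.GroupoidScheme.j, pullback.lift_snd]; exact h₂
  have hex : ∀ {T : Scheme.{u}} (a b : T ⟶ G.U), a ≫ quotMap hG = b ≫ quotMap hG →
      ∃ r : T ⟶ G.R, r ≫ G.t = a ∧ r ≫ G.s = b := by
    intro T a b hab
    have hcov : IsOpenCover fun W : InvAff G => a ⁻¹ᵁ W.1 := by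
      rw [IsOpenCover, eq_top_iff]
      intro x _
      obtain ⟨W, hW⟩ := exists_invAff hG (a x)
      exact Opens.mem_iSup.2 ⟨W, hW⟩
    have hW : ∀ W : InvAff G, ∃ r : (a ⁻¹ᵁ W.1).toScheme ⟶ G.R,
        r ≫ G.t = (a ⁻¹ᵁ W.1).ι ≫ a ∧ r ≫ G.s = (a ⁻¹ᵁ W.1).ι ≫ b := by
      intro W
      have hle : a ⁻¹ᵁ W.1 ≤ b ⁻¹ᵁ W.1 := by
        rw [← preimage_incl hG W, ← Scheme.Hom.comp_preimage, ← Scheme.Hom.comp_preimage, hab]
      have hq : a.resLE W.1 _ le_rfl ≫ W.q = b.resLE W.1 _ hle ≫ W.q := by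
        rw [← cancel_mono W.incl, Category.assoc, Category.assoc, ← ι_quotMap hG W,
          Scheme.Hom.resLE_comp_ι_assoc, Scheme.Hom.resLE_comp_ι_assoc, hab]
      obtain ⟨(r : _ ⟶ (G.s ⁻¹ᵁ W.1).toScheme), hr₁, hr₂⟩ :=
        (quotient_spec W.gr).2.exists_lift _ _ hq
      refine ⟨r ≫ (G.s ⁻¹ᵁ W.1).ι, ?_, ?_⟩
      · rw [Category.assoc, ← rT_ι G W.1 W.2.2, ← Category.assoc]
        exact (congrArg (· ≫ W.1.ι) hr₁).trans (Scheme.Hom.resLE_comp_ι _ _)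
      · rw [Category.assoc, ← rS_ι G W.1, ← Category.assoc]
        exact (congrArg (· ≫ W.1.ι) hr₂).trans (Scheme.Hom.resLE_comp_ι _ _)
    choose r hr₁ hr₂ using hW
    let 𝒰 := T.openCoverOfIsOpenCover _ hcov
    have hcomp : ∀ W W', pullback.fst (𝒰.f W) (𝒰.f W') ≫ r W = pullback.snd _ _ ≫ r W' :=
      fun W W' => huniq _ _
        ((Category.assoc _ _ _).trans ((congrArg (_ ≫ ·) (hr₁ W)).trans
          ((pullback.condition_assoc (f := 𝒰.f W) (g := 𝒰.f W') a).trans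
            ((congrArg (_ ≫ ·) (hr₁ W')).symm.trans (Category.assoc _ _ _).symm))))
        ((Category.assoc _ _ _).trans ((congrArg (_ ≫ ·) (hr₂ W)).trans
          ((pullback.condition_assoc (f := 𝒰.f W) (g := 𝒰.f W') b).trans
            ((congrArg (_ ≫ ·) (hr₂ W')).symm.trans (Category.assoc _ _ _).symm))))
    refine ⟨𝒰.glueMorphisms r hcomp, ?_, ?_⟩
    · exact Scheme.Cover.hom_ext 𝒰 _ _ fun W => by
        rw [Scheme.Cover.ι_glueMorphisms_assoc]; exact hr₁ W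
    · exact Scheme.Cover.hom_ext 𝒰 _ _ fun W => by
        rw [Scheme.Cover.ι_glueMorphisms_assoc]; exact hr₂ W
  exact ⟨⟨quotMap_w hG⟩, ⟨PullbackCone.IsLimit.mk _
    (fun c => (hex c.fst c.snd c.condition).choose)
    (fun c => (hex c.fst c.snd c.condition).choose_spec.1)
    (fun c => (hex c.fst c.snd c.condition).choose_spec.2)
    (fun c m h₁ h₂ => huniq _ _
      (h₁.trans (hex c.fst c.snd c.condition).choose_spec.1.symm)
      (h₂.trans (hex c.fst c.snd c.condition).choose_spec.2.symm))⟩⟩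

end Groth.Agent.GrpdLib
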