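import Mathlib.AlgebraicGeometry.Restrict
import Mathlib.AlgebraicGeometry.Gluing
import Mathlib.AlgebraicGeometry.AffineScheme
import Mathlib.CategoryTheory.Limits.Shapes.Equalizers

/-!
A criterion for a morphism of schemes to be the coequalizer of two parallel morphisms.
-/

universe u

open AlgebraicGeometry CategoryTheory CategoryTheory.Limits TopologicalSpace

namespace Groth.Agent.GrpdLib

lemma exists_hom_appTop {X V : Scheme.{u}} [IsAffine V] (φ : Γ(V, ⊤) ⟶ Γ(X, ⊤)) :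
    ∃ h : X ⟶ V, h.appTop = φ := by
  refine ⟨X.toSpecΓ ≫ Spec.map φ ≫ V.isoSpec.inv, ?_⟩
  simp [Scheme.isoSpec]

variable {R U M : Scheme.{u}} {s t : R ⟶ U} {q : U ⟶ M}

/-- Data making `q` a quotient of `U` by the relation `(s, t)`, checked on a basis of the target. -/
structure IsQuot (s t : R ⟶ U) (q : U ⟶ M) : Prop where
  w : t ≫ q = s ≫ q
  surj : Function.Surjective q
  fib : ∀ x y : U, q x = q y → ∃ r : R, t r = x ∧ s r = y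
  isOpenMap : IsOpenMap q
  basis : ∀ (O : M.Opens) (y : M), y ∈ O → ∃ D : M.Opens, y ∈ D ∧ D ≤ O ∧
    Function.Injective (q.app D) ∧
    ∀ (e₁ : s ⁻¹ᵁ (q ⁻¹ᵁ D) ≤ s ⁻¹ᵁ (q ⁻¹ᵁ D)) (e₂ : s ⁻¹ᵁ (q ⁻¹ᵁ D) ≤ t ⁻¹ᵁ (q ⁻¹ᵁ D))
      (a : Γ(U, q ⁻¹ᵁ D)), s.appLE _ _ e₁ a = t.appLE _ _ e₂ a → ∃ c, q.app D c = a

namespace IsQuot

variable (h : IsQuot s t q)
include h

lemma pre_le (D : M.Opens) : s ⁻¹ᵁ (q ⁻¹ᵁ D) ≤ t ⁻¹ᵁ (q ⁻¹ᵁ D) := by
  rw [← Scheme.Hom.comp_preimage, ← Scheme.Hom.comp_preimage, h.w]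

omit h in
/-- The source map over an open of the target. -/
noncomputable def sD (s : R ⟶ U) (q : U ⟶ M) (D : M.Opens) :
    (s ⁻¹ᵁ (q ⁻¹ᵁ D)).toScheme ⟶ (q ⁻¹ᵁ D).toScheme :=
  s.resLE _ _ le_rfl

/-- The target map over an open of the target. -/
noncomputable def tD (D : M.Opens) : (s ⁻¹ᵁ (q ⁻¹ᵁ D)).toScheme ⟶ (q ⁻¹ᵁ D).toScheme :=
  t.resLE _ _ (h.pre_le D)

/-- A morphism on the preimage of an open is invariant. -/
def Inv (D : M.Opens) {Z : Scheme.{u}} (f : (q ⁻¹ᵁ D).toScheme ⟶ Z) : Prop :=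
  sD s q D ≫ f = h.tD D ≫ f

lemma inv_mono {D O : M.Opens} (e : D ≤ O) {Z : Scheme.{u}} {f : (q ⁻¹ᵁ O).toScheme ⟶ Z}
    (hf : h.Inv O f) : h.Inv D (U.homOfLE (q.preimage_mono e) ≫ f) := by
  have h1 : sD s q D ≫ U.homOfLE (q.preimage_mono e) =
      R.homOfLE (s.preimage_mono (q.preimage_mono e)) ≫ sD s q O := by
    simp [sD, ← cancel_mono (q ⁻¹ᵁ O).ι]
  have h2 : h.tD D ≫ U.homOfLE (q.preimage_mono e) =
      R.homOfLE (s.preimage_mono (q.preimage_mono e)) ≫ h.tD O := by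
    simp [tD, ← cancel_mono (q ⁻¹ᵁ O).ι]
  rw [Inv, reassoc_of% h1, reassoc_of% h2, hf]

lemma affine_desc {D : M.Opens} (hinj : Function.Injective (q.app D))
    (hr : ∀ (e₁ : s ⁻¹ᵁ (q ⁻¹ᵁ D) ≤ s ⁻¹ᵁ (q ⁻¹ᵁ D)) (e₂ : s ⁻¹ᵁ (q ⁻¹ᵁ D) ≤ t ⁻¹ᵁ (q ⁻¹ᵁ D))
      (a : Γ(U, q ⁻¹ᵁ D)), s.appLE _ _ e₁ a = t.appLE _ _ e₂ a → ∃ c, q.app D c = a)
    {V : Scheme.{u}} [IsAffine V] (f : (q ⁻¹ᵁ D).toScheme ⟶ V) (hf : h.Inv D f) :
    ∃! g : D.toScheme ⟶ V, (q ∣_ D) ≫ g = f := by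
  have hq : (q ∣_ D).appTop = D.topIso.hom ≫ q.app D ≫ (q ⁻¹ᵁ D).topIso.inv := by
    rw [← Scheme.Hom.resLE_eq_morphismRestrict, Scheme.Hom.appTop, Scheme.Hom.resLE_app_top,
      Scheme.Hom.appLE_eq_app]
  let φ : Γ(V, ⊤) ⟶ Γ(U, q ⁻¹ᵁ D) := f.appTop ≫ (q ⁻¹ᵁ D).topIso.hom
  have hφ : φ ≫ s.appLE _ _ le_rfl = φ ≫ t.appLE _ _ (h.pre_le D) := by
    have h1 := congrArg Scheme.Hom.appTop hf
    simp only [Scheme.Hom.comp_appTop, sD, tD, Scheme.Hom.appTop, Scheme.Hom.resLE_app_top,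
      ← Category.assoc, cancel_mono] at h1
    exact h1
  have hex : ∀ x, ∃ c, q.app D c = φ x := fun x =>
    hr le_rfl (h.pre_le D) (φ x) (ConcreteCategory.congr_hom hφ x)
  choose ψ₀ hψ₀ using hex
  let ψ : Γ(V, ⊤) ⟶ Γ(M, D) := CommRingCat.ofHom
    { toFun := ψ₀
      map_one' := hinj (by rw [hψ₀, map_one, map_one])
      map_mul' := fun a b => hinj (by rw [hψ₀, map_mul, map_mul, hψ₀, hψ₀])
      map_zero' := hinj (by rw [hψ₀, map_zero, map_zero])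
      map_add' := fun a b => hinj (by rw [hψ₀, map_add, map_add, hψ₀, hψ₀]) }
  have hψ : ψ ≫ q.app D = φ := by
    ext x
    exact hψ₀ x
  obtain ⟨g, hg⟩ := exists_hom_appTop (X := D.toScheme) (ψ ≫ D.topIso.inv)
  refine ⟨g, ext_of_isAffine ?_, fun g' hg' => ext_of_isAffine ?_⟩
  · rw [Scheme.Hom.comp_appTop, hg, hq, Category.assoc, Iso.inv_hom_id_assoc, reassoc_of% hψ]
    simp only [φ, Category.assoc, Iso.hom_inv_id, Category.comp_id]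
  · rw [hg]
    have h1 := congrArg Scheme.Hom.appTop hg'
    rw [Scheme.Hom.comp_appTop, hq, ← Category.assoc, ← Category.assoc,
      ← cancel_mono (q ⁻¹ᵁ D).topIso.hom, Category.assoc, Iso.inv_hom_id, Category.comp_id] at h1
    rw [← cancel_mono D.topIso.hom, Category.assoc, Iso.inv_hom_id, Category.comp_id]
    have h2 : (g'.appTop ≫ D.topIso.hom) ≫ q.app D = ψ ≫ q.app D := h1.trans hψ.symm
    ext x
    exact hinj (ConcreteCategory.congr_hom h2 x)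

/-- Morphisms out of an open of the quotient are determined on the preimage. -/
lemma hom_ext (O : M.Opens) {Z : Scheme.{u}} {g₁ g₂ : O.toScheme ⟶ Z}
    (hg : (q ∣_ O) ≫ g₁ = (q ∣_ O) ≫ g₂) : g₁ = g₂ := by
  have hloc : ∀ y : O.toScheme, ∃ D : M.Opens, ∃ e : D ≤ O, y.1 ∈ D ∧
      M.homOfLE e ≫ g₁ = M.homOfLE e ≫ g₂ := by
    intro y
    obtain ⟨x, hx⟩ := h.surj y.1
    let x' : (q ⁻¹ᵁ O).toScheme := ⟨x, show q x ∈ O by rw [hx]; exact y.2⟩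
    have hy : (q ∣_ O) x' = y := Subtype.ext (by
      rw [morphismRestrict_base]
      exact hx)
    have hgy : g₁ y = g₂ y := by
      rw [← hy, ← Scheme.Hom.comp_apply, ← Scheme.Hom.comp_apply, hg]
    obtain ⟨_, ⟨(V : Z.Opens), hV, rfl⟩, hyV, -⟩ :=
      Z.isBasis_affineOpens.exists_subset_of_mem_open (Set.mem_univ (g₁ y)) isOpen_univ
    obtain ⟨D, hyD, hDle, hinj, hr⟩ := h.basis (O.ι ''ᵁ (g₁ ⁻¹ᵁ V ⊓ g₂ ⁻¹ᵁ V)) y.1
      ⟨y, ⟨hyV, show g₂ y ∈ V from hgy ▸ hyV⟩, rfl⟩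
    have e : D ≤ O := hDle.trans (O.ι_image_le _)
    refine ⟨D, e, hyD, ?_⟩
    have hk : ∀ g : O.toScheme ⟶ Z, D ≤ O.ι ''ᵁ (g ⁻¹ᵁ V) →
        Set.range (M.homOfLE e ≫ g) ⊆ Set.range V.ι := fun g hD => by
      rintro _ ⟨z, rfl⟩
      rw [Scheme.Opens.range_ι]
      obtain ⟨z', hz', hzz'⟩ := hD z.2
      rw [Scheme.Hom.comp_apply, show M.homOfLE e z = z' from Subtype.ext (by
        simpa using hzz'.symm)]
      exact hz'
    have k₁ := hk g₁ (hDle.trans ((O.ι).image_mono inf_le_left))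
    have k₂ := hk g₂ (hDle.trans ((O.ι).image_mono inf_le_right))
    let l₁ := IsOpenImmersion.lift V.ι _ k₁
    let l₂ := IsOpenImmersion.lift V.ι _ k₂
    have : IsAffine V.toScheme := hV
    have hres : ∀ g : O.toScheme ⟶ Z, (q ∣_ D) ≫ M.homOfLE e ≫ g =
        U.homOfLE (q.preimage_mono e) ≫ (q ∣_ O) ≫ g := fun g => by
      rw [← Category.assoc, ← Category.assoc]
      congr 1
      simp [← cancel_mono O.ι]
    have hl : (q ∣_ D) ≫ l₁ = (q ∣_ D) ≫ l₂ := by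
      rw [← cancel_mono V.ι, Category.assoc, Category.assoc, IsOpenImmersion.lift_fac,
        IsOpenImmersion.lift_fac, hres, hres, hg]
    have hinv : h.Inv D ((q ∣_ D) ≫ l₁) := by
      have : sD s q D ≫ (q ∣_ D) = h.tD D ≫ (q ∣_ D) := by
        rw [← cancel_mono D.ι]
        simp [sD, tD, h.w]
      rw [Inv, reassoc_of% this]
    have := (h.affine_desc hinj hr _ hinv).unique rfl hl.symm
    rw [← IsOpenImmersion.lift_fac V.ι _ k₁, ← IsOpenImmersion.lift_fac V.ι _ k₂]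
    exact congrArg (· ≫ V.ι) this
  choose D e hD hDg using hloc
  have hcov : TopologicalSpace.IsOpenCover fun y : O.toScheme => O.ι ⁻¹ᵁ D y := by
    rw [TopologicalSpace.IsOpenCover, eq_top_iff]
    exact fun y _ => Opens.mem_iSup.2 ⟨y, hD y⟩
  refine Scheme.Cover.hom_ext (O.toScheme.openCoverOfIsOpenCover _ hcov) _ _ fun y => ?_
  have hfac : (O.ι ⁻¹ᵁ D y).ι = (O.ι ∣_ D y) ≫ M.homOfLE (e y) := by
    simp [← cancel_mono O.ι]
  show (O.ι ⁻¹ᵁ D y).ι ≫ g₁ = (O.ι ⁻¹ᵁ D y).ι ≫ g₂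
  rw [hfac, Category.assoc, Category.assoc, hDg]

/-- Invariant morphisms on the preimage of an open descend. -/
lemma desc (O : M.Opens) {Z : Scheme.{u}} (f : (q ⁻¹ᵁ O).toScheme ⟶ Z) (hf : h.Inv O f) :
    ∃! g : O.toScheme ⟶ Z, (q ∣_ O) ≫ g = f := by
  refine existsUnique_of_exists_of_unique ?_ fun g₁ g₂ h₁ h₂ => h.hom_ext O (h₁.trans h₂.symm)
  have hloc : ∀ y : O.toScheme, ∃ D : M.Opens, ∃ e : D ≤ O, y.1 ∈ D ∧
      ∃ g : D.toScheme ⟶ Z, (q ∣_ D) ≫ g = U.homOfLE (q.preimage_mono e) ≫ f := by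
    intro y
    obtain ⟨x, hx⟩ := h.surj y.1
    let x' : (q ⁻¹ᵁ O).toScheme := ⟨x, show q x ∈ O by rw [hx]; exact y.2⟩
    obtain ⟨_, ⟨(V : Z.Opens), hV, rfl⟩, hyV, -⟩ :=
      Z.isBasis_affineOpens.exists_subset_of_mem_open (Set.mem_univ (f x')) isOpen_univ
    let P : U.Opens := (q ⁻¹ᵁ O).ι ''ᵁ (f ⁻¹ᵁ V)
    let O' : M.Opens := ⟨q '' (P : Set U), h.isOpenMap _ P.2⟩
    have hO' : q ⁻¹ᵁ O' ≤ P := by
      intro a ha
      obtain ⟨b, ⟨b', hb', rfl⟩, hba⟩ := ha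
      obtain ⟨r, hr₁, hr₂⟩ := h.fib a ((q ⁻¹ᵁ O).ι b') hba.symm
      have hrO : r ∈ s ⁻¹ᵁ (q ⁻¹ᵁ O) := by
        show q (s r) ∈ O
        rw [hr₂]
        exact b'.2
      let r' : (s ⁻¹ᵁ (q ⁻¹ᵁ O)).toScheme := ⟨r, hrO⟩
      refine ⟨h.tD O r', ?_, ?_⟩
      · show f (h.tD O r') ∈ V
        rw [← Scheme.Hom.comp_apply, ← hf, Scheme.Hom.comp_apply,
          show sD s q O r' = b' from Subtype.ext (by simpa [sD, r'] using hr₂)]
        exact hb'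
      · show (h.tD O r').1 = a
        rw [tD, Scheme.Hom.coe_resLE_apply]
        exact hr₁
    have hyO' : y.1 ∈ O' ⊓ O := ⟨⟨x, ⟨x', hyV, rfl⟩, hx⟩, y.2⟩
    obtain ⟨D, hyD, hDle, hinj, hr⟩ := h.basis _ _ hyO'
    have e : D ≤ O := hDle.trans inf_le_right
    have k : Set.range (U.homOfLE (q.preimage_mono e) ≫ f) ⊆
        Set.range (Scheme.Opens.ι V) := by
      rintro _ ⟨z, rfl⟩
      rw [Scheme.Opens.range_ι, Scheme.Hom.comp_apply]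
      obtain ⟨z', hz', hzz'⟩ := hO' (show z.1 ∈ q ⁻¹ᵁ O' from (hDle z.2).1)
      rw [show U.homOfLE (q.preimage_mono e) z = z' from Subtype.ext (by simpa using hzz'.symm)]
      exact hz'
    have : IsAffine V.toScheme := hV
    have hinv : h.Inv D (IsOpenImmersion.lift V.ι _ k) := by
      rw [Inv, ← cancel_mono V.ι, Category.assoc, Category.assoc, IsOpenImmersion.lift_fac]
      exact h.inv_mono e hf
    obtain ⟨g, hg, -⟩ := h.affine_desc hinj hr _ hinv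
    refine ⟨D, e, hyD, g ≫ V.ι, ?_⟩
    rw [reassoc_of% hg, IsOpenImmersion.lift_fac]
  choose D e hD g hg using hloc
  have hcov : TopologicalSpace.IsOpenCover fun y : O.toScheme => O.ι ⁻¹ᵁ D y := by
    rw [TopologicalSpace.IsOpenCover, eq_top_iff]
    exact fun y _ => Opens.mem_iSup.2 ⟨y, hD y⟩
  let 𝒰 := O.toScheme.openCoverOfIsOpenCover _ hcov
  let gg : ∀ y, 𝒰.X y ⟶ Z := fun y => (O.ι ∣_ D y) ≫ g y
  have hcomp : ∀ y y', pullback.fst (𝒰.f y) (𝒰.f y') ≫ gg y = pullback.snd _ _ ≫ gg y' := by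
    intro y y'
    let k := pullback.fst (𝒰.f y) (𝒰.f y') ≫ 𝒰.f y ≫ O.ι
    have : IsOpenImmersion k := inferInstance
    have hE₁ : k.opensRange ≤ D y := by
      rintro _ ⟨z, rfl⟩
      exact ((pullback.fst (𝒰.f y) (𝒰.f y')) z).2
    have hE₂ : k.opensRange ≤ D y' := by
      rintro _ ⟨z, rfl⟩
      have : k = pullback.snd (𝒰.f y) (𝒰.f y') ≫ 𝒰.f y' ≫ O.ι := by
        simp only [k, pullback.condition_assoc]
      rw [this]
      exact ((pullback.snd (𝒰.f y) (𝒰.f y')) z).2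
    have h₁ : pullback.fst (𝒰.f y) (𝒰.f y') ≫ (O.ι ∣_ D y) =
        k.isoOpensRange.hom ≫ M.homOfLE hE₁ := by
      rw [← cancel_mono (D y).ι]
      simp only [Category.assoc, morphismRestrict_ι, Scheme.homOfLE_ι,
        Scheme.Hom.isoOpensRange_hom_ι, k]
      exact congrArg (pullback.fst (𝒰.f y) (𝒰.f y') ≫ ·) (morphismRestrict_ι O.ι (D y))
    have h₂ : pullback.snd (𝒰.f y) (𝒰.f y') ≫ (O.ι ∣_ D y') =
        k.isoOpensRange.hom ≫ M.homOfLE hE₂ := by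
      rw [← cancel_mono (D y').ι]
      have hk : k = pullback.snd (𝒰.f y) (𝒰.f y') ≫ 𝒰.f y' ≫ O.ι := by
        simp only [k, pullback.condition_assoc]
      simp only [Category.assoc, morphismRestrict_ι, Scheme.homOfLE_ι,
        Scheme.Hom.isoOpensRange_hom_ι]
      rw [hk]
      exact congrArg (pullback.snd (𝒰.f y) (𝒰.f y') ≫ ·) (morphismRestrict_ι O.ι (D y'))
    simp only [gg, reassoc_of% h₁, reassoc_of% h₂]
    congr 1
    refine h.hom_ext _ ?_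
    have hres : ∀ (D' : M.Opens) (e' : k.opensRange ≤ D'), (q ∣_ k.opensRange) ≫ M.homOfLE e' =
        U.homOfLE (q.preimage_mono e') ≫ (q ∣_ D') := fun D' e' => by
      simp [← cancel_mono D'.ι]
    rw [reassoc_of% hres _ hE₁, reassoc_of% hres _ hE₂, hg, hg, Scheme.homOfLE_homOfLE_assoc,
      Scheme.homOfLE_homOfLE_assoc]
  refine ⟨𝒰.glueMorphisms gg hcomp, ?_⟩
  have hcov' : TopologicalSpace.IsOpenCover fun y : O.toScheme =>
      (q ⁻¹ᵁ O).ι ⁻¹ᵁ (q ⁻¹ᵁ D y) := by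
    rw [TopologicalSpace.IsOpenCover, eq_top_iff]
    intro z _
    exact Opens.mem_iSup.2 ⟨⟨q z.1, z.2⟩, hD ⟨q z.1, z.2⟩⟩
  refine Scheme.Cover.hom_ext ((q ⁻¹ᵁ O).toScheme.openCoverOfIsOpenCover _ hcov') _ _ fun y => ?_
  show ((q ⁻¹ᵁ O).ι ⁻¹ᵁ (q ⁻¹ᵁ D y)).ι ≫ (q ∣_ O) ≫ 𝒰.glueMorphisms gg hcomp =
    ((q ⁻¹ᵁ O).ι ⁻¹ᵁ (q ⁻¹ᵁ D y)).ι ≫ f
  let a := (q ⁻¹ᵁ O).ι ∣_ (q ⁻¹ᵁ D y)
  have ha : ((q ⁻¹ᵁ O).ι ⁻¹ᵁ (q ⁻¹ᵁ D y)).ι = a ≫ U.homOfLE (q.preimage_mono (e y)) := by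
    simp [a, ← cancel_mono (q ⁻¹ᵁ O).ι]
  have hD' : M.homOfLE (e y) ≫ 𝒰.glueMorphisms gg hcomp = g y := by
    have hr : Set.range (M.homOfLE (e y)) ⊆ Set.range (O.ι ⁻¹ᵁ D y).ι := by
      rintro _ ⟨z, rfl⟩
      rw [Scheme.Opens.range_ι]
      show O.ι (M.homOfLE (e y) z) ∈ D y
      rw [← Scheme.Hom.comp_apply, Scheme.homOfLE_ι]
      exact z.2
    let l := IsOpenImmersion.lift (O.ι ⁻¹ᵁ D y).ι (M.homOfLE (e y)) hr
    have hl : l ≫ (O.ι ∣_ D y) = 𝟙 _ := by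
      rw [← cancel_mono (D y).ι, Category.assoc, morphismRestrict_ι, ← Category.assoc,
        IsOpenImmersion.lift_fac, Scheme.homOfLE_ι, Category.id_comp]
    rw [← IsOpenImmersion.lift_fac (O.ι ⁻¹ᵁ D y).ι (M.homOfLE (e y)) hr, Category.assoc]
    refine (congrArg (l ≫ ·) (Scheme.Cover.ι_glueMorphisms 𝒰 gg hcomp y)).trans ?_
    show l ≫ (O.ι ∣_ D y) ≫ g y = g y
    rw [reassoc_of% hl]
  have hsq : U.homOfLE (q.preimage_mono (e y)) ≫ (q ∣_ O) = (q ∣_ D y) ≫ M.homOfLE (e y) := by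
    simp [← cancel_mono O.ι]
  rw [ha, Category.assoc, Category.assoc, reassoc_of% hsq, hD', hg]

/-- A quotient is a coequalizer. -/
theorem isColimit : Nonempty (IsColimit (Cofork.ofπ q h.w)) := by
  have key : ∀ c : Cofork t s, ∃! g : M ⟶ c.pt, q ≫ g = c.π := fun c => by
    have hf : h.Inv ⊤ ((q ⁻¹ᵁ ⊤).ι ≫ c.π) := by
      simp [Inv, sD, tD, c.condition]
    obtain ⟨g, hg, hu⟩ := h.desc ⊤ ((q ⁻¹ᵁ ⊤).ι ≫ c.π) hf
    refine ⟨M.topIso.inv ≫ g, ?_, fun g' hg' => ?_⟩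
    · have : (q ⁻¹ᵁ ⊤).ι ≫ q ≫ M.topIso.inv = q ∣_ ⊤ := by
        rw [← cancel_mono (⊤ : M.Opens).ι, morphismRestrict_ι, Category.assoc, Category.assoc,
          ← Scheme.topIso_hom, Iso.inv_hom_id, Category.comp_id]
      have e2 : (q ⁻¹ᵁ ⊤).ι ≫ q ≫ M.topIso.inv ≫ g = (q ⁻¹ᵁ ⊤).ι ≫ c.π := by
        rw [reassoc_of% this, hg]
      exact (cancel_epi U.topIso.hom).1 e2
    · have h1 : (q ∣_ ⊤) ≫ (⊤ : M.Opens).ι ≫ g' = (q ⁻¹ᵁ ⊤).ι ≫ c.π := by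
        rw [morphismRestrict_ι_assoc, hg']
      rw [← hu _ h1, ← Scheme.topIso_hom, Iso.inv_hom_id_assoc]
  exact ⟨Cofork.IsColimit.mk _ (fun c => (key c).choose) (fun c => (key c).choose_spec.1)
    (fun c m hm => (key c).choose_spec.2 m hm)⟩

end IsQuot

end Groth.Agent.GrpdLib
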