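import Groth.Agent.Grpd.Norm
import Mathlib.FieldTheory.IsAlgClosed.AlgebraicClosure
import Mathlib.RingTheory.Ideal.GoingUp
import Mathlib.RingTheory.QuasiFinite.Basic

/-!
Orbits and geometric points of the quotient of an affine groupoid.
-/

universe u

open Polynomial TensorProduct

namespace Groth.Agent.GrpdLib

/-- Geometric points lift along injective integral maps. -/
theorem exists_point {C A : Type u} [CommRing C] [CommRing A] [Algebra C A]
    [Algebra.IsIntegral C A] (hinj : Function.Injective (algebraMap C A))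
    {k : Type u} [Field k] [IsAlgClosed k] (m : C →+* k) :
    ∃ x : A →+* k, ∀ c, x (algebraMap C A c) = m c := by
  have : (RingHom.ker m).IsPrime := RingHom.ker_isPrime m
  have hle : RingHom.ker (algebraMap C A) ≤ RingHom.ker m := by
    rw [(RingHom.injective_iff_ker_eq_bot _).1 hinj]; exact bot_le
  obtain ⟨q, hq, hqm⟩ := Ideal.exists_ideal_over_prime_of_isIntegral (RingHom.ker m) (⊥ : Ideal A)
    (by rwa [← RingHom.ker_eq_comap_bot])
  have : q.IsPrime := hqm.1
  have hqc : q.comap (algebraMap C A) = RingHom.ker m := hqm.2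
  let e : C ⧸ RingHom.ker m →+* k := RingHom.kerLift m
  letI : Algebra (C ⧸ RingHom.ker m) k := e.toAlgebra
  letI : Algebra (C ⧸ RingHom.ker m) (A ⧸ q) :=
    (Ideal.quotientMap q (algebraMap C A) hqc.ge).toAlgebra
  have hi : Function.Injective (algebraMap (C ⧸ RingHom.ker m) (A ⧸ q)) :=
    Ideal.quotientMap_injective' hqc.le
  have hek : Function.Injective (algebraMap (C ⧸ RingHom.ker m) k) := RingHom.kerLift_injective m
  have : Module.IsTorsionFree (C ⧸ RingHom.ker m) (A ⧸ q) :=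
    Module.isTorsionFree_iff_algebraMap_injective.2 hi
  have : Module.IsTorsionFree (C ⧸ RingHom.ker m) k :=
    Module.isTorsionFree_iff_algebraMap_injective.2 hek
  have : Algebra.IsIntegral (C ⧸ RingHom.ker m) (A ⧸ q) := by
    refine ⟨fun x => ?_⟩
    obtain ⟨a, rfl⟩ := Ideal.Quotient.mk_surjective x
    obtain ⟨p, hp, hpa⟩ := Algebra.IsIntegral.isIntegral (R := C) a
    refine ⟨p.map (Ideal.Quotient.mk _), hp.map _, ?_⟩
    rw [Polynomial.eval₂_map]
    have : (algebraMap (C ⧸ RingHom.ker m) (A ⧸ q)).comp (Ideal.Quotient.mk (RingHom.ker m)) =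
        (Ideal.Quotient.mk q).comp (algebraMap C A) := rfl
    rw [this, ← Polynomial.hom_eval₂, hpa, map_zero]
  let f : A ⧸ q →ₐ[C ⧸ RingHom.ker m] k := IsAlgClosed.lift
  refine ⟨f.toRingHom.comp (Ideal.Quotient.mk q), fun c => ?_⟩
  exact f.commutes (Ideal.Quotient.mk _ c)

namespace GR

variable {A B : Type u} [CommRing A] [CommRing B] [Algebra A B] (G : GR A B)
  [Module.Finite A B] [Module.Projective A B]
  {C : Type u} [CommRing C] [Algebra C A] (hC : ∀ c, G.t (algebraMap C A c) =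
    algebraMap A B (algebraMap C A c))
  (hinv : ∀ a, G.t a = algebraMap A B a → a ∈ (algebraMap C A).range)

/-- Avoidance: a function nonzero on the orbit of a point has norm nonzero at it. -/
theorem N_ne_zero {n : ℕ} (F : Frame A B (Fin n)) {k : Type u} [Field k] (χ : A →+* k) (f : A)
    (hf : ∀ P : Ideal B, P.IsPrime → P.comap (algebraMap A B) = RingHom.ker χ → G.t f ∉ P) :
    χ (G.N F f) ≠ 0 := by
  have : (RingHom.ker χ).IsPrime := RingHom.ker_isPrime χ
  by_cases hle : (Ideal.span {G.t f}).comap (algebraMap A B) ≤ RingHom.ker χ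
  · obtain ⟨P, hP, hPo⟩ := Ideal.exists_ideal_over_prime_of_isIntegral (RingHom.ker χ) _ hle
    exact absurd (hP (Ideal.mem_span_singleton_self _)) (hf P hPo.1 hPo.2)
  · obtain ⟨a, ha, ha'⟩ := SetLike.not_le_iff_exists.1 hle
    obtain ⟨b, hb⟩ := Ideal.mem_span_singleton'.1 (Ideal.mem_comap.1 ha)
    exact F.nrm_ne_zero_of_eq_mul χ (G.t f) b a ha' (by rw [mul_comm]; exact hb)

include hC hinv in
/-- Geometric points with the same image in the quotient are connected by an arrow. -/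
theorem exists_arrow {k : Type u} [Field k] [IsAlgClosed k] (x₀ x₁ : A →+* k)
    (h : ∀ c, x₀ (algebraMap C A c) = x₁ (algebraMap C A c)) :
    ∃ r : B →+* k, (∀ a, r (G.t a) = x₀ a) ∧ ∀ a, r (algebraMap A B a) = x₁ a := by
  letI : Algebra C k := (x₁.comp (algebraMap C A)).toAlgebra
  let X₀ : A ⊗[C] k →+* k := liftRing x₀ (RingHom.id k) h
  let X₁ : A ⊗[C] k →+* k := liftRing x₁ (RingHom.id k) fun c => rfl
  have hX : ∀ c, X₀ (1 ⊗ₜ c) = X₁ (1 ⊗ₜ c) := fun c => by simp [X₀, X₁]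
  let G' := G.baseChange hC k
  obtain ⟨n, ⟨F⟩⟩ := Frame.exists_frame (A ⊗[C] k) ((A ⊗[C] k) ⊗[A] B)
  by_contra hne
  push Not at hne
  let T : Set (Ideal ((A ⊗[C] k) ⊗[A] B)) := (RingHom.ker X₁).primesOver _
  have hT : T.Finite := Algebra.QuasiFinite.finite_primesOver _
  have hX₀ : Function.Surjective X₀ := fun c => ⟨1 ⊗ₜ c, by simp [X₀]⟩
  have hX₁ : Function.Surjective X₁ := fun c => ⟨1 ⊗ₜ c, by simp [X₁]⟩
  have hmax : (RingHom.ker X₀).IsMaximal := RingHom.ker_isMaximal_of_surjective _ hX₀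
  have hkey : ∀ P ∈ T, ¬ RingHom.ker X₀ ≤ P.comap G'.t := by
    intro P hP hle
    have hPp : P.IsPrime := hP.1
    have hPc : P.comap (algebraMap (A ⊗[C] k) ((A ⊗[C] k) ⊗[A] B)) = RingHom.ker X₁ := hP.2.over.symm
    have heq : RingHom.ker X₀ = P.comap G'.t :=
      hmax.eq_of_le (Ideal.comap_ne_top _ hPp.ne_top) hle
    let mk := Ideal.Quotient.mk P
    let ι : k →+* ((A ⊗[C] k) ⊗[A] B) ⧸ P := mk.comp (incC (A := A) (B := B) (C := C) k)
    letI : CommRing (((A ⊗[C] k) ⊗[A] B) ⧸ P) := Ideal.Quotient.commRing P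
    letI : Algebra k (((A ⊗[C] k) ⊗[A] B) ⧸ P) :=
      @RingHom.toAlgebra k (((A ⊗[C] k) ⊗[A] B) ⧸ P) _ _ ι
    have hfac : ∀ x, mk (algebraMap (A ⊗[C] k) _ x) = ι (X₁ x) := by
      intro x
      have : x - 1 ⊗ₜ X₁ x ∈ RingHom.ker X₁ := by simp [RingHom.mem_ker, X₁]
      rw [← hPc, Ideal.mem_comap, map_sub] at this
      exact Ideal.Quotient.eq.2 this
    have : Algebra.IsIntegral k (((A ⊗[C] k) ⊗[A] B) ⧸ P) := by
      refine ⟨fun y => ?_⟩
      obtain ⟨b, rfl⟩ := Ideal.Quotient.mk_surjective y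
      obtain ⟨p, hp, hpb⟩ := Algebra.IsIntegral.isIntegral (R := A ⊗[C] k) b
      refine ⟨p.map X₁, hp.map _, ?_⟩
      rw [Polynomial.eval₂_map]
      have : (algebraMap k (((A ⊗[C] k) ⊗[A] B) ⧸ P)).comp X₁ = mk.comp (algebraMap (A ⊗[C] k) _) :=
        RingHom.ext fun x => (hfac x).symm
      rw [this, ← Polynomial.hom_eval₂, hpb, map_zero]
    let e := RingEquiv.ofBijective _
      (IsAlgClosed.algebraMap_bijective_of_isIntegral (k := k) (K := ((A ⊗[C] k) ⊗[A] B) ⧸ P))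
    let ρ : (A ⊗[C] k) ⊗[A] B →+* k := e.symm.toRingHom.comp mk
    have hρC : ∀ c, ρ (incC k c) = c := fun c => e.symm_apply_apply c
    have hρs : ∀ x, ρ (algebraMap (A ⊗[C] k) _ x) = X₁ x := fun x => by
      show e.symm (mk _) = _
      rw [hfac]
      exact e.symm_apply_apply _
    have hρt : ∀ x, ρ (G'.t x) = X₀ x := by
      intro x
      have : x - 1 ⊗ₜ X₀ x ∈ RingHom.ker X₀ := by simp [RingHom.mem_ker, X₀]
      rw [heq, Ideal.mem_comap, map_sub] at this
      have : ρ (G'.t x) = ρ (G'.t (1 ⊗ₜ X₀ x)) := by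
        have := Ideal.Quotient.eq.2 this
        exact congrArg e.symm this
      rw [this, baseChange_t, bcT_right, hρC]
    obtain ⟨a, ha⟩ := hne (ρ.comp (incB k)) (fun a => by
      rw [RingHom.comp_apply, incB_apply, ← G.bcT_left hC k, ← baseChange_t G hC k, hρt]
      simp [X₀])
    refine ha ?_
    rw [RingHom.comp_apply, incB_algebraMap, hρs]
    simp [X₁]
  have hcover : ¬ ((RingHom.ker X₀ : Set (A ⊗[C] k)) ⊆
      ⋃ P ∈ T, ((Ideal.comap G'.t P : Ideal (A ⊗[C] k)) : Set (A ⊗[C] k))) := by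
    rw [Ideal.subset_union_prime_finite hT ⊤ ⊤ fun P hP _ _ => hP.1.comap _]
    rintro ⟨P, hP, hle⟩
    exact hkey P hP hle
  obtain ⟨f, hf0, hfT⟩ := Set.not_subset.1 hcover
  simp only [Set.mem_iUnion, not_exists] at hfT
  have h1 : X₁ (G'.N F f) ≠ 0 :=
    G'.N_ne_zero F X₁ f fun P hP hPc => hfT P ⟨hP, ⟨hPc.symm⟩⟩
  obtain ⟨d, hd⟩ := G'.dvd_N F f
  have h0 : X₀ (G'.N F f) = 0 := by
    rw [hd, map_mul, RingHom.mem_ker.1 hf0, zero_mul]
  exact h1 (by rw [← G.invariant_value_eq hC hinv X₀ X₁ hX _ (G'.N_invariant F f), h0])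

end GR

end Groth.Agent.GrpdLib
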