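import Groth.Agent.Grpd.SchemeQuot
import Groth.Agent.Grpd.Points
import Groth.Agent.Grpd.Coeq
import Mathlib.AlgebraicGeometry.Morphisms.UniversallyOpen
import Mathlib.AlgebraicGeometry.Morphisms.Integral
import Mathlib.AlgebraicGeometry.PullbackCarrier

/-!
The affine quotient as a coequalizer.
-/

universe u

open AlgebraicGeometry CategoryTheory CategoryTheory.Limits

namespace Groth.Agent.GrpdLib

lemma exists_geom_point {X : Scheme.{u}} (x : X) : ∃ (K : Type u) (_ : Field K) (_ : IsAlgClosed K)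
    (z : Spec (CommRingCat.of K)) (f : Spec (CommRingCat.of K) ⟶ X), f z = x := by
  let φ : X.residueField x ⟶ CommRingCat.of (AlgebraicClosure (X.residueField x)) :=
    CommRingCat.ofHom (algebraMap (X.residueField x) (AlgebraicClosure (X.residueField x)))
  refine ⟨AlgebraicClosure (X.residueField x), inferInstance, inferInstance,
    IsLocalRing.closedPoint _, Spec.map φ ≫ X.fromSpecResidueField x, ?_⟩
  rw [Scheme.Hom.comp_apply]
  exact Scheme.fromSpecResidueField_apply x _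

variable {S : Scheme.{u}} (G : Grpd.GroupoidScheme S) [IsAffine G.U] [IsAffine G.R]
  [IsFinite G.s] [Flat G.s] [LocallyOfFinitePresentation G.s]

/-- The affine quotient map is surjective and its fibres are the orbits. -/
theorem toQuot_surjective_orbits : Function.Surjective G.toQuot ∧
    ∀ u₀ u₁ : G.U, G.toQuot u₀ = G.toQuot u₁ → ∃ r : G.R, G.t r = u₀ ∧ G.s r = u₁ := by
  letI := G.s.appTop.hom.toAlgebra
  obtain ⟨_, _⟩ := module_finite_projective G
  obtain ⟨hC, hinv⟩ := invariants_spec G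
  have : Algebra.IsIntegral G.invariants Γ(G.U, ⊤) :=
    ⟨fun g => (grOfScheme G).isIntegral hinv g⟩
  have hinj : Function.Injective (algebraMap G.invariants Γ(G.U, ⊤)) := Subtype.val_injective
  have hq : ∀ {D : Type u} [CommRing D] (p : Γ(G.U, ⊤) →+* D), pt p ≫ G.toQuot =
      Spec.map (CommRingCat.ofHom (p.comp G.invariants.subtype)) := fun p => by
    rw [CommRingCat.ofHom_comp, Spec.map_comp, pt, Grpd.GroupoidScheme.toQuot, Category.assoc]
    simp [Scheme.isoSpec]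
  have htop : G.t ≫ G.toQuot = G.s ≫ G.toQuot := by
    have h1 := hq (RingHom.id Γ(G.U, ⊤))
    rw [pt_id] at h1
    rw [← cancel_epi G.R.isoSpec.inv]
    have h2 : G.R.isoSpec.inv ≫ G.t = pt G.t.appTop.hom := by rw [← pt_id, pt_comp]; rfl
    have h3 : G.R.isoSpec.inv ≫ G.s = pt G.s.appTop.hom := by rw [← pt_id, pt_comp]; rfl
    rw [← Category.assoc, ← Category.assoc, h2, h3, hq, hq]
    exact congrArg (fun x => Spec.map (CommRingCat.ofHom x)) (RingHom.ext fun c => c.2.symm)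
  have hsurj : ∀ (k : Type u) [Field k] [IsAlgClosed k]
      (m : Spec (CommRingCat.of k) ⟶ Spec (CommRingCat.of G.invariants)),
      ∃ x : Spec (CommRingCat.of k) ⟶ G.U, x ≫ G.toQuot = m := by
    intro k _ _ m
    obtain ⟨x, hx⟩ := exists_point hinj (Spec.preimage m).hom
    refine ⟨pt x, ?_⟩
    rw [hq]
    conv_rhs => rw [← Spec.map_preimage m]
    congr 1
    exact CommRingCat.hom_ext (RingHom.ext fun c => hx c)
  have hfib : ∀ (k : Type u) [Field k] [IsAlgClosed k] (x₀ x₁ : Spec (CommRingCat.of k) ⟶ G.U),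
      x₀ ≫ G.toQuot = x₁ ≫ G.toQuot ↔
        ∃ r : Spec (CommRingCat.of k) ⟶ G.R, r ≫ G.t = x₀ ∧ r ≫ G.s = x₁ := by
    intro k _ _ x₀ x₁
    constructor
    · intro h
      rw [← pt_ev x₀, ← pt_ev x₁, hq, hq, Spec.map_injective.eq_iff] at h
      obtain ⟨r, hr₀, hr₁⟩ := (grOfScheme G).exists_arrow hC hinv (ev x₀) (ev x₁)
        fun c => RingHom.congr_fun (congrArg CommRingCat.Hom.hom h) c
      refine ⟨pt r, ?_, ?_⟩
      · rw [pt_comp, show r.comp G.t.appTop.hom = ev x₀ from RingHom.ext hr₀, pt_ev]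
      · rw [pt_comp, show r.comp G.s.appTop.hom = ev x₁ from RingHom.ext hr₁, pt_ev]
    · rintro ⟨r, rfl, rfl⟩
      rw [Category.assoc, Category.assoc, htop]
  refine ⟨?_, ?_⟩
  · intro y
    obtain ⟨K, _, _, z, m, hm⟩ := exists_geom_point y
    obtain ⟨x, hx⟩ := hsurj K m
    exact ⟨x z, by rw [← Scheme.Hom.comp_apply, hx, hm]⟩
  · intro u₀ u₁ h
    obtain ⟨K, _, _, z, x₀, x₁, h₀, h₁, he⟩ : ∃ (K : Type u) (_ : Field K) (_ : IsAlgClosed K)
        (z : Spec (CommRingCat.of K)) (x₀ x₁ : Spec (CommRingCat.of K) ⟶ G.U),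
        x₀ z = u₀ ∧ x₁ z = u₁ ∧ x₀ ≫ G.toQuot = x₁ ≫ G.toQuot := by
      obtain ⟨p, hp₀, hp₁⟩ := Scheme.Pullback.exists_preimage_pullback
        (f := G.toQuot) (g := G.toQuot) u₀ u₁ h
      obtain ⟨K, _, _, z, w, hw⟩ := exists_geom_point p
      refine ⟨K, inferInstance, inferInstance, z,
        w ≫ pullback.fst _ _, w ≫ pullback.snd _ _, ?_, ?_, ?_⟩
      · rw [Scheme.Hom.comp_apply, hw, hp₀]
      · rw [Scheme.Hom.comp_apply, hw, hp₁]
      · rw [Category.assoc, Category.assoc, pullback.condition]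
    obtain ⟨r, hr₀, hr₁⟩ := (hfib K x₀ x₁).1 he
    refine ⟨r z, ?_, ?_⟩
    · rw [← Scheme.Hom.comp_apply, hr₀, h₀]
    · rw [← Scheme.Hom.comp_apply, hr₁, h₁]

/-- Geometric points with the same image are joined by a geometric arrow. -/
theorem toQuot_exists_arrow {k : Type u} [Field k] [IsAlgClosed k]
    (x₀ x₁ : Spec (CommRingCat.of k) ⟶ G.U) (h : x₀ ≫ G.toQuot = x₁ ≫ G.toQuot) :
    ∃ r : Spec (CommRingCat.of k) ⟶ G.R, r ≫ G.t = x₀ ∧ r ≫ G.s = x₁ := by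
  letI := G.s.appTop.hom.toAlgebra
  obtain ⟨_, _⟩ := module_finite_projective G
  obtain ⟨hC, hinv⟩ := invariants_spec G
  have hq : ∀ p : Γ(G.U, ⊤) →+* k, pt p ≫ G.toQuot =
      Spec.map (CommRingCat.ofHom (p.comp G.invariants.subtype)) := fun p => by
    rw [CommRingCat.ofHom_comp, Spec.map_comp, pt, Grpd.GroupoidScheme.toQuot, Category.assoc]
    simp [Scheme.isoSpec]
  rw [← pt_ev x₀, ← pt_ev x₁, hq, hq, Spec.map_injective.eq_iff] at h
  obtain ⟨r, hr₀, hr₁⟩ := (grOfScheme G).exists_arrow hC hinv (ev x₀) (ev x₁)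
    fun c => RingHom.congr_fun (congrArg CommRingCat.Hom.hom h) c
  refine ⟨pt r, ?_, ?_⟩
  · rw [pt_comp, show r.comp G.t.appTop.hom = ev x₀ from RingHom.ext hr₀, pt_ev]
  · rw [pt_comp, show r.comp G.s.appTop.hom = ev x₁ from RingHom.ext hr₁, pt_ev]

/-- The affine quotient map is integral. -/
theorem isIntegralHom_toQuot : IsIntegralHom G.toQuot := by
  letI := G.s.appTop.hom.toAlgebra
  obtain ⟨_, _⟩ := module_finite_projective G
  have h : IsIntegralHom (Spec.map (CommRingCat.ofHom G.invariants.subtype)) :=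
    IsIntegralHom.SpecMap_iff.2 fun a => (grOfScheme G).isIntegral (invariants_spec G).2 a
  rw [toQuot_eq]
  infer_instance

lemma toQuot_appTop (c : G.invariants) : G.toQuot.appTop
    ((Scheme.ΓSpecIso (CommRingCat.of G.invariants)).inv c) = (c : Γ(G.U, ⊤)) := by
  have h : (Scheme.ΓSpecIso (CommRingCat.of G.invariants)).inv ≫ G.toQuot.appTop =
      CommRingCat.ofHom G.invariants.subtype := by
    simp [Grpd.GroupoidScheme.toQuot]
  exact ConcreteCategory.congr_hom h c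

variable [IsFinite G.t] [Flat G.t] [LocallyOfFinitePresentation G.t]

/-- The affine quotient map is open. -/
theorem isOpenMap_toQuot : IsOpenMap G.toQuot := by
  intro O hO
  have := isIntegralHom_toQuot G
  obtain ⟨hsur, horb⟩ := toQuot_surjective_orbits G
  have hsat : IsOpen (G.t '' (G.s ⁻¹' O)) := G.t.isOpenMap _ (hO.preimage G.s.continuous)
  have heq : G.toQuot '' O = (G.toQuot '' (G.t '' (G.s ⁻¹' O))ᶜ)ᶜ := by
    ext y
    simp only [Set.mem_compl_iff, Set.mem_image, not_exists, not_and]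
    constructor
    · rintro ⟨x, hx, rfl⟩ x' hx' he
      obtain ⟨r, hr₁, hr₂⟩ := horb x' x he
      exact hx' r (show G.s r ∈ O by rw [hr₂]; exact hx) hr₁
    · intro h
      obtain ⟨x, rfl⟩ := hsur y
      obtain ⟨r, hr, hrx⟩ : ∃ r, r ∈ G.s ⁻¹' O ∧ G.t r = x := by
        by_contra hn
        push Not at hn
        exact h x hn rfl
      refine ⟨G.s r, hr, ?_⟩
      rw [← hrx, ← Scheme.Hom.comp_apply, ← Scheme.Hom.comp_apply, t_toQuot]
  rw [heq]
  exact (G.toQuot.isClosedMap _ hsat.isClosed_compl).isOpen_compl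

/-- The affine quotient is a quotient by the relation. -/
theorem isQuot_toQuot : IsQuot G.s G.t G.toQuot := by
  obtain ⟨hsur, horb⟩ := toQuot_surjective_orbits G
  refine ⟨t_toQuot G, hsur, horb, isOpenMap_toQuot G, fun O y hy => ?_⟩
  let M := Spec (CommRingCat.of G.invariants)
  obtain ⟨_, ⟨g, rfl⟩, hyg, hgO⟩ :=
    TopologicalSpace.Opens.isBasis_iff_nbhd.1 (isBasis_basicOpen M) hy
  refine ⟨M.basicOpen g, hyg, hgO, ?_⟩
  obtain ⟨c, rfl⟩ : ∃ c, (Scheme.ΓSpecIso (CommRingCat.of G.invariants)).inv c = g :=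
    ⟨(Scheme.ΓSpecIso (CommRingCat.of G.invariants)).hom g, by simp⟩
  set D := M.basicOpen ((Scheme.ΓSpecIso (CommRingCat.of G.invariants)).inv c)
  let W := G.toQuot ⁻¹ᵁ D
  have hW : W = G.U.basicOpen (c : Γ(G.U, ⊤)) := by
    rw [← toQuot_appTop G c]
    exact Scheme.preimage_basicOpen_top _ _
  have hO : G.s ⁻¹ᵁ W = G.R.basicOpen (G.s.appTop (c : Γ(G.U, ⊤))) := by
    rw [hW]
    exact Scheme.preimage_basicOpen_top _ _
  letI := (M.presheaf.map (homOfLE (le_top : D ≤ ⊤)).op).hom.toAlgebra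
  letI := (G.U.presheaf.map (homOfLE (le_top : W ≤ ⊤)).op).hom.toAlgebra
  letI := (G.R.presheaf.map (homOfLE (le_top : G.s ⁻¹ᵁ W ≤ ⊤)).op).hom.toAlgebra
  have : IsLocalization.Away ((Scheme.ΓSpecIso (CommRingCat.of G.invariants)).inv c) Γ(M, D) :=
    (isAffineOpen_top M).isLocalization_of_eq_basicOpen _ _ rfl
  have : IsLocalization.Away (c : Γ(G.U, ⊤)) Γ(G.U, W) :=
    (isAffineOpen_top G.U).isLocalization_of_eq_basicOpen _ _ hW
  have : IsLocalization.Away (G.s.appTop (c : Γ(G.U, ⊤))) Γ(G.R, G.s ⁻¹ᵁ W) :=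
    (isAffineOpen_top G.R).isLocalization_of_eq_basicOpen _ _ hO
  have happ : ∀ x : Γ(M, ⊤), G.toQuot.app D (algebraMap Γ(M, ⊤) Γ(M, D) x) =
      algebraMap Γ(G.U, ⊤) Γ(G.U, W) (G.toQuot.appTop x) := fun x =>
    ConcreteCategory.congr_hom (G.toQuot.naturality (homOfLE (le_top : D ≤ ⊤)).op) x
  have hres : ∀ (f : G.R ⟶ G.U) (e : G.s ⁻¹ᵁ W ≤ f ⁻¹ᵁ W) (a : Γ(G.U, ⊤)),
      f.appLE W (G.s ⁻¹ᵁ W) e (algebraMap Γ(G.U, ⊤) Γ(G.U, W) a) =
        algebraMap Γ(G.R, ⊤) Γ(G.R, G.s ⁻¹ᵁ W) (f.appTop a) := fun f e a => by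
    have : G.U.presheaf.map (homOfLE (le_top : W ≤ ⊤)).op ≫ f.appLE W (G.s ⁻¹ᵁ W) e =
        f.appTop ≫ G.R.presheaf.map (homOfLE (le_top : G.s ⁻¹ᵁ W ≤ ⊤)).op := by
      rw [Scheme.Hom.map_appLE]
      rfl
    exact ConcreteCategory.congr_hom this a
  set μ := (Scheme.ΓSpecIso (CommRingCat.of G.invariants)).inv with hμdef
  refine ⟨?_, fun e₁ e₂ a ha => ?_⟩
  · rw [injective_iff_map_eq_zero]
    intro x hx
    obtain ⟨⟨x', ⟨_, k, rfl⟩⟩, hxk⟩ := IsLocalization.surj (Submonoid.powers (μ c)) x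
    obtain ⟨c', rfl⟩ : ∃ c', μ c' = x' :=
      ⟨(Scheme.ΓSpecIso (CommRingCat.of G.invariants)).hom x', by simp [μ]⟩
    have h1 : algebraMap Γ(G.U, ⊤) Γ(G.U, W) (c' : Γ(G.U, ⊤)) = 0 := by
      rw [← toQuot_appTop G c', ← happ, ← hxk, map_mul, hx, zero_mul]
    obtain ⟨⟨_, m, rfl⟩, hm⟩ := (IsLocalization.map_eq_zero_iff
      (Submonoid.powers (c : Γ(G.U, ⊤))) Γ(G.U, W) _).1 h1
    have h2 : algebraMap Γ(M, ⊤) Γ(M, D) (μ c') = 0 := by
      refine (IsLocalization.map_eq_zero_iff (Submonoid.powers (μ c)) Γ(M, D) _).2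
        ⟨⟨_, m, rfl⟩, ?_⟩
      have h3 : c ^ m * c' = 0 := Subtype.ext hm
      simp only [← map_pow, ← map_mul, h3, map_zero]
    rw [h2] at hxk
    exact (IsLocalization.map_units Γ(M, D) _).mul_left_eq_zero.1 hxk
  · obtain ⟨⟨a', ⟨_, k, rfl⟩⟩, hak⟩ := IsLocalization.surj (Submonoid.powers (c : Γ(G.U, ⊤))) a
    have hsc : G.t.appTop (c : Γ(G.U, ⊤)) = G.s.appTop (c : Γ(G.U, ⊤)) := c.2.symm
    have h1 : algebraMap Γ(G.R, ⊤) Γ(G.R, G.s ⁻¹ᵁ W) (G.s.appTop a') =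
        algebraMap Γ(G.R, ⊤) Γ(G.R, G.s ⁻¹ᵁ W) (G.t.appTop a') := by
      rw [← hres G.s e₁, ← hres G.t e₂, ← hak, map_mul, map_mul, ha, hres G.s e₁, hres G.t e₂,
        map_pow, map_pow, map_pow, map_pow, hsc]
    obtain ⟨⟨_, m, rfl⟩, hm⟩ := (IsLocalization.eq_iff_exists
      (Submonoid.powers (G.s.appTop (c : Γ(G.U, ⊤)))) Γ(G.R, G.s ⁻¹ᵁ W)).1 h1
    have hinv : (c : Γ(G.U, ⊤)) ^ m * a' ∈ G.invariants := by
      show G.s.appTop.hom _ = G.t.appTop.hom _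
      rw [map_mul, map_mul, map_pow, map_pow]
      exact hm.trans (congrArg (fun z => z ^ m * G.t.appTop.hom a') hsc.symm)
    refine ⟨IsLocalization.mk' Γ(M, D) (μ ⟨_, hinv⟩)
      (⟨μ c ^ (k + m), k + m, rfl⟩ : Submonoid.powers (μ c)), ?_⟩
    refine ((IsLocalization.map_units Γ(G.U, W)
      (⟨(c : Γ(G.U, ⊤)) ^ (k + m), k + m, rfl⟩ : Submonoid.powers (c : Γ(G.U, ⊤)))).mul_left_inj).1 ?_
    have hc : algebraMap Γ(G.U, ⊤) Γ(G.U, W) ((c : Γ(G.U, ⊤)) ^ (k + m)) =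
        G.toQuot.app D (algebraMap Γ(M, ⊤) Γ(M, D) (μ c ^ (k + m))) := by
      rw [happ, map_pow G.toQuot.appTop.hom, toQuot_appTop]
    calc _ = G.toQuot.app D (algebraMap Γ(M, ⊤) Γ(M, D) (μ ⟨_, hinv⟩)) := by
          rw [hc, ← map_mul, IsLocalization.mk'_spec]
      _ = _ := by
          rw [happ, toQuot_appTop]
          show algebraMap Γ(G.U, ⊤) Γ(G.U, W) ((c : Γ(G.U, ⊤)) ^ m * a') =
            a * algebraMap Γ(G.U, ⊤) Γ(G.U, W) ((c : Γ(G.U, ⊤)) ^ (k + m))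
          rw [pow_add, map_mul, map_mul, ← mul_assoc, hak, mul_comm]

end Groth.Agent.GrpdLib
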