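import Groth.Agent.Grpd.Ring
import Mathlib.RingTheory.Flat.Basic

/-!
Base change of an affine groupoid along a map out of a ring of invariant functions.
-/

universe u

open Polynomial TensorProduct

namespace Groth.Agent.GrpdLib

lemma ringHom_ext_tmul₃ {C A C' B D : Type u} [CommRing C] [CommRing A] [CommRing C'] [CommRing B]
    [CommRing D] [Algebra C A] [Algebra C C'] [Algebra A B] {f g : (A ⊗[C] C') ⊗[A] B →+* D}
    (h₁ : ∀ b, f (1 ⊗ₜ b) = g (1 ⊗ₜ b))
    (h₂ : ∀ c : C', f ((1 ⊗ₜ c) ⊗ₜ 1) = g ((1 ⊗ₜ c) ⊗ₜ 1)) : f = g := by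
  refine ringHom_ext_tmul (fun x => ?_) h₁
  have : (f.comp Algebra.TensorProduct.includeLeftRingHom) =
      g.comp Algebra.TensorProduct.includeLeftRingHom := by
    refine ringHom_ext_tmul (fun a => ?_) (fun c => h₂ c)
    have : ((a ⊗ₜ[C] (1 : C')) ⊗ₜ[A] (1 : B)) = (1 : A ⊗[C] C') ⊗ₜ[A] (algebraMap A B a) := by
      rw [Algebra.algebraMap_eq_smul_one a, tmul_smul, smul_tmul', Algebra.smul_def, mul_one]
      rfl
    simp only [RingHom.comp_apply, Algebra.TensorProduct.includeLeftRingHom_apply, this, h₁]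
  exact RingHom.congr_fun this x

namespace GR

variable {A B : Type u} [CommRing A] [CommRing B] [Algebra A B] (G : GR A B)
  {C : Type u} [CommRing C] [Algebra C A] (hC : ∀ c, G.t (algebraMap C A c) =
    algebraMap A B (algebraMap C A c))
  (C' : Type u) [CommRing C'] [Algebra C C']

/-- The inclusion of the arrows. -/
noncomputable def incB : B →+* (A ⊗[C] C') ⊗[A] B :=
  Algebra.TensorProduct.includeRight.toRingHom

/-- The inclusion of the new constants. -/
noncomputable def incC : C' →+* (A ⊗[C] C') ⊗[A] B :=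
  (algebraMap (A ⊗[C] C') ((A ⊗[C] C') ⊗[A] B)).comp Algebra.TensorProduct.includeRight.toRingHom

lemma incB_apply (b : B) : incB (C := C) C' b = (1 : A ⊗[C] C') ⊗ₜ[A] b := rfl

lemma incC_apply (c : C') : incC (A := A) (B := B) (C := C) C' c = ((1 : A) ⊗ₜ[C] c) ⊗ₜ[A] 1 := rfl

lemma incB_algebraMap (a : A) : incB (C := C) C' (algebraMap A B a) =
    algebraMap (A ⊗[C] C') ((A ⊗[C] C') ⊗[A] B) (a ⊗ₜ 1) := by
  rw [incB_apply, Algebra.algebraMap_eq_smul_one a, tmul_smul, smul_tmul', Algebra.smul_def,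
    mul_one]
  rfl

lemma algebraMap_right (c : C') : algebraMap (A ⊗[C] C') ((A ⊗[C] C') ⊗[A] B) (1 ⊗ₜ c) =
    incC (A := A) (B := B) (C := C) C' c := rfl

lemma incC_algebraMap (c : C) : incC (A := A) (B := B) (C := C) C' (algebraMap C C' c) =
    incB (C := C) C' (algebraMap A B (algebraMap C A c)) := by
  rw [incB_algebraMap, ← algebraMap_right, Algebra.algebraMap_eq_smul_one c, tmul_smul, smul_tmul',
    ← Algebra.algebraMap_eq_smul_one]

/-- The target map after base change. -/
noncomputable def bcT : A ⊗[C] C' →+* (A ⊗[C] C') ⊗[A] B :=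
  liftRing ((incB (C := C) C').comp G.t) (incC C') fun c => by
    rw [RingHom.comp_apply, hC, incC_algebraMap]

lemma bcT_left (a : A) : G.bcT hC C' (a ⊗ₜ 1) = 1 ⊗ₜ G.t a := by
  simp [bcT, incB_apply]

lemma bcT_right (c : C') : G.bcT hC C' (1 ⊗ₜ c) = incC C' c := by
  simp [bcT]

/-- The unit after base change. -/
noncomputable def bcE : (A ⊗[C] C') ⊗[A] B →+* A ⊗[C] C' :=
  liftRing (RingHom.id _) (Algebra.TensorProduct.includeLeftRingHom.comp G.e) fun a => by
    simp [G.e_s]

lemma bcE_incB (b : B) : G.bcE C' (incB (C := C) C' b) = G.e b ⊗ₜ 1 := by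
  simp [bcE, incB_apply]

lemma bcE_algebraMap (x : A ⊗[C] C') :
    G.bcE C' (algebraMap (A ⊗[C] C') ((A ⊗[C] C') ⊗[A] B) x) = x := by
  simp [bcE, Algebra.TensorProduct.algebraMap_apply, ← Algebra.TensorProduct.one_def]

/-- The inverse after base change. -/
noncomputable def bcI : (A ⊗[C] C') ⊗[A] B →+* (A ⊗[C] C') ⊗[A] B :=
  liftRing (G.bcT hC C') ((incB (C := C) C').comp G.i) fun a => by
    rw [show algebraMap A (A ⊗[C] C') a = a ⊗ₜ 1 from rfl, bcT_left, RingHom.comp_apply, G.i_s,
      incB_apply]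

lemma bcI_incB (b : B) : G.bcI hC C' (incB (C := C) C' b) = incB C' (G.i b) := by
  simp [bcI, incB_apply]

lemma bcI_algebraMap (x : A ⊗[C] C') :
    G.bcI hC C' (algebraMap (A ⊗[C] C') ((A ⊗[C] C') ⊗[A] B) x) = G.bcT hC C' x := by
  simp [bcI, Algebra.TensorProduct.algebraMap_apply, ← RingHom.comp_apply]

lemma compAux {D : Type u} [CommRing D] (p q : (A ⊗[C] C') ⊗[A] B →+* D)
    (h : ∀ x, p (algebraMap (A ⊗[C] C') _ x) = q (G.bcT hC C' x)) (a : A) :
    (p.comp (incB C')) (algebraMap A B a) = (q.comp (incB C')) (G.t a) := by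
  rw [RingHom.comp_apply, incB_algebraMap, h, bcT_left]
  rfl

/-- The composition after base change. -/
noncomputable def bcComp {D : Type u} [CommRing D] (p q : (A ⊗[C] C') ⊗[A] B →+* D)
    (h : ∀ x, p (algebraMap (A ⊗[C] C') _ x) = q (G.bcT hC C' x)) :
    (A ⊗[C] C') ⊗[A] B →+* D :=
  liftRing (q.comp (algebraMap (A ⊗[C] C') _)) (G.comp _ _ (G.compAux hC C' p q h)) fun a => by
    rw [G.comp_s, RingHom.comp_apply, RingHom.comp_apply, incB_algebraMap]
    rfl

lemma bcComp_incB {D : Type u} [CommRing D] (p q : (A ⊗[C] C') ⊗[A] B →+* D) (h) (b : B) :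
    G.bcComp hC C' p q h (incB C' b) = G.comp _ _ (G.compAux hC C' p q h) b := by
  simp [bcComp, incB_apply, ← Algebra.TensorProduct.one_def]

lemma bcComp_algebraMap {D : Type u} [CommRing D] (p q : (A ⊗[C] C') ⊗[A] B →+* D) (h)
    (x : A ⊗[C] C') :
    G.bcComp hC C' p q h (algebraMap (A ⊗[C] C') _ x) = q (algebraMap (A ⊗[C] C') _ x) := by
  simp [bcComp, Algebra.TensorProduct.algebraMap_apply]

lemma bcComp_comp_incB {D : Type u} [CommRing D] (p q : (A ⊗[C] C') ⊗[A] B →+* D) (h) :
    (G.bcComp hC C' p q h).comp (incB C') = G.comp _ _ (G.compAux hC C' p q h) :=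
  RingHom.ext (G.bcComp_incB hC C' p q h)

lemma bcComp_incC {D : Type u} [CommRing D] (p q : (A ⊗[C] C') ⊗[A] B →+* D) (h) (c : C') :
    G.bcComp hC C' p q h (incC C' c) = q (incC C' c) :=
  G.bcComp_algebraMap hC C' p q h _

lemma p_incC {D : Type u} [CommRing D] (p q : (A ⊗[C] C') ⊗[A] B →+* D)
    (h : ∀ x, p (algebraMap (A ⊗[C] C') _ x) = q (G.bcT hC C' x)) (c : C') :
    p (incC C' c) = q (incC C' c) := by
  rw [← algebraMap_right, h, bcT_right, algebraMap_right]

/-- The base change of an affine groupoid. -/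
noncomputable def baseChange : GR (A ⊗[C] C') ((A ⊗[C] C') ⊗[A] B) where
  t := G.bcT hC C'
  e := G.bcE C'
  i := G.bcI hC C'
  e_s := G.bcE_algebraMap C'
  e_t x := by
    have : (G.bcE C').comp (G.bcT hC C') = RingHom.id _ := by
      refine ringHom_ext_tmul (fun a => ?_) fun c => ?_
      · rw [RingHom.comp_apply, bcT_left, ← incB_apply, bcE_incB, G.e_t, RingHom.id_apply]
      · rw [RingHom.comp_apply, bcT_right, ← algebraMap_right, bcE_algebraMap, RingHom.id_apply]
    exact RingHom.congr_fun this x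
  i_s := G.bcI_algebraMap hC C'
  i_t x := by
    have : (G.bcI hC C').comp (G.bcT hC C') = algebraMap (A ⊗[C] C') _ := by
      refine ringHom_ext_tmul (fun a => ?_) fun c => ?_
      · rw [RingHom.comp_apply, bcT_left, ← incB_apply, bcI_incB, G.i_t, incB_algebraMap]
      · rw [RingHom.comp_apply, bcT_right, ← algebraMap_right, bcI_algebraMap, bcT_right,
          algebraMap_right]
    exact RingHom.congr_fun this x
  comp p q h := G.bcComp hC C' p q h
  comp_s p q h := G.bcComp_algebraMap hC C' p q h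
  comp_t p q h x := by
    have : (G.bcComp hC C' p q h).comp (G.bcT hC C') = p.comp (G.bcT hC C') := by
      refine ringHom_ext_tmul (fun a => ?_) fun c => ?_
      · simp only [RingHom.comp_apply, bcT_left, ← incB_apply, bcComp_incB, G.comp_t]
      · simp only [RingHom.comp_apply, bcT_right, bcComp_incC, G.p_incC hC C' p q h]
    exact RingHom.congr_fun this x
  comp_nat g p q h h' := by
    refine ringHom_ext_tmul₃ (fun b => ?_) fun c => ?_
    · simp only [RingHom.comp_apply, ← incB_apply, bcComp_incB]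
      exact RingHom.congr_fun (G.comp_nat g _ _ _ _) b
    · simp only [RingHom.comp_apply, ← incC_apply, bcComp_incC]
  assoc p q r h₁ h₂ h₃ h₄ := by
    refine ringHom_ext_tmul₃ (fun b => ?_) fun c => ?_
    · simp only [← incB_apply, bcComp_incB]
      simp only [bcComp_comp_incB]
      exact RingHom.congr_fun (G.assoc _ _ _ _ _ _ _) b
    · simp only [← incC_apply, bcComp_incC]
  comp_e p q hq h := by
    refine ringHom_ext_tmul₃ (fun b => ?_) fun c => ?_
    · simp only [← incB_apply, bcComp_incB]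
      refine RingHom.congr_fun (G.comp_e _ _ (fun b => ?_) _) b
      rw [RingHom.comp_apply, hq, bcE_incB, RingHom.comp_apply, incB_algebraMap]
    · simp only [← incC_apply, bcComp_incC, G.p_incC hC C' p q h]
  e_comp p q hp h := by
    refine ringHom_ext_tmul₃ (fun b => ?_) fun c => ?_
    · simp only [← incB_apply, bcComp_incB]
      refine RingHom.congr_fun (G.e_comp _ _ (fun b => ?_) _) b
      rw [RingHom.comp_apply, hp, bcE_incB, RingHom.comp_apply, bcT_left, incB_apply]
    · simp only [← incC_apply, bcComp_incC]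
  comp_i p q hq h x := by
    have : G.bcComp hC C' p q h = (p.comp (G.bcT hC C')).comp (G.bcE C') := by
      refine ringHom_ext_tmul₃ (fun b => ?_) fun c => ?_
      · simp only [← incB_apply, bcComp_incB, RingHom.comp_apply, bcE_incB, bcT_left]
        refine (G.comp_i _ _ (fun b => ?_) _ b).trans rfl
        rw [RingHom.comp_apply, hq, bcI_incB]
        rfl
      · simp only [← incC_apply, bcComp_incC, RingHom.comp_apply, ← G.p_incC hC C' p q h]
        simp only [← algebraMap_right, bcE_algebraMap]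
        rw [bcT_right, algebraMap_right]
    exact RingHom.congr_fun this x
  i_comp p q hp h x := by
    have : G.bcComp hC C' p q h = (q.comp (algebraMap (A ⊗[C] C') _)).comp (G.bcE C') := by
      refine ringHom_ext_tmul₃ (fun b => ?_) fun c => ?_
      · simp only [← incB_apply, bcComp_incB, RingHom.comp_apply, bcE_incB, ← incB_algebraMap]
        refine (G.i_comp _ _ (fun b => ?_) _ b).trans rfl
        rw [RingHom.comp_apply, hp, bcI_incB]
        rfl
      · simp only [← incC_apply, bcComp_incC, RingHom.comp_apply]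
        rw [← algebraMap_right, bcE_algebraMap]
    exact RingHom.congr_fun this x

@[simp] lemma baseChange_t : (G.baseChange hC C').t = G.bcT hC C' := rfl

include hC in
/-- Invariant functions after a flat base change come from the new constants. -/
theorem mem_range_of_invariant [Module.Flat C C']
    (hinv : ∀ a, G.t a = algebraMap A B a → a ∈ (algebraMap C A).range)
    (f : A ⊗[C] C') (hf : G.bcT hC C' f = algebraMap (A ⊗[C] C') _ f) :
    ∃ c, (1 : A) ⊗ₜ[C] c = f := by
  letI : Algebra C B := ((algebraMap A B).comp (algebraMap C A)).toAlgebra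
  have : IsScalarTower C A B := IsScalarTower.of_algebraMap_eq fun _ => rfl
  let sC : A →ₗ[C] B := (IsScalarTower.toAlgHom C A B).toLinearMap
  let tC : A →ₐ[C] B := { G.t with commutes' := hC }
  let d : A →ₗ[C] B := tC.toLinearMap - sC
  have hex : Function.Exact (Algebra.linearMap C A) d := fun a => by
    constructor
    · intro ha
      obtain ⟨c, hc⟩ := hinv a (sub_eq_zero.1 ha)
      exact ⟨c, hc⟩
    · rintro ⟨c, rfl⟩
      exact sub_eq_zero.2 (hC c)
  let Ψ : (A ⊗[C] C') ⊗[A] B →+* B ⊗[C] C' :=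
    liftRing (Algebra.TensorProduct.map (IsScalarTower.toAlgHom C A B) (AlgHom.id C C')).toRingHom
      Algebra.TensorProduct.includeLeftRingHom fun a => by
        show (Algebra.TensorProduct.map (IsScalarTower.toAlgHom C A B) (AlgHom.id C C'))
          (a ⊗ₜ 1) = algebraMap A B a ⊗ₜ 1
        simp
  have hs : ∀ x, Ψ (algebraMap (A ⊗[C] C') _ x) =
      Algebra.TensorProduct.map (IsScalarTower.toAlgHom C A B) (AlgHom.id C C') x := fun x => by
    simp [Ψ, Algebra.TensorProduct.algebraMap_apply, ← Algebra.TensorProduct.one_def]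
  have ht : ∀ x, Ψ (G.bcT hC C' x) = Algebra.TensorProduct.map tC (AlgHom.id C C') x := fun x => by
    have : Ψ.comp (G.bcT hC C') = (Algebra.TensorProduct.map tC (AlgHom.id C C')).toRingHom := by
      refine ringHom_ext_tmul (fun a => ?_) fun c => ?_
      · simp [Ψ, bcT_left, tC]
      · rw [RingHom.comp_apply, bcT_right, ← algebraMap_right, hs]
        simp
    exact RingHom.congr_fun this x
  have h0 : d.rTensor C' f = 0 := by
    have h1 := congrArg Ψ hf
    rw [hs, ht] at h1
    rw [LinearMap.rTensor_sub, LinearMap.sub_apply, sub_eq_zero]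
    exact h1
  obtain ⟨y, hy⟩ := (Module.Flat.rTensor_exact C' hex f).1 h0
  refine ⟨TensorProduct.lid C C' y, ?_⟩
  rw [← hy]
  clear hy
  induction y with
  | zero => simp
  | add a b ha hb => simp [tmul_add, ha, hb]
  | tmul c x =>
    simp [Algebra.algebraMap_eq_smul_one, smul_tmul']

end GR

end Groth.Agent.GrpdLib
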