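import Groth.Agent.Grpd.BaseChange
import Mathlib.LinearAlgebra.TensorProduct.Basis
import Mathlib.RingTheory.TensorProduct.Free
import Mathlib.RingTheory.TensorProduct.Maps

/-!
If the arrows have a basis pulled back along the target, so do the objects over the invariants.
-/

universe u

open TensorProduct

namespace Groth.Agent.GrpdLib

namespace GR

variable {A B : Type u} [CommRing A] [CommRing B] [Algebra A B] (G : GR A B)
  {I : Type u} (x : I → A) (b : Module.Basis I A B) (hb : ∀ i, b i = G.t (x i))

include hb in
/-- The coordinates of the pullback of a function are invariant. -/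
theorem coord_invariant (a : A) (i : I) : G.t (b.repr (G.t a) i) = algebraMap A B (b.repr (G.t a) i) := by
  let b' := b.baseChange G.TB
  let q : B →+* G.TB ⊗[A] B := Algebra.TensorProduct.includeLeftRingHom.comp G.toTB
  let p : B →+* G.TB ⊗[A] B := Algebra.TensorProduct.includeRight.toRingHom
  have h : ∀ a, p (algebraMap A B a) = q (G.t a) := fun a => by
    show (1 : G.TB) ⊗ₜ[A] algebraMap A B a = G.toTB (G.t a) ⊗ₜ 1
    rw [← algebraMap_TB, Algebra.algebraMap_eq_smul_one, Algebra.algebraMap_eq_smul_one,
      smul_tmul]
  let lam := b.repr (G.t a)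
  have h1 : G.t a = lam.sum fun j c => c • G.t (x j) := by
    conv_lhs => rw [← b.linearCombination_repr (G.t a), Finsupp.linearCombination_apply]
    exact Finsupp.sum_congr fun j _ => by rw [hb]
  have e1 : p (G.t a) = lam.sum fun j c => (G.toTB (algebraMap A B c)) • b' j := by
    calc p (G.t a) = G.comp p q h (G.t a) := (G.comp_t p q h a).symm
      _ = _ := by
        rw [h1, map_finsuppSum]
        refine Finsupp.sum_congr fun j _ => ?_
        rw [Algebra.smul_def, map_mul, G.comp_s, G.comp_t, Algebra.smul_def]
        show G.toTB (algebraMap A B (lam j)) ⊗ₜ 1 * (1 : G.TB) ⊗ₜ[A] G.t (x j) =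
          G.toTB (algebraMap A B (lam j)) ⊗ₜ 1 * b' j
        simp [b', hb]
  have r1 : b'.repr (p (G.t a)) i = G.toTB (G.t (lam i)) := by
    show b'.repr ((1 : G.TB) ⊗ₜ[A] G.t a) i = _
    rw [Module.Basis.baseChange_repr_tmul, Algebra.smul_def, mul_one, algebraMap_TB]
  have r2 : b'.repr (p (G.t a)) i = G.toTB (algebraMap A B (lam i)) := by
    rw [e1]
    let l' : I →₀ G.TB := lam.mapRange (fun c => G.toTB (algebraMap A B c)) (by simp)
    have : (lam.sum fun j c => G.toTB (algebraMap A B c) • b' j) =
        Finsupp.linearCombination G.TB b' l' := by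
      rw [Finsupp.linearCombination_apply, Finsupp.sum_mapRange_index]
      exact fun _ => zero_smul _ _
    rw [this, b'.repr_linearCombination, Finsupp.mapRange_apply]
  exact congrArg G.ofTB (r1.symm.trans r2)

variable {C : Type u} [CommRing C] [Algebra C A] (hinj : Function.Injective (algebraMap C A))
  (hC : ∀ c, G.t (algebraMap C A c) = algebraMap A B (algebraMap C A c))
  (hinv : ∀ a, G.t a = algebraMap A B a → a ∈ (algebraMap C A).range)

include hb hinj hC hinv in
/-- The objects are free over the invariants on the same elements. -/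
theorem exists_basis : ∃ c : Module.Basis I C A, ∀ i, c i = x i := by
  have hli : LinearIndependent C x := by
    rw [linearIndependent_iff]
    intro l hl
    have h0 := congrArg G.t hl
    rw [Finsupp.linearCombination_apply, map_finsuppSum, map_zero] at h0
    let l' : I →₀ A := l.mapRange (algebraMap C A) (map_zero _)
    have h1 : Finsupp.linearCombination A b l' = 0 := by
      rw [← h0, Finsupp.linearCombination_apply, Finsupp.sum_mapRange_index]
      swap; · exact fun _ => zero_smul _ _
      refine Finsupp.sum_congr fun j _ => ?_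
      rw [Algebra.smul_def (A := A), map_mul, hC, Algebra.smul_def, hb]
    have h2 : l' = 0 := linearIndependent_iff.1 b.linearIndependent l' h1
    refine Finsupp.ext fun i => hinj ?_
    simpa [l'] using DFunLike.congr_fun h2 i
  refine ⟨Module.Basis.mk hli ?_, fun i => Module.Basis.mk_apply _ _ i⟩
  intro a _
  have h1 : G.t a = (b.repr (G.t a)).sum fun j c => c • G.t (x j) := by
    conv_lhs => rw [← b.linearCombination_repr (G.t a), Finsupp.linearCombination_apply]
    exact Finsupp.sum_congr fun j _ => by rw [hb]
  rw [← G.e_t a, h1, map_finsuppSum]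
  refine Submodule.finsuppSum_mem _ _ _ _ fun j _ => ?_
  obtain ⟨c, hc⟩ := hinv _ (G.coord_invariant x b hb a j)
  rw [Algebra.smul_def, map_mul, G.e_s, G.e_t, ← hc, ← Algebra.smul_def]
  exact Submodule.smul_mem _ _ (Submodule.subset_span ⟨j, rfl⟩)

include hb hinj hC hinv in
/-- `a ⊗ a' ↦ t a · s a'` is bijective. -/
theorem bijective_of_basis (φ : A ⊗[C] A →+ B)
    (hφ : ∀ a a', φ (a ⊗ₜ a') = G.t a * algebraMap A B a') : Function.Bijective φ := by
  obtain ⟨c, hc⟩ := G.exists_basis x b hb hinj hC hinv
  let c' := c.baseChange A
  let e := c'.equiv b (Equiv.refl I)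
  have hcomm : ∀ z : A ⊗[C] A, φ z = e (TensorProduct.comm C A A z) := by
    intro z
    induction z with
    | zero => simp
    | add u v hu hv => simp only [map_add, hu, hv]
    | tmul a a' =>
      let lam := c.repr a
      have ha : a = lam.sum fun j l => l • x j := by
        conv_lhs => rw [← c.linearCombination_repr a, Finsupp.linearCombination_apply]
        exact Finsupp.sum_congr fun j _ => by rw [hc]
      rw [hφ, TensorProduct.comm_tmul]
      conv_lhs => rw [ha, map_finsuppSum, Finsupp.sum_mul]
      conv_rhs => rw [ha, Finsupp.sum, tmul_sum, map_sum]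
      refine Finset.sum_congr rfl fun j _ => ?_
      dsimp only
      rw [show a' ⊗ₜ[C] (lam j • x j) = (lam j • a') • c' j by
        rw [← smul_tmul, Module.Basis.baseChange_apply, hc, smul_tmul' (lam j • a') (1 : A) (x j),
          smul_eq_mul, mul_one]]
      rw [e.map_smul, Module.Basis.equiv_apply, Equiv.refl_apply, hb, Algebra.smul_def (lam j) (x j),
        map_mul, hC, Algebra.smul_def, Algebra.smul_def, map_mul]
      ring
  rw [show (φ : A ⊗[C] A → B) = e ∘ TensorProduct.comm C A A from funext hcomm]
  exact e.bijective.comp (TensorProduct.comm C A A).bijective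

end GR

end Groth.Agent.GrpdLib
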