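import Groth.Agent.Grpd.OverField

/-!
# Composition as a base change of the source
-/

universe u
open CategoryTheory CategoryTheory.Limits AlgebraicGeometry

set_option backward.isDefEq.respectTransparency false

namespace Groth.Agent.GrpdLib

variable {S : Scheme.{u}} (G : Grpd.GroupoidScheme S)

theorem comp_isPullback :
    (∀ φ : pullback G.t G.t ⟶ pullback G.s G.t, φ ≫ pullback.fst G.s G.t = pullback.fst G.t G.t →
      φ ≫ pullback.snd G.s G.t = pullback.lift (pullback.fst G.t G.t ≫ G.i) (pullback.snd G.t G.t)
        ((Category.assoc _ _ _).trans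
          ((congrArg (fun x => pullback.fst G.t G.t ≫ x) G.i_s).trans pullback.condition)) ≫ G.c →
      IsIso φ ∧ φ ≫ G.c = pullback.snd G.t G.t) ∧
    IsPullback G.c (pullback.snd G.s G.t) G.s G.s := by
  have hc : G.c = gmul G (pullback.fst G.s G.t) (pullback.snd G.s G.t) pullback.condition := by
    rw [gmul_eq, show pullback.lift (pullback.fst G.s G.t) (pullback.snd G.s G.t) pullback.condition = 𝟙 _
      from pullback.hom_ext (by simp) (by simp), Category.id_comp]
  refine ⟨fun φ h1 h2 => ?_, ?_⟩
  · rw [← gmul_eq] at h2
    have hw : pullback.fst G.s G.t ≫ G.t =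
        gmul G (pullback.fst G.s G.t) (pullback.snd G.s G.t) pullback.condition ≫ G.t := by rw [gmul_t]
    let ψ : pullback G.s G.t ⟶ pullback G.t G.t := pullback.lift (pullback.fst _ _)
      (gmul G (pullback.fst G.s G.t) (pullback.snd G.s G.t) pullback.condition) hw
    have hφc : φ ≫ G.c = pullback.snd G.t G.t := by
      rw [hc, comp_gmul, gmul_congr G h1 h2, gmul_inv G _ _ pullback.condition]
    refine ⟨⟨ψ, ?_, ?_⟩, hφc⟩
    · apply pullback.hom_ext
      · simp only [ψ, Category.assoc, pullback.lift_fst, Category.id_comp, h1]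
      · simp only [ψ, Category.assoc, pullback.lift_snd, Category.id_comp]
        rw [← hc, hφc]
    · apply pullback.hom_ext
      · simp only [ψ, Category.assoc, h1, pullback.lift_fst, Category.id_comp]
      · rw [Category.assoc, h2, comp_gmul, Category.id_comp]
        rw [gmul_congr G (show ψ ≫ pullback.fst G.t G.t ≫ G.i = pullback.fst G.s G.t ≫ G.i by simp [ψ])
          (show ψ ≫ pullback.snd G.t G.t = _ from pullback.lift_snd _ _ _)]
        exact inv_gmul G _ _ pullback.condition
  · let f : pullback G.s G.s ⟶ pullback G.s G.t :=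
      pullback.lift (gmul G (pullback.fst G.s G.s) (pullback.snd G.s G.s ≫ G.i)
        (by rw [Category.assoc, G.i_t, pullback.condition])) (pullback.snd G.s G.s)
        (by rw [gmul_s, Category.assoc, G.i_s])
    have w : G.c ≫ G.s = pullback.snd G.s G.t ≫ G.s := by rw [hc, gmul_s]
    refine IsPullback.of_iso (IsPullback.of_hasPullback G.s G.s)
      ⟨f, pullback.lift G.c (pullback.snd G.s G.t) w, ?_, ?_⟩ (Iso.refl _) (Iso.refl _) (Iso.refl _)
      ?_ ?_ (by simp) (by simp)
    · apply pullback.hom_ext
      · simp only [Category.assoc, pullback.lift_fst, Category.id_comp]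
        rw [hc, comp_gmul, gmul_congr G (pullback.lift_fst _ _ _) (pullback.lift_snd _ _ _)]
        have h := gmul_gmul_inv G (pullback.fst G.s G.s) (pullback.snd G.s G.s ≫ G.i)
          (by rw [Category.assoc, G.i_t, pullback.condition])
        rwa [gmul_congr G rfl (i_comp_i G _)] at h
      · simp [f]
    · apply pullback.hom_ext
      · simp only [f, Category.assoc, pullback.lift_fst, Category.id_comp]
        rw [comp_gmul, gmul_congr G
          (show pullback.lift G.c (pullback.snd G.s G.t) w ≫ pullback.fst G.s G.s = _ from
            (pullback.lift_fst _ _ _).trans hc)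
          (show pullback.lift G.c (pullback.snd G.s G.t) w ≫ pullback.snd G.s G.s ≫ G.i =
            pullback.snd G.s G.t ≫ G.i by simp)]
        exact gmul_gmul_inv G _ _ pullback.condition
      · simp [f]
    · simp only [Iso.refl_hom, Category.comp_id]
      show _ = f ≫ G.c
      rw [hc, comp_gmul, gmul_congr G (pullback.lift_fst _ _ _) (pullback.lift_snd _ _ _)]
      have h := gmul_gmul_inv G (pullback.fst G.s G.s) (pullback.snd G.s G.s ≫ G.i)
        (by rw [Category.assoc, G.i_t, pullback.condition])
      rw [gmul_congr G rfl (i_comp_i G _)] at h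
      exact h.symm
    · simp [f]

end Groth.Agent.GrpdLib
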