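import Groth.Agent.Grpd.Quot
import Mathlib.RingTheory.Flat.FaithfullyFlat.Algebra

/-!
An affine finite flat equivalence relation has a finite flat quotient.
-/

universe u

open TensorProduct

namespace Groth.Agent.GrpdLib

/-- An element killed by a covering family of flat extensions is zero. -/
lemma eq_zero_of_covering {C M : Type u} [CommRing C] [AddCommGroup M] [Module C M] (m : M)
    (h : ∀ p : PrimeSpectrum C, ∃ (D : Type u) (_ : CommRing D) (_ : Algebra C D), Module.Flat C D ∧
      (∃ P : Ideal D, P.IsPrime ∧ P.comap (algebraMap C D) = p.asIdeal) ∧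
      m ⊗ₜ[C] (1 : D) = 0) : m = 0 := by
  by_contra hm
  let I := LinearMap.ker (LinearMap.toSpanSingleton C M m)
  have hI : (I : Ideal C) ≠ ⊤ := fun h1 => hm (by
    have : (1 : C) ∈ I := by rw [h1]; trivial
    simpa [I] using this)
  obtain ⟨J, hJ, hIJ⟩ := Ideal.exists_le_maximal (I : Ideal C) hI
  obtain ⟨D, _, _, hflat, ⟨P, hP, hPc⟩, hmD⟩ := h ⟨J, hJ.isPrime⟩
  let ι : (C ⧸ I) →ₗ[C] M := Submodule.liftQ I (LinearMap.toSpanSingleton C M m) le_rfl
  have hι : Function.Injective ι := by
    rw [← LinearMap.ker_eq_bot]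
    exact Submodule.ker_liftQ_eq_bot _ _ _ le_rfl
  have h0 : (Submodule.Quotient.mk (1 : C) : C ⧸ I) ⊗ₜ[C] (1 : D) = 0 :=
    Module.Flat.rTensor_preserves_injective_linearMap ι hι (by
      rw [map_zero, LinearMap.rTensor_tmul]
      show LinearMap.toSpanSingleton C M m 1 ⊗ₜ[C] (1 : D) = 0
      simpa using hmD)
  let g : C ⧸ I →ₗ[C] D ⧸ P := Submodule.liftQ I
    ((Ideal.Quotient.mkₐ C P).toLinearMap ∘ₗ Algebra.linearMap C D) fun c hc => by
      rw [LinearMap.mem_ker]
      show Ideal.Quotient.mk P (algebraMap C D c) = 0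
      rw [Ideal.Quotient.eq_zero_iff_mem, ← Ideal.mem_comap, hPc]
      exact hIJ hc
  have h1 := congrArg (TensorProduct.lift
    (((LinearMap.mul C (D ⧸ P)).comp g).compl₂ (Ideal.Quotient.mkₐ C P).toLinearMap)) h0
  rw [map_zero, TensorProduct.lift.tmul] at h1
  change Ideal.Quotient.mk P (algebraMap C D 1) * Ideal.Quotient.mk P 1 = 0 at h1
  rw [map_one, ← map_mul, one_mul, Ideal.Quotient.eq_zero_iff_mem] at h1
  exact hP.ne_top ((Ideal.eq_top_iff_one P).2 h1)

/-- A linear map bijective on a covering family of flat extensions is bijective. -/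
lemma bijective_of_covering {C M M' : Type u} [CommRing C] [AddCommGroup M] [Module C M]
    [AddCommGroup M'] [Module C M'] (f : M →ₗ[C] M')
    (h : ∀ p : PrimeSpectrum C, ∃ (D : Type u) (_ : CommRing D) (_ : Algebra C D), Module.Flat C D ∧
      (∃ P : Ideal D, P.IsPrime ∧ P.comap (algebraMap C D) = p.asIdeal) ∧
      Function.Bijective (f.rTensor D)) : Function.Bijective f := by
  constructor
  · rw [← LinearMap.ker_eq_bot, eq_bot_iff]
    intro m hm
    refine eq_zero_of_covering (C := C) m fun p => ?_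
    obtain ⟨D, i₁, i₂, hflat, hP, hb⟩ := h p
    refine ⟨D, i₁, i₂, hflat, hP, hb.1 ?_⟩
    rw [map_zero, LinearMap.rTensor_tmul, LinearMap.mem_ker.1 hm, zero_tmul]
  · intro y
    suffices (Submodule.Quotient.mk y : M' ⧸ LinearMap.range f) = 0 from
      (Submodule.Quotient.mk_eq_zero _).1 this
    refine eq_zero_of_covering (C := C) _ fun p => ?_
    obtain ⟨D, i₁, i₂, hflat, hP, hb⟩ := h p
    refine ⟨D, i₁, i₂, hflat, hP, ?_⟩
    obtain ⟨z, hz⟩ := hb.2 (y ⊗ₜ 1)
    have := congrArg ((LinearMap.range f).mkQ.rTensor D) hz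
    rw [← LinearMap.rTensor_comp_apply, LinearMap.range_mkQ_comp, LinearMap.rTensor_zero] at this
    exact this.symm

namespace GR

variable {A B : Type u} [CommRing A] [CommRing B] [Algebra A B] (G : GR A B)
  [Module.Finite A B] [Module.Projective A B]
  {C : Type u} [CommRing C] [Algebra C A] (hinj : Function.Injective (algebraMap C A))
  (hC : ∀ c, G.t (algebraMap C A c) = algebraMap A B (algebraMap C A c))
  (hinv : ∀ a, G.t a = algebraMap A B a → a ∈ (algebraMap C A).range)

/-- `a ⊗ a' ↦ t a · s a'`. -/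
noncomputable def mult : A ⊗[C] A →+* B := liftRing G.t (algebraMap A B) hC

attribute [local instance] Algebra.TensorProduct.rightAlgebra in
include hinj hinv in
/-- Flatness and the product decomposition for affine finite flat equivalence relations. -/
theorem flat_and_bijective (hgen : Submodule.span A (Set.range G.t) = ⊤) :
    Module.Flat C A ∧ Function.Bijective (G.mult hC) := by
  have hI : Algebra.IsIntegral C A := ⟨fun g => G.isIntegral hinv g⟩
  let sB : C →+* B := (algebraMap A B).comp (algebraMap C A)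
  letI : Algebra C B := sB.toAlgebra
  have : IsScalarTower C A B := IsScalarTower.of_algebraMap_eq fun _ => rfl
  let μ : A ⊗[C] A →ₗ[C] B :=
    { toFun := G.mult hC
      map_add' := map_add _
      map_smul' := fun c z => by
        rw [Algebra.smul_def, map_mul, Algebra.smul_def, RingHom.id_apply]
        congr 1
        rw [show algebraMap C (A ⊗[C] A) c = algebraMap C A c ⊗ₜ 1 from rfl, mult, liftRing_tmul,
          map_one, mul_one, hC]
        rfl }
  have hD : ∀ p : PrimeSpectrum C, ∃ (D : Type u) (_ : CommRing D) (_ : Algebra C D),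
      Module.Flat C D ∧ (∃ P : Ideal D, P.IsPrime ∧ P.comap (algebraMap C D) = p.asIdeal) ∧
      Module.Flat C (A ⊗[C] D) ∧ Function.Bijective (μ.rTensor D) := by
    intro p
    obtain ⟨D, _, _, hflat, hP, n, x, b, hb⟩ := G.exists_flat_basis hinj hC hinv hgen p
    refine ⟨D, inferInstance, inferInstance, hflat, hP, ?_⟩
    let G' := G.baseChange hC D
    have hC' : ∀ d, G'.t (algebraMap D (A ⊗[C] D) d) = algebraMap (A ⊗[C] D) ((A ⊗[C] D) ⊗[A] B) (algebraMap D (A ⊗[C] D) d) :=
      fun d => G.bcT_right hC D d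
    have hinj' : Function.Injective (algebraMap D (A ⊗[C] D)) := by
      intro a a' hab
      have hι : Function.Injective (LinearMap.rTensor D (Algebra.linearMap C A)) :=
        Module.Flat.rTensor_preserves_injective_linearMap _ hinj
      refine (TensorProduct.lid C D).symm.injective (hι ?_)
      simpa using show (1 : A) ⊗ₜ[C] a = 1 ⊗ₜ a' from hab
    have hinv' : ∀ a, G'.t a = algebraMap (A ⊗[C] D) ((A ⊗[C] D) ⊗[A] B) a → a ∈ (algebraMap D (A ⊗[C] D)).range :=
      fun a ha => G.mem_range_of_invariant hC D hinv a ha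
    obtain ⟨c, -⟩ := G'.exists_basis x b hb hinj' hC' hinv'
    have : Module.Free D (A ⊗[C] D) := Module.Free.of_basis c
    have : IsScalarTower C D (A ⊗[C] D) := IsScalarTower.of_algebraMap_eq fun r =>
      ((Algebra.TensorProduct.includeRight : D →ₐ[C] (A ⊗[C] D)).commutes r).symm
    refine ⟨Module.Flat.trans C D (A ⊗[C] D), ?_⟩
    let φ' : (A ⊗[C] D) ⊗[D] (A ⊗[C] D) →+* (A ⊗[C] D) ⊗[A] B := liftRing G'.t (algebraMap (A ⊗[C] D) _) hC'
    have hφ' : Function.Bijective φ' :=
      G'.bijective_of_basis x b hb hinj' hC' hinv' φ'.toAddMonoidHom fun a a' => liftRing_tmul _ _ hC' a a'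
    let iA : A →+* (A ⊗[C] D) := Algebra.TensorProduct.includeLeftRingHom
    let iD : D →+* (A ⊗[C] D) := (Algebra.TensorProduct.includeRight : D →ₐ[C] (A ⊗[C] D)).toRingHom
    have hiC : ∀ r, iA (algebraMap C A r) = iD (algebraMap C D r) := fun r =>
      ((Algebra.TensorProduct.includeLeft : A →ₐ[C] (A ⊗[C] D)).commutes r).trans
        ((Algebra.TensorProduct.includeRight : D →ₐ[C] (A ⊗[C] D)).commutes r).symm
    let l₂ : (A ⊗[C] D) →+* (A ⊗[C] D) ⊗[D] (A ⊗[C] D) := Algebra.TensorProduct.includeLeftRingHom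
    let r₂ : (A ⊗[C] D) →+* (A ⊗[C] D) ⊗[D] (A ⊗[C] D) := (Algebra.TensorProduct.includeRight : (A ⊗[C] D) →ₐ[D] (A ⊗[C] D) ⊗[D] (A ⊗[C] D)).toRingHom
    have hlr : ∀ d, l₂ (iD d) = r₂ (iD d) := fun d =>
      ((Algebra.TensorProduct.includeLeft : (A ⊗[C] D) →ₐ[D] (A ⊗[C] D) ⊗[D] (A ⊗[C] D)).commutes d).trans
        ((Algebra.TensorProduct.includeRight : (A ⊗[C] D) →ₐ[D] (A ⊗[C] D) ⊗[D] (A ⊗[C] D)).commutes d).symm
    let Θ₀ : A ⊗[C] A →+* (A ⊗[C] D) ⊗[D] (A ⊗[C] D) := liftRing (l₂.comp iA) (r₂.comp iA) fun r => by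
      simp only [RingHom.comp_apply, hiC, hlr]
    let Θ : (A ⊗[C] A) ⊗[C] D →+* (A ⊗[C] D) ⊗[D] (A ⊗[C] D) := liftRing Θ₀ (l₂.comp iD) fun r => by
      rw [show algebraMap C (A ⊗[C] A) r = algebraMap C A r ⊗ₜ 1 from rfl, liftRing_tmul, map_one,
        mul_one, RingHom.comp_apply, RingHom.comp_apply, hiC]
    let kD : D →+* (A ⊗[C] A) ⊗[C] D :=
      (Algebra.TensorProduct.includeRight : D →ₐ[C] (A ⊗[C] A) ⊗[C] D).toRingHom
    let kA : A ⊗[C] A →+* (A ⊗[C] A) ⊗[C] D := Algebra.TensorProduct.includeLeftRingHom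
    have hk : ∀ r, kA (algebraMap C (A ⊗[C] A) r) = kD (algebraMap C D r) := fun r =>
      ((Algebra.TensorProduct.includeLeft : A ⊗[C] A →ₐ[C] (A ⊗[C] A) ⊗[C] D).commutes r).trans
        ((Algebra.TensorProduct.includeRight : D →ₐ[C] (A ⊗[C] A) ⊗[C] D).commutes r).symm
    let L : (A ⊗[C] D) →+* (A ⊗[C] A) ⊗[C] D :=
      liftRing (kA.comp Algebra.TensorProduct.includeLeftRingHom) kD fun r => hk r
    let R : (A ⊗[C] D) →+* (A ⊗[C] A) ⊗[C] D :=
      liftRing (kA.comp (Algebra.TensorProduct.includeRight : A →ₐ[C] A ⊗[C] A).toRingHom) kD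
        fun r => by
          rw [RingHom.comp_apply, ← hk r]
          exact congrArg kA ((Algebra.TensorProduct.includeRight : A →ₐ[C] A ⊗[C] A).commutes r)
    let Θi : (A ⊗[C] D) ⊗[D] (A ⊗[C] D) →+* (A ⊗[C] A) ⊗[C] D := liftRing L R fun d => by
      show L (1 ⊗ₜ d) = R (1 ⊗ₜ d)
      simp [L, R]
    have hΘ : Θi.comp Θ = RingHom.id _ := by
      refine ringHom_ext_tmul (fun z => ?_) (fun d => ?_)
      · have : Θi.comp (Θ.comp kA) = kA := by
          refine ringHom_ext_tmul (fun a => ?_) (fun a => ?_) <;>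
            simp [Θ, Θ₀, Θi, kA, kD, L, R, l₂, r₂, iA, Algebra.TensorProduct.includeLeftRingHom_apply, incB_apply, incC_apply, ← Algebra.TensorProduct.one_def]
        exact RingHom.congr_fun this z
      · simp [Θ, Θi, kA, kD, L, R, l₂, r₂, iD, Algebra.TensorProduct.includeLeftRingHom_apply, incB_apply, incC_apply, ← Algebra.TensorProduct.one_def]
    let Φ : B ⊗[C] D →+* (A ⊗[C] D) ⊗[A] B :=
      liftRing (incB (C := C) D) (incC D) fun r => (incC_algebraMap D r).symm
    let Φl : (A ⊗[C] D) →+* B ⊗[C] D :=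
      (Algebra.TensorProduct.map (IsScalarTower.toAlgHom C A B) (AlgHom.id C D)).toRingHom
    let Φi : (A ⊗[C] D) ⊗[A] B →+* B ⊗[C] D :=
      liftRing Φl Algebra.TensorProduct.includeLeftRingHom fun a => by
        show (Algebra.TensorProduct.map (IsScalarTower.toAlgHom C A B) (AlgHom.id C D))
          (a ⊗ₜ 1) = algebraMap A B a ⊗ₜ 1
        simp
    have hΦ : Φi.comp Φ = RingHom.id _ := by
      refine ringHom_ext_tmul (fun z => ?_) (fun d => ?_) <;>
        simp [Φ, Φi, Φl, incB_apply, incC_apply, Algebra.TensorProduct.includeLeftRingHom_apply, incB_apply, incC_apply, ← Algebra.TensorProduct.one_def]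
    have hΘ' : Θ.comp Θi = RingHom.id _ := by
      have e1 : Θ.comp L = l₂ := by
        refine ringHom_ext_tmul (fun a => ?_) (fun d => ?_) <;>
          simp [Θ, Θ₀, kA, kD, L, l₂, r₂, iA, iD, Algebra.TensorProduct.includeLeftRingHom_apply, incB_apply, incC_apply, ← Algebra.TensorProduct.one_def]
      have e2 : Θ.comp R = r₂ := by
        refine ringHom_ext_tmul (fun a => ?_) (fun d => ?_)
        · simp [Θ, Θ₀, kA, kD, R, l₂, r₂, iA, Algebra.TensorProduct.includeLeftRingHom_apply, incB_apply, incC_apply, ← Algebra.TensorProduct.one_def]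
        · refine Eq.trans ?_ (hlr d)
          simp [Θ, kA, kD, R, l₂, iD, Algebra.TensorProduct.includeLeftRingHom_apply, incB_apply, incC_apply, ← Algebra.TensorProduct.one_def]
      refine ringHom_ext_tmul (fun z => ?_) (fun z => ?_)
      · simpa [Θi, Algebra.TensorProduct.includeLeftRingHom_apply, incB_apply, incC_apply, ← Algebra.TensorProduct.one_def, l₂] using RingHom.congr_fun e1 z
      · simpa [Θi, Algebra.TensorProduct.includeLeftRingHom_apply, incB_apply, incC_apply, ← Algebra.TensorProduct.one_def, r₂] using RingHom.congr_fun e2 z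
    have hΦ' : Φ.comp Φi = RingHom.id _ := by
      refine ringHom_ext_tmul₃ (fun b => ?_) (fun d => ?_) <;>
        simp [Φ, Φi, Φl, incB_apply, incC_apply, Algebra.TensorProduct.includeLeftRingHom_apply, incB_apply, incC_apply, ← Algebra.TensorProduct.one_def]
    have key : ∀ z, μ.rTensor D z = Φi (φ' (Θ z)) := by
      intro z
      induction z with
      | zero => simp
      | add u v hu hv => simp only [map_add, hu, hv]
      | tmul z d =>
        induction z with
        | zero => simp
        | add u v hu hv => simp only [add_tmul, map_add, hu, hv]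
        | tmul a a' =>
          rw [LinearMap.rTensor_tmul]
          show G.mult hC (a ⊗ₜ a') ⊗ₜ d = _
          simp [mult, Θ, Θ₀, Φi, Φl, φ', G', l₂, r₂, iA, iD, bcT_left, bcT_right, incC_apply,
            Algebra.TensorProduct.includeLeftRingHom_apply, incB_apply, incC_apply, ← Algebra.TensorProduct.one_def, mul_comm]
          rw [show a ⊗ₜ[C] d = a ⊗ₜ 1 * 1 ⊗ₜ d by simp, map_mul, map_mul, bcT_left, bcT_right,
            incC_apply, liftRing_tmul, liftRing_tmul]
          simp [Algebra.TensorProduct.includeLeftRingHom_apply, mul_comm]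
    rw [show (μ.rTensor D : (A ⊗[C] A) ⊗[C] D → B ⊗[C] D) = Φi ∘ φ' ∘ Θ from funext key]
    exact ((RingEquiv.ofRingHom Φi Φ hΦ hΦ').bijective).comp
      (hφ'.comp (RingEquiv.ofRingHom Θ Θi hΘ' hΘ).bijective)
  have hbij : Function.Bijective μ := bijective_of_covering μ fun p => by
    obtain ⟨D, i₁, i₂, h₁, h₂, -, h₃⟩ := hD p
    exact ⟨D, i₁, i₂, h₁, h₂, h₃⟩
  have hflat : Module.Flat C A := by
    rw [Module.Flat.iff_rTensor_injective']
    intro I
    rw [← LinearMap.ker_eq_bot, eq_bot_iff]
    intro z hz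
    refine eq_zero_of_covering (C := C) z fun p => ?_
    obtain ⟨D, i₁, i₂, h₁, h₂, h₄, -⟩ := hD p
    refine ⟨D, i₁, i₂, h₁, h₂, ?_⟩
    have hnat : ∀ w : (I ⊗[C] A) ⊗[C] D, TensorProduct.assoc C C A D
        (LinearMap.rTensor D (LinearMap.rTensor A I.subtype) w) =
        LinearMap.rTensor (A ⊗[C] D) I.subtype (TensorProduct.assoc C I A D w) := by
      intro w
      induction w with
      | zero => simp
      | add u v hu hv => simp only [map_add, hu, hv]
      | tmul w d =>
        induction w with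
        | zero => simp
        | add u v hu hv => simp only [add_tmul, map_add, hu, hv]
        | tmul i a => simp
    refine (TensorProduct.assoc C I A D).injective
      (Module.Flat.rTensor_preserves_injective_linearMap I.subtype Subtype.val_injective ?_)
    rw [← hnat, LinearMap.rTensor_tmul, LinearMap.mem_ker.1 hz, zero_tmul, map_zero, map_zero,
      map_zero]
  exact ⟨hflat, hbij⟩

include hinj hinv in
/-- The fundamental theorem for affine finite flat equivalence relations. -/
theorem quotient (hgen : Submodule.span A (Set.range G.t) = ⊤) [Algebra.FinitePresentation A B] :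
    Module.Flat C A ∧ Module.Finite C A ∧ Algebra.FinitePresentation C A ∧
      Function.Bijective (G.mult hC) := by
  obtain ⟨hflat, hbij⟩ := G.flat_and_bijective hinj hC hinv hgen
  have hI : Algebra.IsIntegral C A := ⟨fun g => G.isIntegral hinv g⟩
  letI : Algebra C B := ((algebraMap A B).comp (algebraMap C A)).toAlgebra
  have : IsScalarTower C A B := IsScalarTower.of_algebraMap_eq fun _ => rfl
  have hff : Module.FaithfullyFlat C A := by
    refine Module.FaithfullyFlat.of_comap_surjective fun p => ?_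
    have hle : RingHom.ker (algebraMap C A) ≤ p.asIdeal := by
      rw [(RingHom.injective_iff_ker_eq_bot _).1 hinj]; exact bot_le
    obtain ⟨q, -, hq⟩ := Ideal.exists_ideal_over_prime_of_isIntegral p.asIdeal (⊥ : Ideal A)
      (by rwa [← RingHom.ker_eq_comap_bot])
    exact ⟨⟨q, hq.1⟩, PrimeSpectrum.ext hq.2⟩
  let tC : A →ₐ[C] B := { G.t with commutes' := hC }
  let ν : A ⊗[C] A →ₐ[A] B := Algebra.TensorProduct.lift (Algebra.ofId A B) tC fun _ _ => .all _ _
  have hν : Function.Bijective ν := by
    have : ∀ z, ν z = G.mult hC (TensorProduct.comm C A A z) := by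
      intro z
      induction z with
      | zero => simp
      | add u v hu hv => simp only [map_add, hu, hv]
      | tmul a a' =>
        rw [TensorProduct.comm_tmul]
        simp [ν, tC, mult, mul_comm, Algebra.ofId_apply]
    rw [show (ν : A ⊗[C] A → B) = G.mult hC ∘ TensorProduct.comm C A A from funext this]
    exact hbij.comp (TensorProduct.comm C A A).bijective
  let e := AlgEquiv.ofBijective ν hν
  have : Module.Finite A (A ⊗[C] A) := Module.Finite.equiv e.symm.toLinearEquiv
  have : Algebra.FinitePresentation A (A ⊗[C] A) := Algebra.FinitePresentation.equiv e.symm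
  exact ⟨hflat, .of_finite_tensorProduct_of_faithfullyFlat A,
    .of_finitePresentation_tensorProduct_of_faithfullyFlat A, hbij⟩

end GR

end Groth.Agent.GrpdLib
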