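import Groth.Agent.Grpd.OverField
import Mathlib.AlgebraicGeometry.Morphisms.Separated
import Mathlib.AlgebraicGeometry.Morphisms.QuasiSeparated

/-!
# The diagonal of `j` is a base change of the identity section of the stabilizer
-/

universe u
open CategoryTheory CategoryTheory.Limits AlgebraicGeometry

set_option backward.isDefEq.respectTransparency false

namespace Groth.Agent.GrpdLib

variable {S : Scheme.{u}} (G : Grpd.GroupoidScheme S)

lemma fst_t_eq : pullback.fst G.j G.j ≫ G.t = pullback.snd G.j G.j ≫ G.t := by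
  simpa [Grpd.GroupoidScheme.j] using
    congrArg (fun f => f ≫ pullback.fst G.pU G.pU) (pullback.condition (f := G.j) (g := G.j))

lemma fst_s_eq : pullback.fst G.j G.j ≫ G.s = pullback.snd G.j G.j ≫ G.s := by
  simpa [Grpd.GroupoidScheme.j] using
    congrArg (fun f => f ≫ pullback.snd G.pU G.pU) (pullback.condition (f := G.j) (g := G.j))

/-- `a b⁻¹` for two arrows with the same ends -/
noncomputable def quotArrow : pullback G.j G.j ⟶ G.R :=
  gmul G (pullback.fst G.j G.j) (pullback.snd G.j G.j ≫ G.i)
    (by rw [fst_s_eq, Category.assoc, G.i_t])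

lemma quotArrow_s : quotArrow G ≫ G.s = pullback.fst G.j G.j ≫ G.t := by
  rw [quotArrow, gmul_s, Category.assoc, G.i_s, fst_t_eq]

lemma quotArrow_t : quotArrow G ≫ G.t = pullback.fst G.j G.j ≫ G.t := by
  rw [quotArrow, gmul_t]

/-- the map to the stabilizer -/
noncomputable def toStab : pullback G.j G.j ⟶ G.stabilizer :=
  pullback.lift (quotArrow G) (pullback.fst G.j G.j ≫ G.t) (by
    apply pullback.hom_ext
    · simp [Grpd.GroupoidScheme.j, Grpd.GroupoidScheme.diag, quotArrow_t]
    · simp [Grpd.GroupoidScheme.j, Grpd.GroupoidScheme.diag, quotArrow_s])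

theorem isPullback_diagonal_eStab :
    IsPullback (pullback.diagonal G.j) G.t (toStab G) G.eStab := by
  have w : pullback.diagonal G.j ≫ toStab G = G.t ≫ G.eStab := by
    apply pullback.hom_ext
    · simp only [toStab, Grpd.GroupoidScheme.eStab, Category.assoc, pullback.lift_fst]
      rw [quotArrow, comp_gmul, gmul_eq]
      simp only [pullback.diagonal_fst, pullback.diagonal_snd_assoc]
      exact (G.comp_i (𝟙 G.R) |> fun h => by simpa using h)
    · simp [toStab, Grpd.GroupoidScheme.eStab]
  refine ⟨⟨w⟩, ⟨PullbackCone.IsLimit.mk w (fun c => c.fst ≫ pullback.fst G.j G.j) ?_ ?_ ?_⟩⟩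
  · intro c
    have hc := c.condition
    have h1 : (c.fst ≫ toStab G) ≫ pullback.fst _ _ = (c.snd ≫ G.eStab) ≫ pullback.fst _ _ := by
      rw [hc]
    have h2 : (c.fst ≫ toStab G) ≫ pullback.snd _ _ = (c.snd ≫ G.eStab) ≫ pullback.snd _ _ := by
      rw [hc]
    simp only [toStab, Grpd.GroupoidScheme.eStab, Category.assoc, pullback.lift_fst,
      pullback.lift_snd, Category.comp_id] at h1 h2
    apply pullback.hom_ext
    · simp
    · rw [Category.assoc, pullback.diagonal_snd, Category.comp_id]
      let a := c.fst ≫ pullback.fst G.j G.j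
      let b := c.fst ≫ pullback.snd G.j G.j
      have hab : a ≫ G.s = b ≫ G.s := by simp only [a, b, Category.assoc, fst_s_eq]
      have hat : a ≫ G.t = b ≫ G.t := by simp only [a, b, Category.assoc, fst_t_eq]
      have hq : gmul G a (b ≫ G.i) (by rw [hab, Category.assoc b G.i G.t, G.i_t]) = (b ≫ G.t) ≫ G.e := by
        rw [← hat]
        simp only [quotArrow, comp_gmul] at h1
        simp only [a, b]
        refine (gmul_congr G rfl (Category.assoc _ _ _) _).trans (h1.trans ?_)
        rw [← h2]; simp only [Category.assoc]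
      show a = b
      have h3 := gmul_gmul_inv G a (b ≫ G.i) (by rw [hab, Category.assoc b G.i G.t, G.i_t])
      rw [gmul_congr G hq (i_comp_i G b)] at h3
      rw [← h3, gmul_eq]
      conv_rhs => rw [← G.e_comp b]
      congr 1
  · intro c
    have hc := c.condition
    have h2 : (c.fst ≫ toStab G) ≫ pullback.snd _ _ = (c.snd ≫ G.eStab) ≫ pullback.snd _ _ := by
      rw [hc]
    simp only [toStab, Grpd.GroupoidScheme.eStab, Category.assoc,
      pullback.lift_snd, Category.comp_id] at h2
    rw [Category.assoc]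
    exact h2
  · intro c m hm _
    rw [← hm, Category.assoc, pullback.diagonal_fst, Category.comp_id]

theorem isSeparated_j_tfae :
    ((IsSeparated G.j ↔ IsSeparated G.stabilizerToU) ∧
      (IsSeparated G.stabilizerToU ↔ IsClosedImmersion G.eStab)) ∧
    ((QuasiSeparated G.j ↔ QuasiSeparated G.stabilizerToU) ∧
      (QuasiSeparated G.stabilizerToU ↔ QuasiCompact G.eStab)) := by
  have hsec : G.eStab ≫ G.stabilizerToU = 𝟙 G.U := pullback.lift_snd _ _ _
  have a1 : IsSeparated G.j → IsSeparated G.stabilizerToU := fun h =>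
    inferInstanceAs (IsSeparated (pullback.snd G.j G.diag))
  have a2 : IsSeparated G.stabilizerToU → IsClosedImmersion G.eStab := fun h => by
    have : IsClosedImmersion (G.eStab ≫ G.stabilizerToU) := hsec ▸ inferInstance
    exact IsClosedImmersion.of_comp G.eStab G.stabilizerToU
  have a3 : IsClosedImmersion G.eStab → IsSeparated G.j := fun h =>
    ⟨MorphismProperty.of_isPullback (isPullback_diagonal_eStab G).flip h⟩
  have b1 : QuasiSeparated G.j → QuasiSeparated G.stabilizerToU := fun h =>
    inferInstanceAs (QuasiSeparated (pullback.snd G.j G.diag))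
  have b2 : QuasiSeparated G.stabilizerToU → QuasiCompact G.eStab := fun h => by
    have : QuasiCompact (G.eStab ≫ G.stabilizerToU) := hsec ▸ inferInstance
    exact QuasiCompact.of_comp G.eStab G.stabilizerToU
  have b3 : QuasiCompact G.eStab → QuasiSeparated G.j := fun h =>
    ⟨MorphismProperty.of_isPullback (isPullback_diagonal_eStab G).flip h⟩
  exact ⟨⟨⟨a1, fun h => a3 (a2 h)⟩, a2, fun h => a1 (a3 h)⟩,
    ⟨b1, fun h => b3 (b2 h)⟩, b2, fun h => b1 (b3 h)⟩

end Groth.Agent.GrpdLib
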