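import Mathlib.LinearAlgebra.Matrix.Charpoly.Basic
import Mathlib.RingTheory.TensorProduct.Basic
import Mathlib.RingTheory.Finiteness.Cardinality
import Mathlib.Algebra.Module.Projective

/-!
Frames: a finite projective algebra as a direct summand of a free module, and the matrices of
multiplication maps. The characteristic polynomial of such a matrix does not depend on the frame.
-/

universe u v w w'

open Polynomial TensorProduct

namespace Groth.Agent.GrpdLib

/-- Elements `x i` of `D` with linear coordinates `lam` reconstructing every element. -/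
structure Frame (R : Type u) (D : Type v) [CommRing R] [CommRing D] [Algebra R D]
    (ι : Type w) [Fintype ι] where
  x : ι → D
  lam : D →ₗ[R] (ι → R)
  recon : ∀ d, ∑ i, lam d i • x i = d

namespace Frame

variable {R : Type u} {D : Type v} [CommRing R] [CommRing D] [Algebra R D]
  {ι : Type w} [Fintype ι] (F : Frame R D ι)

/-- The matrix of multiplication by `ψ`. -/
noncomputable def M (ψ : D) : Matrix ι ι R := Matrix.of fun i j => F.lam (ψ * F.x j) i

lemma M_apply (ψ : D) (i j : ι) : F.M ψ i j = F.lam (ψ * F.x j) i := rfl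

lemma sum_M (ψ : D) (j : ι) : ∑ i, F.M ψ i j • F.x i = ψ * F.x j := F.recon _

lemma M_mul (a b : D) : F.M (a * b) = F.M a * F.M b := by
  ext i k
  have h : a * b * F.x k = ∑ j, F.lam (b * F.x k) j • (a * F.x j) := by
    conv_lhs => rw [mul_assoc, ← F.recon (b * F.x k), Finset.mul_sum]
    exact Finset.sum_congr rfl fun j _ => mul_smul_comm _ _ _
  rw [M_apply, h, map_sum, Finset.sum_apply, Matrix.mul_apply]
  refine Finset.sum_congr rfl fun j _ => ?_
  rw [map_smul, Pi.smul_apply, smul_eq_mul, M_apply, M_apply, mul_comm]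

lemma M_add (a b : D) : F.M (a + b) = F.M a + F.M b := by
  ext i j
  simp [M_apply, add_mul]

lemma M_sub (a b : D) : F.M (a - b) = F.M a - F.M b := by
  ext i j
  simp [M_apply, sub_mul]

lemma M_smul (r : R) (a : D) : F.M (r • a) = r • F.M a := by
  ext i j
  simp [M_apply]

lemma M_algebraMap (r : R) : F.M (algebraMap R D r) = r • F.M 1 := by
  rw [← M_smul, Algebra.algebraMap_eq_smul_one]

lemma M_one_mul (a : D) : F.M 1 * F.M a = F.M a := by rw [← M_mul, one_mul]

lemma M_mul_one (a : D) : F.M a * F.M 1 = F.M a := by rw [← M_mul, mul_one]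

variable [DecidableEq ι]

/-- The characteristic polynomial is independent of the frame. -/
lemma charpoly_eq (G : Frame R D ι) (ψ : D) : (F.M ψ).charpoly = (G.M ψ).charpoly := by
  have key : ∀ (F G : Frame R D ι) (i k : ι) (a b : D),
      ∑ j, F.lam (a * G.x j) i * G.lam (b * F.x k) j = F.lam (a * b * F.x k) i := by
    intro F G i k a b
    have h : a * b * F.x k = ∑ j, G.lam (b * F.x k) j • (a * G.x j) := by
      conv_lhs => rw [mul_assoc, ← G.recon (b * F.x k), Finset.mul_sum]
      exact Finset.sum_congr rfl fun j _ => mul_smul_comm _ _ _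
    rw [h, map_sum, Finset.sum_apply]
    exact Finset.sum_congr rfl fun j _ => by rw [map_smul, Pi.smul_apply, smul_eq_mul, mul_comm]
  let U : Matrix ι ι R := Matrix.of fun i j => F.lam (G.x j) i
  let V : Matrix ι ι R := Matrix.of fun i j => G.lam (ψ * F.x j) i
  have hUV : U * V = F.M ψ := by
    ext i k
    rw [Matrix.mul_apply, M_apply]
    simpa [U, V] using key F G i k 1 ψ
  have hVU : V * U = G.M ψ := by
    ext i k
    rw [Matrix.mul_apply, M_apply]
    simpa [U, V] using key G F i k ψ 1
  rw [← hUV, ← hVU, Matrix.charpoly_mul_comm]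

lemma sum_aeval (q : R[X]) (ψ : D) (j : ι) :
    ∑ i, (aeval (F.M ψ) q) i j • F.x i = aeval ψ q * F.x j := by
  induction q using Polynomial.induction_on generalizing j with
  | C a =>
    simp only [aeval_C, Matrix.algebraMap_matrix_apply]
    rw [Finset.sum_eq_single j (fun i _ hi => by simp [hi]) (by simp)]
    simp [Algebra.smul_def]
  | add p q hp hq =>
    simp only [map_add, Matrix.add_apply, add_smul, Finset.sum_add_distrib, hp, hq, add_mul]
  | monomial n a h =>
    rw [pow_succ, ← mul_assoc]
    generalize C a * X ^ n = q at h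
    simp only [map_mul, aeval_X, Matrix.mul_apply, Finset.sum_smul, mul_comm _ (F.M ψ _ j),
      mul_smul]
    rw [Finset.sum_comm]
    simp only [← Finset.smul_sum, h]
    rw [mul_assoc, ← F.sum_M ψ j, Finset.mul_sum]
    exact Finset.sum_congr rfl fun i _ => (mul_smul_comm _ _ _).symm

lemma eq_zero_of_mul_x (d : D) (h : ∀ i, d * F.x i = 0) : d = 0 := by
  calc d = d * ∑ i, F.lam 1 i • F.x i := by rw [F.recon, mul_one]
    _ = 0 := by
      rw [Finset.mul_sum]
      exact Finset.sum_eq_zero fun i _ => by rw [mul_smul_comm, h, smul_zero]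

/-- Cayley–Hamilton. -/
lemma aeval_charpoly (ψ : D) : aeval ψ (F.M ψ).charpoly = 0 := by
  refine F.eq_zero_of_mul_x _ fun j => ?_
  rw [← sum_aeval, Matrix.aeval_self_charpoly]
  simp

omit [DecidableEq ι] in
/-- Compatible frames along a pair of ring maps. -/
lemma M_map {R' : Type u} {D' : Type w'} [CommRing R'] [CommRing D'] [Algebra R' D']
    (G : Frame R' D' ι) (f : R →+* R') (g : D →+* D') (hx : ∀ i, G.x i = g (F.x i))
    (hlam : ∀ d i, G.lam (g d) i = f (F.lam d i)) (ψ : D) : G.M (g ψ) = (F.M ψ).map f := by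
  ext i j
  rw [M_apply, hx, ← map_mul, hlam]
  rfl

omit [DecidableEq ι] in
/-- Base change of a frame. -/
noncomputable def baseChange (R' : Type u) [CommRing R'] [Algebra R R'] :
    Frame R' (R' ⊗[R] D) ι where
  x i := 1 ⊗ₜ F.x i
  lam := LinearMap.pi fun i => (Algebra.TensorProduct.rid R R' R').toLinearMap.comp
    (TensorProduct.AlgebraTensorModule.lTensor R' R' ((LinearMap.proj i).comp F.lam))
  recon d := by
    induction d with
    | zero => simp
    | add a b ha hb => simp only [map_add, Pi.add_apply, add_smul, Finset.sum_add_distrib, ha, hb]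
    | tmul r b =>
      conv_rhs => rw [← F.recon b, tmul_sum]
      refine Finset.sum_congr rfl fun i _ => ?_
      rw [tmul_smul]
      simp [smul_tmul', Algebra.smul_def, mul_comm]

omit [DecidableEq ι] in
@[simp] lemma baseChange_lam (R' : Type u) [CommRing R'] [Algebra R R'] (r : R') (b : D) (i : ι) :
    (F.baseChange R').lam (r ⊗ₜ b) i = algebraMap R R' (F.lam b i) * r := by
  simp [baseChange, Algebra.smul_def]

omit [DecidableEq ι] in
lemma baseChange_M (R' : Type u) [CommRing R'] [Algebra R R'] (ψ : D) :
    (F.baseChange R').M (1 ⊗ₜ ψ) = (F.M ψ).map (algebraMap R R') :=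
  F.M_map (F.baseChange R') (algebraMap R R') Algebra.TensorProduct.includeRight.toRingHom
    (fun _ => rfl) (fun d i => by simp) ψ

omit [DecidableEq ι] in
theorem exists_frame (R : Type u) (D : Type v) [CommRing R] [CommRing D] [Algebra R D]
    [Module.Finite R D] [Module.Projective R D] : ∃ n : ℕ, Nonempty (Frame R D (Fin n)) := by
  obtain ⟨n, f, hf⟩ := Module.Finite.exists_fin' R D
  obtain ⟨g, hg⟩ := Module.projective_lifting_property f LinearMap.id hf
  refine ⟨n, ⟨⟨fun i => f (Pi.single i 1), g, fun d => ?_⟩⟩⟩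
  conv_rhs => rw [← LinearMap.id_apply (R := R) d, ← hg, LinearMap.comp_apply,
    pi_eq_sum_univ (g d), map_sum]
  refine Finset.sum_congr rfl fun i _ => ?_
  rw [map_smul]
  congr 2
  ext j
  simp [Pi.single_apply, eq_comm]

end Frame

end Groth.Agent.GrpdLib
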