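import Groth.Agent.Grpd.Inverse
import Mathlib.AlgebraicGeometry.Morphisms.UniversallyOpen
import Mathlib.AlgebraicGeometry.PullbackCarrier
import Mathlib.AlgebraicGeometry.ResidueField
import Mathlib.Tactic.IrreducibleDef

/-!
# Groupoid schemes whose scheme of objects is the spectrum of a field
-/

universe u

open AlgebraicGeometry CategoryTheory CategoryTheory.Limits

namespace Groth.Agent.GrpdLib

variable {S : Scheme.{u}} (G : Grpd.GroupoidScheme S)

/-- The composite of two points. -/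
noncomputable irreducible_def gmul {T : Scheme.{u}} (α β : T ⟶ G.R) (h : α ≫ G.s = β ≫ G.t) : T ⟶ G.R :=
  pullback.lift α β h ≫ G.c

variable {T T' : Scheme.{u}}

lemma gmul_congr {α α' β β' : T ⟶ G.R} (h₁ : α = α') (h₂ : β = β') (h : α ≫ G.s = β ≫ G.t) :
    gmul G α β h = gmul G α' β' (h₁ ▸ h₂ ▸ h) := by
  subst h₁ h₂; rfl

lemma gmul_eq (α β : T ⟶ G.R) (h : α ≫ G.s = β ≫ G.t) :
    gmul G α β h = pullback.lift α β h ≫ G.c := gmul_def ..

lemma comp_gmul (f : T' ⟶ T) (α β : T ⟶ G.R) (h : α ≫ G.s = β ≫ G.t) :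
    f ≫ gmul G α β h = gmul G (f ≫ α) (f ≫ β) (by rw [Category.assoc, h, Category.assoc]) := by
  rw [gmul_eq, gmul_eq, ← Category.assoc]
  congr 1
  apply pullback.hom_ext <;> simp only [Category.assoc, pullback.lift_fst, pullback.lift_snd]

lemma gmul_s (α β : T ⟶ G.R) (h : α ≫ G.s = β ≫ G.t) : gmul G α β h ≫ G.s = β ≫ G.s := by
  rw [gmul_eq]; exact G.comp_s α β h

lemma gmul_t (α β : T ⟶ G.R) (h : α ≫ G.s = β ≫ G.t) : gmul G α β h ≫ G.t = α ≫ G.t := by
  rw [gmul_eq]; exact G.comp_t α β h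

lemma i_comp_i (α : T ⟶ G.R) : (α ≫ G.i) ≫ G.i = α := by
  rw [Category.assoc, i_i, Category.comp_id]

/-- `α⁻¹ (α β) = β` -/
lemma inv_gmul (α β : T ⟶ G.R) (h : α ≫ G.s = β ≫ G.t) :
    gmul G (α ≫ G.i) (gmul G α β h) (by rw [gmul_t, Category.assoc, G.i_s]) = β := by
  have h0 : (α ≫ G.i) ≫ G.s = α ≫ G.t := by rw [Category.assoc, G.i_s]
  simp only [gmul_eq]
  refine (G.assoc (α ≫ G.i) α β h0 h).symm.trans ?_
  refine (comp_congr G ((G.i_comp α).trans ((reassoc_of% h) G.e)) rfl _ (by simp [G.e_s])).trans (G.e_comp β)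

/-- `α (α⁻¹ β) = β` -/
lemma gmul_inv (α β : T ⟶ G.R) (h : α ≫ G.t = β ≫ G.t) :
    gmul G α (gmul G (α ≫ G.i) β (by rw [Category.assoc, G.i_s, h]))
      (by rw [gmul_t, Category.assoc, G.i_t]) = β := by
  have := inv_gmul G (α ≫ G.i) β (by rw [Category.assoc, G.i_s, h])
  rwa [gmul_congr G (i_comp_i G α) rfl] at this

lemma i_gmul (α : T ⟶ G.R) :
    gmul G (α ≫ G.i) α (by rw [Category.assoc, G.i_s]) = α ≫ G.s ≫ G.e := by
  rw [gmul_eq]; exact G.i_comp α

/-- `(α β) β⁻¹ = α` -/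
lemma gmul_gmul_inv (α β : T ⟶ G.R) (h : α ≫ G.s = β ≫ G.t) :
    gmul G (gmul G α β h) (β ≫ G.i) (by rw [gmul_s, Category.assoc, G.i_t]) = α := by
  simp only [gmul_eq]
  refine (G.assoc α β (β ≫ G.i) h (by rw [Category.assoc, G.i_t])).trans ?_
  refine (comp_congr G rfl ((G.comp_i β).trans ((reassoc_of% h) G.e).symm) _ (by simp [G.e_t])).trans (G.comp_e α)

/-- A section of the source whose target is invertible gives an automorphism of the arrows. -/
theorem exists_auto (ρ : G.U ⟶ G.R) (hρs : ρ ≫ G.s = 𝟙 _) (σ : G.U ⟶ G.U) [IsIso σ]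
    (hρt : ρ ≫ G.t = σ) : ∃ φ : G.R ≅ G.R, G.e ≫ φ.hom = ρ := by
  let φ : G.R ⟶ G.R := gmul G (G.t ≫ ρ) (𝟙 _) (by
    rw [Category.assoc, hρs, Category.comp_id, Category.id_comp])
  have hφt : φ ≫ G.t = G.t ≫ σ := by
    rw [gmul_t, Category.assoc, hρt]
  let ψ : G.R ⟶ G.R := gmul G ((G.t ≫ inv σ ≫ ρ) ≫ G.i) (𝟙 _) (by
    simp only [Category.assoc, G.i_s, hρt, IsIso.inv_hom_id, Category.comp_id, Category.id_comp])
  have hψt : ψ ≫ G.t = G.t ≫ inv σ := by
    rw [gmul_t]
    simp only [Category.assoc, G.i_t, hρs, Category.comp_id]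
  have h1 : φ ≫ ψ = 𝟙 _ := by
    rw [comp_gmul]
    refine (gmul_congr G (?_ : _ = (G.t ≫ ρ) ≫ G.i) (Category.comp_id φ) _).trans
      (inv_gmul G _ _ (by rw [Category.assoc, hρs, Category.comp_id, Category.id_comp]))
    simp only [← Category.assoc, hφt]
    simp
  have h2 : ψ ≫ φ = 𝟙 _ := by
    rw [comp_gmul]
    refine (gmul_congr G (?_ : _ = G.t ≫ inv σ ≫ ρ) (Category.comp_id ψ) _).trans
      (gmul_inv G _ _ (by
        simp only [Category.assoc, hρt, IsIso.inv_hom_id, Category.comp_id, Category.id_comp]))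
    rw [← Category.assoc, hψt, Category.assoc]
  have he : G.e ≫ φ = ρ := by
    rw [comp_gmul]
    refine (gmul_congr G (?_ : _ = ρ) (?_ : _ = ρ ≫ G.s ≫ G.e) _).trans ((gmul_eq ..).trans (G.comp_e ρ))
    · rw [← Category.assoc, G.e_t, Category.id_comp]
    · rw [Category.comp_id, reassoc_of% hρs]
  exact ⟨⟨φ, ψ, h1, h2⟩, he⟩

/-- A set of arrows contains the composites of its field-valued points. -/
def MulClosed (A B C : Set G.R) : Prop :=
  ∀ (K : Type u) [Field K] (α β : Spec (CommRingCat.of K) ⟶ G.R) (h : α ≫ G.s = β ≫ G.t),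
    α (IsLocalRing.closedPoint K) ∈ A → β (IsLocalRing.closedPoint K) ∈ B →
      gmul G α β h (IsLocalRing.closedPoint K) ∈ C

variable {G} in
lemma MulClosed.gmul_mem {A B C : Set G.R} (hm : MulClosed G A B C) (α β : T ⟶ G.R)
    (h : α ≫ G.s = β ≫ G.t) (z : T) (hα : α z ∈ A) (hβ : β z ∈ B) : gmul G α β h z ∈ C := by
  let p := T.fromSpecResidueField z
  have hp : p (IsLocalRing.closedPoint (T.residueField z)) = z := T.fromSpecResidueField_apply z _
  have := hm (T.residueField z) (p ≫ α) (p ≫ β) (by rw [Category.assoc, h, Category.assoc])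
    (by rwa [Scheme.Hom.comp_apply, hp]) (by rwa [Scheme.Hom.comp_apply, hp])
  rwa [← comp_gmul, Scheme.Hom.comp_apply, hp] at this

section Field

variable [Subsingleton G.U] [IsIntegral G.U]

lemma MulClosed.closure_right {A B C : Set G.R} (hC : IsClosed C) (hm : MulClosed G A B C) :
    MulClosed G A (closure B) C := by
  intro K _ α β h hα hβ
  let P := pullback (α ≫ G.s) G.t
  let q : P ⟶ G.R := pullback.snd _ _
  let g : P ⟶ G.R := gmul G (pullback.fst _ _ ≫ α) q (by rw [Category.assoc]; exact pullback.condition)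
  have hsub : q ⁻¹' closure B ⊆ g ⁻¹' C := by
    rw [q.isOpenMap.preimage_closure_eq_closure_preimage q.continuous]
    refine (hC.preimage g.continuous).closure_subset_iff.2 fun z hz => ?_
    refine hm.gmul_mem _ _ _ z ?_ hz
    rw [Scheme.Hom.comp_apply]
    convert hα using 2
    exact @Subsingleton.elim _ (inferInstanceAs (Subsingleton (PrimeSpectrum K))) _ _
  let y : Spec (CommRingCat.of K) ⟶ P := pullback.lift (𝟙 _) β (by rw [Category.id_comp, h])
  have hy : y ≫ g = gmul G α β h := by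
    rw [comp_gmul]
    exact gmul_congr G (by simp only [Category.assoc, pullback.map, pullback.lift_fst, pullback.lift_snd, pullback.lift_fst_assoc, pullback.lift_snd_assoc, Category.id_comp, Category.comp_id, y]) (by simp only [Category.assoc, pullback.map, pullback.lift_fst, pullback.lift_snd, pullback.lift_fst_assoc, pullback.lift_snd_assoc, Category.id_comp, Category.comp_id, y, q]) _
  rw [← hy, Scheme.Hom.comp_apply]
  refine hsub ?_
  change q (y _) ∈ closure B
  rwa [← Scheme.Hom.comp_apply, show y ≫ q = β from pullback.lift_snd _ _ _]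

lemma MulClosed.closure_left {A B C : Set G.R} (hC : IsClosed C) (hm : MulClosed G A B C) :
    MulClosed G (closure A) B C := by
  intro K _ α β h hα hβ
  let P := pullback G.s (β ≫ G.t)
  let q : P ⟶ G.R := pullback.fst _ _
  let g : P ⟶ G.R := gmul G q (pullback.snd _ _ ≫ β) (by rw [Category.assoc]; exact pullback.condition)
  have hsub : q ⁻¹' closure A ⊆ g ⁻¹' C := by
    rw [q.isOpenMap.preimage_closure_eq_closure_preimage q.continuous]
    refine (hC.preimage g.continuous).closure_subset_iff.2 fun z hz => ?_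
    refine hm.gmul_mem _ _ _ z hz ?_
    rw [Scheme.Hom.comp_apply]
    convert hβ using 2
    exact @Subsingleton.elim _ (inferInstanceAs (Subsingleton (PrimeSpectrum K))) _ _
  let y : Spec (CommRingCat.of K) ⟶ P := pullback.lift α (𝟙 _) (by rw [Category.id_comp, h])
  have hy : y ≫ g = gmul G α β h := by
    rw [comp_gmul]
    exact gmul_congr G (by simp only [Category.assoc, pullback.map, pullback.lift_fst, pullback.lift_snd, pullback.lift_fst_assoc, pullback.lift_snd_assoc, Category.id_comp, Category.comp_id, y, q]) (by simp only [Category.assoc, pullback.map, pullback.lift_fst, pullback.lift_snd, pullback.lift_fst_assoc, pullback.lift_snd_assoc, Category.id_comp, Category.comp_id, y]) _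
  rw [← hy, Scheme.Hom.comp_apply]
  refine hsub ?_
  change q (y _) ∈ closure A
  rwa [← Scheme.Hom.comp_apply, show y ≫ q = α from pullback.lift_fst _ _ _]

omit [Subsingleton G.U] [IsIntegral G.U] in
/-- `p (π⁻¹ p)⁻¹ = π` -/
lemma gmul_inv_inv (π p : T ⟶ G.R) (hπ : π ≫ G.t = p ≫ G.t) :
    gmul G p (gmul G (π ≫ G.i) p (by rw [Category.assoc, G.i_s, hπ]) ≫ G.i)
      (by rw [Category.assoc, G.i_t, gmul_s]) = π := by
  have h2 := gmul_gmul_inv G π (gmul G (π ≫ G.i) p (by rw [Category.assoc, G.i_s, hπ]))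
    (by rw [gmul_t, Category.assoc, G.i_t])
  rwa [gmul_congr G (gmul_inv G π p hπ) rfl] at h2

omit [Subsingleton G.U] [IsIntegral G.U] in
lemma inter_preimage_nonempty {X : Type u} [TopologicalSpace X] {U A : Set X} (hU : IsOpen U) {y : X}
    (hy : y ∈ U) (hy' : y ∈ closure A) : (U ∩ A).Nonempty := mem_closure_iff.1 hy' U hU hy

lemma mem_of_mem_closure {H O Z : Set G.R} (hO : IsOpen O) (hZ : IsClosed Z) (hH : H = O ∩ Z)
    (he : Set.range G.e ⊆ H) (hi : ∀ x, x ∈ H → G.i x ∈ H) (hm : MulClosed G H H H)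
    (hmc : MulClosed G (closure H) (closure H) (closure H))
    (hic : ∀ x, x ∈ closure H → G.i x ∈ closure H)
    (K : Type u) [Field K] (ξ : Spec (CommRingCat.of K) ⟶ G.R)
    (hξ : ξ (IsLocalRing.closedPoint K) ∈ closure H) : ξ (IsLocalRing.closedPoint K) ∈ H := by
  have hs : Subsingleton (Spec (CommRingCat.of K)) := inferInstanceAs (Subsingleton (PrimeSpectrum K))
  let P := pullback (ξ ≫ G.t) G.t
  let p : P ⟶ G.R := pullback.snd _ _
  let π : P ⟶ G.R := pullback.fst _ _ ≫ ξ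
  have hπ : π ≫ G.t = p ≫ G.t := by
    simp only [π, Category.assoc]; exact pullback.condition
  have hπz : ∀ z, π z = ξ (IsLocalRing.closedPoint K) := fun z => by
    rw [Scheme.Hom.comp_apply]; exact congrArg ξ (Subsingleton.elim _ _)
  let g : P ⟶ G.R := gmul G (π ≫ G.i) p (by rw [Category.assoc π G.i G.s, G.i_s]; exact hπ)
  have hF : p ⁻¹' closure H ⊆ g ⁻¹' closure H := fun z hz => by
    refine hmc.gmul_mem (π ≫ G.i) p _ z ?_ hz
    rw [Scheme.Hom.comp_apply, hπz]
    exact hic _ hξ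
  let y₀ : Spec (CommRingCat.of K) ⟶ P := pullback.lift (𝟙 _) ξ (by rw [Category.id_comp])
  have hy₀π : y₀ ≫ π = ξ := by
    simp only [y₀, π, pullback.lift_fst_assoc, Category.id_comp]
  have hy₀p : y₀ ≫ p = ξ := pullback.lift_snd _ _ _
  have hy₀ : y₀ ≫ g = ξ ≫ G.s ≫ G.e := by
    rw [comp_gmul]
    refine (gmul_congr G ?_ hy₀p _).trans (i_gmul G ξ)
    rw [← Category.assoc, hy₀π]
  have hHO : H ⊆ O := hH ▸ Set.inter_subset_left
  have hcl : closure H ⊆ Z := closure_minimal (hH ▸ Set.inter_subset_right) hZ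
  have h1 : y₀ (IsLocalRing.closedPoint K) ∈ g ⁻¹' O := by
    refine hHO (he ⟨(ξ ≫ G.s) (IsLocalRing.closedPoint K), ?_⟩)
    rw [← Scheme.Hom.comp_apply, Category.assoc, ← hy₀, Scheme.Hom.comp_apply]
  have h2 : y₀ (IsLocalRing.closedPoint K) ∈ closure (p ⁻¹' H) := by
    rw [← p.isOpenMap.preimage_closure_eq_closure_preimage p.continuous, Set.mem_preimage,
      ← Scheme.Hom.comp_apply, hy₀p]
    exact hξ
  obtain ⟨z, hzO, hzp⟩ := inter_preimage_nonempty (hO.preimage g.continuous) h1 h2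
  have hzg : g z ∈ H := hH ▸ ⟨hzO, hcl (hF (subset_closure (hzp : p z ∈ H)))⟩
  have h3 := hm.gmul_mem p (g ≫ G.i) (by rw [Category.assoc, G.i_t, gmul_s]) z hzp
    (by rw [Scheme.Hom.comp_apply]; exact hi _ hzg)
  rw [gmul_inv_inv G π p hπ, hπz] at h3
  exact h3

/-- A locally closed subgroupoid of arrows is closed. -/
theorem isClosed_of_isLocallyClosed {H : Set G.R} (hlc : IsLocallyClosed H) (he : Set.range G.e ⊆ H)
    (hi : ∀ x, x ∈ H → G.i x ∈ H) (hm : MulClosed G H H H) : IsClosed H := by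
  obtain ⟨O, Z, hO, hZ, hH⟩ := hlc
  have hm' : MulClosed G H H (closure H) := fun K _ α β h hα hβ => subset_closure (hm K α β h hα hβ)
  have hmc : MulClosed G (closure H) (closure H) (closure H) :=
    (hm'.closure_right G isClosed_closure).closure_left G isClosed_closure
  have hic : ∀ x, x ∈ closure H → G.i x ∈ closure H := fun x hx =>
    closure_mono (Set.image_subset_iff.2 hi : G.i '' H ⊆ H)
      (image_closure_subset_closure_image G.i.continuous ⟨x, hx, rfl⟩)
  refine closure_eq_iff_isClosed.1 (Set.Subset.antisymm (fun x hx => ?_) subset_closure)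
  have hp : G.R.fromSpecResidueField x (IsLocalRing.closedPoint (G.R.residueField x)) = x :=
    G.R.fromSpecResidueField_apply x _
  have := mem_of_mem_closure G hO hZ hH he hi hm hmc hic (G.R.residueField x)
    (G.R.fromSpecResidueField x) (hp.symm ▸ hx)
  rwa [hp] at this

/-- The translates of an open set form an open set. -/
theorem isOpen_range_gmul (W : G.R.Opens) {Z : Scheme.{u}} (a : Z ⟶ G.R) :
    IsOpen (Set.range (gmul G (pullback.fst (a ≫ G.s) (W.ι ≫ G.t) ≫ a)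
      (pullback.snd (a ≫ G.s) (W.ι ≫ G.t) ≫ W.ι)
      (by rw [Category.assoc, Category.assoc]; exact pullback.condition))) := by
  let f₁ := pullback.fst (a ≫ G.s) G.t
  let g₁ := pullback.snd (a ≫ G.s) G.t
  let f₂ := pullback.fst (a ≫ G.t) G.t
  let g₂ := pullback.snd (a ≫ G.t) G.t
  have h₁ : (f₁ ≫ a) ≫ G.s = g₁ ≫ G.t := by rw [Category.assoc]; exact pullback.condition
  have h₂ : ((f₂ ≫ a) ≫ G.i) ≫ G.s = g₂ ≫ G.t := by
    simp only [Category.assoc, G.i_s]; exact pullback.condition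
  let L : pullback (a ≫ G.s) G.t ⟶ pullback (a ≫ G.t) G.t :=
    pullback.lift f₁ (gmul G (f₁ ≫ a) g₁ h₁) (by rw [gmul_t, Category.assoc])
  let L' : pullback (a ≫ G.t) G.t ⟶ pullback (a ≫ G.s) G.t :=
    pullback.lift f₂ (gmul G ((f₂ ≫ a) ≫ G.i) g₂ h₂) (by
      rw [gmul_t]; simp only [Category.assoc, G.i_t])
  have : IsIso L := ⟨L', by
    apply pullback.hom_ext
    · simp only [Category.assoc, pullback.map, pullback.lift_fst, pullback.lift_snd, pullback.lift_fst_assoc, pullback.lift_snd_assoc, Category.id_comp, Category.comp_id, L, L', f₁, f₂]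
    · rw [Category.assoc, pullback.lift_snd, comp_gmul, Category.id_comp]
      refine (gmul_congr G (?_ : _ = (f₁ ≫ a) ≫ G.i) (pullback.lift_snd _ _ _) _).trans (inv_gmul G _ _ h₁)
      simp only [Category.assoc, pullback.map, pullback.lift_fst, pullback.lift_snd, pullback.lift_fst_assoc, pullback.lift_snd_assoc, Category.id_comp, Category.comp_id, L, f₁, f₂], by
    apply pullback.hom_ext
    · simp only [Category.assoc, pullback.map, pullback.lift_fst, pullback.lift_snd, pullback.lift_fst_assoc, pullback.lift_snd_assoc, Category.id_comp, Category.comp_id, L, L', f₁, f₂]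
    · rw [Category.assoc, pullback.lift_snd, comp_gmul, Category.id_comp]
      refine (gmul_congr G (?_ : _ = f₂ ≫ a) (pullback.lift_snd _ _ _) _).trans
        (gmul_inv G _ _ (by rw [Category.assoc]; exact pullback.condition))
      simp only [Category.assoc, pullback.map, pullback.lift_fst, pullback.lift_snd, pullback.lift_fst_assoc, pullback.lift_snd_assoc, Category.id_comp, Category.comp_id, L', f₁, f₂]⟩
  let j : pullback (a ≫ G.s) (W.ι ≫ G.t) ⟶ pullback (a ≫ G.s) G.t :=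
    pullback.map _ _ _ _ (𝟙 _) W.ι (𝟙 _) (by simp) (by simp)
  have e : gmul G (pullback.fst (a ≫ G.s) (W.ι ≫ G.t) ≫ a)
      (pullback.snd (a ≫ G.s) (W.ι ≫ G.t) ≫ W.ι)
      (by rw [Category.assoc, Category.assoc]; exact pullback.condition) = j ≫ L ≫ g₂ := by
    simp only [L, g₂, pullback.lift_snd, comp_gmul]
    exact gmul_congr G (by simp only [Category.assoc, pullback.map, pullback.lift_fst, pullback.lift_snd, pullback.lift_fst_assoc, pullback.lift_snd_assoc, Category.id_comp, Category.comp_id, j, f₁]) (by simp only [Category.assoc, pullback.map, pullback.lift_fst, pullback.lift_snd, pullback.lift_fst_assoc, pullback.lift_snd_assoc, Category.id_comp, Category.comp_id, j, g₁]) _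
  rw [e]
  exact (j ≫ L ≫ g₂).isOpenMap.isOpen_range

end Field

section Hom

variable {G₁ G₂ : Grpd.GroupoidScheme S} (a : Grpd.GroupoidScheme.Hom G₁ G₂)

lemma gmul_fR {T : Scheme.{u}} (α β : T ⟶ G₁.R) (h : α ≫ G₁.s = β ≫ G₁.t) :
    gmul G₁ α β h ≫ a.fR = gmul G₂ (α ≫ a.fR) (β ≫ a.fR)
      (by rw [Category.assoc, Category.assoc, a.comm_s, a.comm_t, reassoc_of% h]) := by
  rw [gmul_eq, gmul_eq]; exact a.comm_c α β h

lemma e_fR : G₁.e ≫ a.fR = a.fU ≫ G₂.e := by
  have h : G₁.e ≫ G₁.s = G₁.e ≫ G₁.t := by rw [G₁.e_s, G₁.e_t]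
  have h1 : gmul G₁ G₁.e G₁.e h = G₁.e := by
    rw [gmul_eq]
    refine (comp_congr G₁ rfl (?_ : G₁.e = G₁.e ≫ G₁.s ≫ G₁.e) h (by simp [G₁.e_s, G₁.e_t])).trans
      (G₁.comp_e G₁.e)
    rw [reassoc_of% G₁.e_s]
  have h2 := gmul_fR a G₁.e G₁.e h
  rw [h1] at h2
  have hs : (G₁.e ≫ a.fR) ≫ G₂.s = a.fU := by
    rw [Category.assoc, a.comm_s, reassoc_of% G₁.e_s]
  have ht : (G₁.e ≫ a.fR) ≫ G₂.t = a.fU := by
    rw [Category.assoc, a.comm_t, reassoc_of% G₁.e_t]
  have h3 := inv_gmul G₂ (G₁.e ≫ a.fR) (G₁.e ≫ a.fR) (hs.trans ht.symm)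
  rw [gmul_congr G₂ rfl h2.symm] at h3
  refine h3.symm.trans ?_
  rw [i_gmul G₂ (G₁.e ≫ a.fR),
    ← Category.assoc (G₁.e ≫ a.fR), hs]

lemma i_fR : G₁.i ≫ a.fR = a.fR ≫ G₂.i := by
  have h : 𝟙 G₁.R ≫ G₁.s = G₁.i ≫ G₁.t := by rw [Category.id_comp, G₁.i_t]
  have h2 := gmul_fR a (𝟙 _) G₁.i h
  have h1 : gmul G₁ (𝟙 _) G₁.i h = G₁.t ≫ G₁.e := by
    rw [gmul_eq]
    refine (comp_congr G₁ rfl (Category.id_comp _).symm h (by simp [G₁.i_t])).trans
      ((G₁.comp_i (𝟙 G₁.R)).trans (Category.id_comp _))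
  rw [h1, Category.assoc, e_fR, gmul_congr G₂ (Category.id_comp a.fR) rfl] at h2
  have hs : a.fR ≫ G₂.s = (G₁.i ≫ a.fR) ≫ G₂.t := by
    rw [Category.assoc, a.comm_s, a.comm_t, reassoc_of% G₁.i_t]
  have h3 := inv_gmul G₂ a.fR (G₁.i ≫ a.fR) hs
  rw [gmul_congr G₂ rfl h2.symm] at h3
  refine h3.symm.trans ?_
  rw [gmul_eq]
  refine (comp_congr G₂ rfl (?_ : G₁.t ≫ a.fU ≫ G₂.e = (a.fR ≫ G₂.i) ≫ G₂.s ≫ G₂.e) _ (by simp [G₂.e_t])).trans (G₂.comp_e _)
  rw [Category.assoc, reassoc_of% G₂.i_s, reassoc_of% a.comm_t]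

/-- A field-valued point in the image of a morphism lifts after an extension of the field. -/
lemma exists_lift_field {X Y : Scheme.{u}} (f : X ⟶ Y) (K : Type u) [Field K]
    (α : Spec (CommRingCat.of K) ⟶ Y) (h : α (IsLocalRing.closedPoint K) ∈ Set.range f) :
    ∃ (L : Type u) (_ : Field L) (c : Spec (CommRingCat.of L) ⟶ Spec (CommRingCat.of K))
      (l : Spec (CommRingCat.of L) ⟶ X), l ≫ f = c ≫ α := by
  obtain ⟨x, hx⟩ := h
  obtain ⟨p, -, -⟩ := Scheme.Pullback.exists_preimage_pullback (f := α) (g := f)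
    (IsLocalRing.closedPoint K) x hx.symm
  exact ⟨(pullback α f).residueField p, inferInstance,
    (pullback α f).fromSpecResidueField p ≫ pullback.fst α f,
    (pullback α f).fromSpecResidueField p ≫ pullback.snd α f,
    by rw [Category.assoc, Category.assoc, pullback.condition]⟩

lemma closedPoint_eq (K : Type u) [Field K] (y z : Spec (CommRingCat.of K)) : y = z :=
  @Subsingleton.elim _ (inferInstanceAs (Subsingleton (PrimeSpectrum K))) _ _

theorem range_mulClosed [Mono a.fU] :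
    MulClosed G₂ (Set.range a.fR) (Set.range a.fR) (Set.range a.fR) := by
  intro K _ α β h hα hβ
  obtain ⟨L, _, c₁, l, hl₁⟩ := exists_lift_field a.fR K α hα
  obtain ⟨M, _, c₂, l₂, hl₂⟩ := exists_lift_field a.fR L (c₁ ≫ β) (by
    rwa [Scheme.Hom.comp_apply, closedPoint_eq K (c₁ _) (IsLocalRing.closedPoint K)])
  have e₁ : (c₂ ≫ l) ≫ a.fR = (c₂ ≫ c₁) ≫ α := by rw [Category.assoc, hl₁, Category.assoc]
  have e₂ : l₂ ≫ a.fR = (c₂ ≫ c₁) ≫ β := by rw [hl₂, Category.assoc]
  have hl : (c₂ ≫ l) ≫ G₁.s = l₂ ≫ G₁.t := by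
    apply (cancel_mono a.fU).1
    calc ((c₂ ≫ l) ≫ G₁.s) ≫ a.fU = ((c₂ ≫ l) ≫ a.fR) ≫ G₂.s := by
          simp only [Category.assoc, a.comm_s]
      _ = (c₂ ≫ c₁) ≫ α ≫ G₂.s := by simp only [e₁, Category.assoc]
      _ = (c₂ ≫ c₁) ≫ β ≫ G₂.t := congrArg ((c₂ ≫ c₁) ≫ ·) h
      _ = (l₂ ≫ a.fR) ≫ G₂.t := by simp only [e₂, Category.assoc]
      _ = (l₂ ≫ G₁.t) ≫ a.fU := by simp only [Category.assoc, a.comm_t]
  refine ⟨gmul G₁ (c₂ ≫ l) l₂ hl (IsLocalRing.closedPoint M), ?_⟩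
  rw [← Scheme.Hom.comp_apply, gmul_fR, gmul_congr G₂ e₁ e₂, ← comp_gmul G₂ (c₂ ≫ c₁) α β h,
    Scheme.Hom.comp_apply, closedPoint_eq K ((c₂ ≫ c₁) _) (IsLocalRing.closedPoint K)]

theorem isClosed_range [Subsingleton G₂.U] [IsIntegral G₂.U] [IsIso a.fU]
    (hlc : IsLocallyClosed (Set.range a.fR)) : IsClosed (Set.range a.fR) := by
  refine isClosed_of_isLocallyClosed G₂ hlc ?_ ?_ (range_mulClosed a)
  · rintro _ ⟨u, rfl⟩
    refine ⟨G₁.e (inv a.fU u), ?_⟩
    rw [← Scheme.Hom.comp_apply, ← Scheme.Hom.comp_apply, e_fR, IsIso.inv_hom_id_assoc]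
  · rintro _ ⟨x, rfl⟩
    refine ⟨G₁.i x, ?_⟩
    rw [← Scheme.Hom.comp_apply, ← Scheme.Hom.comp_apply, i_fR]

end Hom

end Groth.Agent.GrpdLib
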