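import Groth.Agent.Grpd.Norm
import Groth.Agent.Grpd.Points
import Mathlib.Data.Nat.Factorial.Basic

/-!
The rank idempotents of an affine groupoid and powers of invariant functions after base change.
-/

universe u

open Polynomial TensorProduct Matrix

namespace Groth.Agent.GrpdLib

namespace Frame

variable {R : Type u} {D : Type u} [CommRing R] [CommRing D] [Algebra R D]
  {ι : Type} [Fintype ι] [DecidableEq ι] (F : Frame R D ι)

/-- The rank polynomial `det(1 - E + T E)`. -/
noncomputable def rankPoly : R[X] :=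
  (1 - (F.M 1).map C + (X : R[X]) • (F.M 1).map C).det

lemma rankPoly_eq : F.rankPoly = (F.M 1).charpolyRev.comp (1 - X) := by
  rw [rankPoly, Matrix.charpolyRev, ← Polynomial.coe_compRingHom_apply, RingHom.map_det]
  congr 1
  refine Matrix.ext fun i j => ?_
  simp only [RingHom.mapMatrix_apply, Matrix.map_apply, Matrix.add_apply, Matrix.sub_apply,
    Matrix.smul_apply, smul_eq_mul, Polynomial.coe_compRingHom_apply, sub_comp, mul_comp, X_comp,
    C_comp]
  by_cases h : i = j
  · subst h; simp; ring
  · simp [h]; ring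

lemma rankPoly_map {R' : Type u} [CommRing R'] (χ : R →+* R') :
    F.rankPoly.map χ =
      (1 - ((F.M 1).map χ).map C + (X : R'[X]) • ((F.M 1).map χ).map C).det := by
  rw [rankPoly, ← Polynomial.coe_mapRingHom, RingHom.map_det]
  congr 1
  refine Matrix.ext fun i j => ?_
  by_cases h : i = j
  · subst h; simp
  · simp [h]

lemma eval₂_rankPoly {R' : Type u} [CommRing R'] (χ : R →+* R') (a : R') :
    F.rankPoly.eval₂ χ a = (1 - (F.M 1).map χ + a • (F.M 1).map χ).det := by
  rw [rankPoly, ← Polynomial.coe_eval₂RingHom, RingHom.map_det]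
  congr 1
  refine Matrix.ext fun i j => ?_
  by_cases h : i = j
  · subst h; simp; ring
  · simp [h]; ring

lemma rankPoly_eval_zero_mul (j : ι) : F.rankPoly.eval 0 • F.x j = 0 := by
  have h0 : F.rankPoly.eval 0 = (1 - F.M 1).det := by
    have := F.eval₂_rankPoly (RingHom.id R) 0
    rw [← coeff_zero_eq_eval_zero]
    simpa [eval₂_id] using this
  rw [h0]
  have hK : ∀ l, ∑ i, (1 - F.M 1) i l • F.x i = 0 := by
    intro l
    simp only [Matrix.sub_apply, sub_smul, Finset.sum_sub_distrib, F.sum_M, one_mul]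
    simp [Matrix.one_apply]
  calc (1 - F.M 1).det • F.x j
      = ∑ i, ((1 - F.M 1) * (1 - F.M 1).adjugate) i j • F.x i := by
        rw [Matrix.mul_adjugate, Finset.sum_eq_single j (fun i _ hi => by simp [hi]) (by simp)]
        simp
    _ = ∑ l, (1 - F.M 1).adjugate l j • ∑ i, (1 - F.M 1) i l • F.x i := by
        simp only [Matrix.mul_apply, Finset.sum_smul, Finset.smul_sum, smul_smul]
        rw [Finset.sum_comm]
        simp only [mul_comm]
    _ = 0 := by simp only [hK, smul_zero, Finset.sum_const_zero]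

lemma rankPoly_eval_one : F.rankPoly.eval 1 = 1 := by
  have := F.eval₂_rankPoly (RingHom.id R) 1
  simpa [eval₂_id] using this

/-- The coefficients of the rank polynomial are orthogonal idempotents. -/
lemma rankPoly_coeff_mul (r s : ℕ) :
    F.rankPoly.coeff r * F.rankPoly.coeff s = if r = s then F.rankPoly.coeff r else 0 := by
  let E := (F.M 1).map (C.comp C : R →+* R[X][X])
  have hE : E * E = E := by rw [← Matrix.map_mul, F.M_one_mul]
  let a : R[X][X] := C X
  let b : R[X][X] := X
  let χ : R →+* R[X][X] := C.comp C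
  have key : F.rankPoly.eval₂ χ (a * b) = F.rankPoly.eval₂ χ a * F.rankPoly.eval₂ χ b := by
    rw [F.eval₂_rankPoly, F.eval₂_rankPoly, F.eval₂_rankPoly, ← Matrix.det_mul]
    congr 1
    change 1 - E + (a * b) • E = (1 - E + a • E) * (1 - E + b • E)
    simp only [add_mul, mul_add, sub_mul, mul_sub, one_mul, mul_one, smul_mul_assoc, mul_smul_comm,
      hE, smul_smul, smul_sub, sub_self, sub_zero]
    module
  have hl : ((F.rankPoly.eval₂ χ (a * b)).coeff s).coeff r =
      if r = s then F.rankPoly.coeff r else 0 := by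
    rw [Polynomial.eval₂_eq_sum, Polynomial.sum_def, finset_sum_coeff, finset_sum_coeff]
    simp only [χ, a, b, mul_pow, ← C_pow, RingHom.comp_apply, ← mul_assoc, ← C_mul, coeff_C_mul_X_pow]
    have hterm : ∀ x : ℕ, (if s = x then C (F.rankPoly.coeff x) * X ^ x else 0).coeff r =
        if s = x then (if r = x then F.rankPoly.coeff x else 0) else 0 := fun x => by
      split_ifs with h₁ h₂ <;> simp [coeff_C_mul_X_pow, *]
    simp only [hterm]
    rw [Finset.sum_ite_eq]
    by_cases hrs : r = s
    · subst hrs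
      simp [Polynomial.mem_support_iff]
      exact fun h => h.symm
    · simp [hrs]
  have h2 : F.rankPoly.eval₂ χ a = C F.rankPoly := by
    simp only [χ, a]
    rw [← Polynomial.hom_eval₂, Polynomial.eval₂_C_X]
  have h3 : F.rankPoly.eval₂ χ b = F.rankPoly.map C := by
    rw [Polynomial.map, ← Polynomial.eval₂_map (p := F.rankPoly) (f := C) C b]
  rw [← hl, key, h2, h3, coeff_C_mul, coeff_map, coeff_mul_C]

/-- The part of a scalar's characteristic polynomial on the rank `r` summand. -/
lemma charpoly_smul_part {R' : Type u} [CommRing R'] (χ : R →+* R') (f : R') (r : ℕ) :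
    C (χ (F.rankPoly.coeff r)) * (f • (F.M 1).map χ).charpoly * X ^ r =
      C (χ (F.rankPoly.coeff r)) * (X - C f) ^ r * X ^ Fintype.card ι := by
  have hQ : ∀ a : R'[X], C (χ (F.rankPoly.coeff r)) * F.rankPoly.eval₂ ((C : R' →+* R'[X]).comp χ) a =
      C (χ (F.rankPoly.coeff r)) * a ^ r := by
    intro a
    rw [Polynomial.eval₂_eq_sum, Polynomial.sum_def, Finset.mul_sum]
    simp only [RingHom.comp_apply, ← mul_assoc, ← C_mul, ← map_mul, F.rankPoly_coeff_mul,
      eq_comm (a := r)]
    rw [Finset.sum_eq_single r (fun s _ hs => by simp [hs]) (fun h => by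
      simp [Polynomial.notMem_support_iff.1 h])]
    simp
  have hE : (F.M 1).map ((C : R' →+* R'[X]).comp χ) * (F.M 1).map ((C : R' →+* R'[X]).comp χ) = (F.M 1).map ((C : R' →+* R'[X]).comp χ) := by
    rw [← Matrix.map_mul, F.M_one_mul]
  have hcp : (f • (F.M 1).map χ).charpoly =
      ((X : R'[X]) • (1 : Matrix ι ι R'[X]) - (C : R' →+* R'[X]) f • (F.M 1).map ((C : R' →+* R'[X]).comp χ)).det := by
    rw [Matrix.charpoly, Matrix.charmatrix]
    congr 1
    refine Matrix.ext fun i j => ?_
    by_cases h : i = j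
    · subst h; simp
    · simp [h]
  have key : (f • (F.M 1).map χ).charpoly * F.rankPoly.eval₂ ((C : R' →+* R'[X]).comp χ) X =
      F.rankPoly.eval₂ ((C : R' →+* R'[X]).comp χ) (X - C f) * X ^ Fintype.card ι := by
    rw [hcp, F.eval₂_rankPoly, F.eval₂_rankPoly, ← Matrix.det_mul, mul_comm _ (X ^ Fintype.card ι),
      ← Matrix.det_smul]
    congr 1
    simp only [add_mul, mul_add, sub_mul, mul_sub, one_mul, mul_one, smul_mul_assoc, mul_smul_comm,
      hE, smul_smul, smul_sub, smul_add]
    module
  calc C (χ (F.rankPoly.coeff r)) * (f • (F.M 1).map χ).charpoly * X ^ r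
      = (f • (F.M 1).map χ).charpoly * (C (χ (F.rankPoly.coeff r)) *
          F.rankPoly.eval₂ ((C : R' →+* R'[X]).comp χ) X) := by rw [hQ]; ring
    _ = (C (χ (F.rankPoly.coeff r)) * F.rankPoly.eval₂ ((C : R' →+* R'[X]).comp χ) (X - C f)) *
          X ^ Fintype.card ι := by rw [mul_left_comm, key, mul_assoc]
    _ = _ := by rw [hQ]

end Frame

namespace GR

variable {A B : Type u} [CommRing A] [CommRing B] [Algebra A B] (G : GR A B)
  {ι : Type} [Fintype ι] [DecidableEq ι] (F : Frame A B ι)

include G in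
lemma rankPoly_coeff_zero : F.rankPoly.coeff 0 = 0 := by
  have h : algebraMap A B (F.rankPoly.eval 0) = 0 := by
    refine F.eq_zero_of_mul_x _ fun j => ?_
    rw [← Algebra.smul_def, F.rankPoly_eval_zero_mul]
  have := congrArg G.e h
  rwa [G.e_s, map_zero, ← coeff_zero_eq_eval_zero] at this

lemma rankPoly_invariant (r : ℕ) :
    G.t (F.rankPoly.coeff r) = algebraMap A B (F.rankPoly.coeff r) := by
  have h : F.rankPoly.map G.t = F.rankPoly.map (algebraMap A B) := by
    have h1 := G.P_invariant F 1
    rw [P, map_one] at h1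
    rw [F.rankPoly_eq, Polynomial.map_comp, Polynomial.map_comp, ← Matrix.reverse_charpoly, Polynomial.map_sub,
      Polynomial.map_sub, Polynomial.map_one, Polynomial.map_one, map_X, map_X]
    congr 1
    nontriviality B
    simp only [Polynomial.reverse, ← Polynomial.reflect_map, h1]
  simpa using congrArg (fun p => Polynomial.coeff p r) h

variable {C : Type u} [CommRing C] [Algebra C A] (hC : ∀ c, G.t (algebraMap C A c) =
    algebraMap A B (algebraMap C A c))
  (hinv : ∀ a, G.t a = algebraMap A B a → a ∈ (algebraMap C A).range)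

include hC hinv in
/-- Invariant functions after base change have a power coming from the constants. -/
theorem exists_pow_lift [Module.Finite A B] [Module.Projective A B]
    {C' : Type u} [CommRing C'] [Algebra C C'] (f : A ⊗[C] C')
    (hf : G.bcT hC C' f = algebraMap (A ⊗[C] C') _ f) :
    ∃ (n : ℕ) (P : C'[X]), 0 < n ∧
      P.map (Algebra.TensorProduct.includeRight : C' →ₐ[C] A ⊗[C] C').toRingHom =
        (X - Polynomial.C f) ^ n := by
  obtain ⟨N, ⟨F⟩⟩ := Frame.exists_frame A B
  obtain ⟨q, hq⟩ := G.exists_charpoly_lift F hC hinv C' f hf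
  let ι' := (Algebra.TensorProduct.includeRight : C' →ₐ[C] A ⊗[C] C').toRingHom
  have hM : (F.baseChange (A ⊗[C] C')).M 1 = (F.M 1).map (algebraMap A (A ⊗[C] C')) := by
    rw [← F.baseChange_M, Algebra.TensorProduct.one_def]
  rw [hM] at hq
  let χ := algebraMap A (A ⊗[C] C')
  choose c hc using fun r => hinv _ (G.rankPoly_invariant F r)
  let m := F.rankPoly.natDegree
  let c' : ℕ → C' := fun r => algebraMap C C' (c r)
  have hc' : ∀ r, ι' (c' r) = χ (F.rankPoly.coeff r) := fun r => by
    show (1 : A) ⊗ₜ[C] algebraMap C C' (c r) = F.rankPoly.coeff r ⊗ₜ 1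
    rw [← hc, Algebra.algebraMap_eq_smul_one, Algebra.algebraMap_eq_smul_one, smul_tmul]
  let P : ℕ → C'[X] := fun r =>
    ∑ k ∈ Finset.range (r + 1), Polynomial.C ((q * X ^ r).coeff (k + N)) * X ^ k
  have hP : ∀ r, Polynomial.C (χ (F.rankPoly.coeff r)) * (P r).map ι' =
      Polynomial.C (χ (F.rankPoly.coeff r)) * (X - Polynomial.C f) ^ r := by
    intro r
    ext k
    simp only [P, coeff_C_mul, coeff_map, finsetSum_coeff, coeff_X_pow, mul_ite, mul_one, mul_zero,
      Finset.sum_ite_eq, Finset.mem_range]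
    have h1 : χ (F.rankPoly.coeff r) * ι' ((q * X ^ r).coeff (k + N)) =
        χ (F.rankPoly.coeff r) * ((X - Polynomial.C f) ^ r).coeff k := by
      have := congrArg (fun p => Polynomial.coeff p (k + N)) (F.charpoly_smul_part χ f r)
      simp only [Fintype.card_fin] at this
      rw [← hq, mul_assoc, mul_assoc, coeff_C_mul, coeff_C_mul, coeff_mul_X_pow] at this
      rw [← coeff_map ι', Polynomial.map_mul, Polynomial.map_pow, map_X, this]
    split_ifs with h
    · exact h1
    · rw [map_zero, mul_zero, coeff_eq_zero_of_natDegree_lt (p := (X - Polynomial.C f) ^ r),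
        mul_zero]
      exact lt_of_le_of_lt (natDegree_pow_le.trans
        (Nat.mul_le_mul_left r (natDegree_X_sub_C_le f))) (by omega)
  have hsum : ∑ r ∈ Finset.range (m + 1), Polynomial.C (χ (F.rankPoly.coeff r)) =
      (1 : (A ⊗[C] C')[X]) := by
    rw [← map_sum, ← map_sum]
    have := F.rankPoly_eval_one
    rw [Polynomial.eval_eq_sum_range] at this
    simp only [one_pow, mul_one] at this
    rw [this, map_one, map_one]
  refine ⟨m.factorial, ∑ r ∈ Finset.range (m + 1),
    Polynomial.C (c' r) * P r ^ (m.factorial / r), Nat.factorial_pos _, ?_⟩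
  rw [Polynomial.map_sum]
  conv_rhs => rw [← one_mul ((X - Polynomial.C f) ^ m.factorial), ← hsum, Finset.sum_mul]
  refine Finset.sum_congr rfl fun r hr => ?_
  rw [Polynomial.map_mul, Polynomial.map_pow, map_C, hc']
  rcases Nat.eq_zero_or_pos r with rfl | hr0
  · simp [G.rankPoly_coeff_zero F]
  have hrm : r ∣ m.factorial := Nat.dvd_factorial hr0 (by simpa [Nat.lt_succ_iff] using hr)
  have hidem : Polynomial.C (χ (F.rankPoly.coeff r)) * Polynomial.C (χ (F.rankPoly.coeff r)) =
      Polynomial.C (χ (F.rankPoly.coeff r)) := by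
    rw [← map_mul, ← map_mul, F.rankPoly_coeff_mul, if_pos rfl]
  have hk : ∀ k : ℕ, Polynomial.C (χ (F.rankPoly.coeff r)) * (P r).map ι' ^ k =
      Polynomial.C (χ (F.rankPoly.coeff r)) * ((X - Polynomial.C f) ^ r) ^ k := by
    intro k
    induction k with
    | zero => simp
    | succ k ih =>
      rw [pow_succ, pow_succ, ← hidem, mul_mul_mul_comm, ih, hP, mul_mul_mul_comm]
  rw [hk, ← pow_mul, Nat.mul_div_cancel' hrm]

end GR

end Groth.Agent.GrpdLib
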