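import Groth.Agent.Grpd.Basis
import Groth.Agent.Grpd.Split
import Mathlib.RingTheory.Spectrum.Prime.FreeLocus
import Mathlib.RingTheory.TensorProduct.MvPolynomial
import Mathlib.RingTheory.LocalRing.Module
import Mathlib.RingTheory.Spectrum.Prime.Module
import Mathlib.RingTheory.Flat.LocallyFree
import Mathlib.LinearAlgebra.Matrix.SchurComplement
import Mathlib.RingTheory.Flat.FaithfullyFlat.Algebra
import Mathlib.RingTheory.Flat.Localization
import Mathlib.RingTheory.Finiteness.Descent
import Mathlib.RingTheory.Localization.Away.Basic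
import Mathlib.LinearAlgebra.Dimension.StrongRankCondition

/-!
The quotient of an affine finite flat equivalence relation.
-/

universe u

open TensorProduct

namespace Groth.Agent.GrpdLib

namespace GR

variable {A B : Type u} [CommRing A] [CommRing B] [Algebra A B] (G : GR A B)
  [Module.Finite A B] [Module.Projective A B]
  {C : Type u} [CommRing C] [Algebra C A] (hinj : Function.Injective (algebraMap C A))
  (hC : ∀ c, G.t (algebraMap C A c) = algebraMap A B (algebraMap C A c))
  (hinv : ∀ a, G.t a = algebraMap A B a → a ∈ (algebraMap C A).range)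

/-- The fibre dimension is detected by the rank idempotents. -/
lemma rankAtStalk_eq_of_coeff_notMem {N : ℕ} (F : Frame A B (Fin N)) (u : PrimeSpectrum A) (n : ℕ)
    (h : F.rankPoly.coeff n ∉ u.asIdeal) : Module.rankAtStalk B u = n := by
  let κ := u.asIdeal.ResidueField
  let F' := F.baseChange κ
  let w := Module.finBasis κ (κ ⊗[A] B)
  let m := Module.finrank κ (κ ⊗[A] B)
  let U : Matrix (Fin N) (Fin m) κ := Matrix.of fun i j => F'.lam (w j) i
  let W : Matrix (Fin m) (Fin N) κ := Matrix.of fun j i => w.repr (F'.x i) j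
  have hUW : U * W = F'.M 1 := by
    ext i k
    rw [Matrix.mul_apply, Frame.M_apply, one_mul]
    conv_rhs => rw [← w.sum_repr (F'.x k), map_sum, Finset.sum_apply]
    exact Finset.sum_congr rfl fun j _ => by simp [U, W, mul_comm]
  have hWU : W * U = 1 := by
    ext j j'
    rw [Matrix.mul_apply]
    have := congrArg (fun d => w.repr d j) (F'.recon (w j'))
    simp only [map_sum, map_smul, Finsupp.coe_finsetSum, Finset.sum_apply, Finsupp.smul_apply,
      smul_eq_mul, Module.Basis.repr_self] at this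
    simp only [U, W, Matrix.of_apply]
    rw [Finset.sum_congr rfl fun i _ => mul_comm _ _, this, Finsupp.single_apply, Matrix.one_apply]
    by_cases hj : j = j' <;> simp [hj, eq_comm]
  have hE : F'.M 1 = (F.M 1).map (algebraMap A κ) := by
    rw [← F.baseChange_M, Algebra.TensorProduct.one_def]
  have h1 : F.rankPoly.map (algebraMap A κ) = Polynomial.X ^ m := by
    rw [F.rankPoly_map, ← hE, ← hUW]
    have : 1 - (U * W).map Polynomial.C + (Polynomial.X : Polynomial κ) • (U * W).map Polynomial.C =
        1 + (((Polynomial.X : Polynomial κ) - 1) • U.map Polynomial.C) * W.map Polynomial.C := by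
      rw [Matrix.map_mul, Matrix.smul_mul, sub_smul, one_smul]
      abel
    rw [this, Matrix.det_one_add_mul_comm, Matrix.mul_smul, ← Matrix.map_mul, hWU,
      Matrix.map_one _ (map_zero _) (map_one _)]
    have h2 : (1 : Matrix (Fin m) (Fin m) (Polynomial κ)) +
        ((Polynomial.X : Polynomial κ) - 1) • (1 : Matrix (Fin m) (Fin m) (Polynomial κ)) =
        (Polynomial.X : Polynomial κ) • 1 := by
      rw [sub_smul, one_smul]; abel
    rw [h2, Matrix.det_smul, Matrix.det_one, mul_one, Fintype.card_fin]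
  have h2 : algebraMap A κ (F.rankPoly.coeff n) ≠ 0 := fun h0 =>
    h ((Ideal.algebraMap_residueField_eq_zero (I := u.asIdeal)).1 h0)
  rw [← Polynomial.coeff_map, h1, Polynomial.coeff_X_pow] at h2
  rw [Module.rankAtStalk_eq]
  show m = n
  by_contra hne
  exact h2 (if_neg (Ne.symm hne))

include hinj hinv in
/-- Some rank idempotent is a unit along the fibre of a point of the constants. -/
lemma exists_rank (p : PrimeSpectrum C) :
    ∃ (n : ℕ) (c : C), c ∉ p.asIdeal ∧ ∀ u : PrimeSpectrum A,
      algebraMap C A c ∉ u.asIdeal → Module.rankAtStalk B u = n := by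
  obtain ⟨N, ⟨F⟩⟩ := Frame.exists_frame A B
  choose c hc using fun r => hinv _ (G.rankPoly_invariant F r)
  have h1 : ∑ r ∈ Finset.range (F.rankPoly.natDegree + 1), c r = 1 := by
    refine hinj ?_
    rw [map_sum, map_one, Finset.sum_congr rfl fun r _ => hc r]
    have := F.rankPoly_eval_one
    rw [Polynomial.eval_eq_sum_range] at this
    simpa using this
  obtain ⟨n, hn⟩ : ∃ n, c n ∉ p.asIdeal := by
    by_contra! h
    exact p.2.ne_top ((Ideal.eq_top_iff_one _).2 (h1 ▸ Ideal.sum_mem _ fun r _ => h r))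
  exact ⟨n, c n, hn, fun u hu => rankAtStalk_eq_of_coeff_notMem F u n (by rwa [hc] at hu)⟩

omit [Module.Projective A B] in
/-- Near a point, the fibre is spanned by as many of the given generators as its dimension. -/
lemma exists_local_gen [Module.Flat A B] {σ : Type*} (y : σ → B)
    (hy : Submodule.span A (Set.range y) = ⊤) (u : PrimeSpectrum A) :
    ∃ (f : Fin (Module.rankAtStalk B u) → σ) (a : A), Function.Injective f ∧ a ∉ u.asIdeal ∧
      ∀ b, a • b ∈ Submodule.span A (Set.range (y ∘ f)) := by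
  let κ := u.asIdeal.ResidueField
  have hspan : Submodule.span κ (Set.range fun i => (1 : κ) ⊗ₜ[A] y i) = ⊤ := by
    rw [eq_top_iff]
    rintro z -
    induction z with
    | zero => exact zero_mem _
    | add a b ha hb => exact add_mem ha hb
    | tmul k b =>
      have hb : b ∈ Submodule.span A (Set.range y) := hy ▸ Submodule.mem_top
      induction hb using Submodule.span_induction generalizing k with
      | mem b hb =>
        obtain ⟨i, rfl⟩ := hb
        rw [show k ⊗ₜ[A] y i = k • ((1 : κ) ⊗ₜ[A] y i) by simp [smul_tmul']]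
        exact Submodule.smul_mem _ _ (Submodule.subset_span ⟨i, rfl⟩)
      | zero => simp
      | add a b _ _ ha hb => rw [tmul_add]; exact add_mem (ha k) (hb k)
      | smul r b _ hb => rw [tmul_smul, smul_tmul']; exact hb _
  obtain ⟨v, hv, hv', hv''⟩ :=
    Submodule.exists_fun_fin_finrank_span_eq κ (Set.range fun i => (1 : κ) ⊗ₜ[A] y i)
  have hn : Module.finrank κ (Submodule.span κ (Set.range fun i => (1 : κ) ⊗ₜ[A] y i)) =
      Module.rankAtStalk B u := by
    rw [hspan, finrank_top, Module.rankAtStalk_eq]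
  choose f hf using hv
  let f' : Fin (Module.rankAtStalk B u) → σ := f ∘ Fin.cast hn.symm
  let S := Submodule.span A (Set.range (y ∘ f'))
  have hnot : u ∉ Module.support A (B ⧸ S) := by
    rw [Module.mem_support_iff_nontrivial_residueField_tensorProduct, not_nontrivial_iff_subsingleton]
    let π : κ ⊗[A] B →ₗ[κ] κ ⊗[A] (B ⧸ S) :=
      AlgebraTensorModule.lTensor κ κ S.mkQ
    have hπ : Function.Surjective π := LinearMap.lTensor_surjective κ S.mkQ_surjective
    refine subsingleton_of_forall_eq 0 fun z => ?_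
    obtain ⟨z, rfl⟩ := hπ z
    have : z ∈ Submodule.span κ (Set.range v) := by rw [hv', hspan]; trivial
    induction this using Submodule.span_induction with
    | mem z hz =>
      obtain ⟨i, rfl⟩ := hz
      rw [← hf i]
      show (1 : κ) ⊗ₜ[A] S.mkQ (y (f i)) = 0
      have : y (f i) ∈ S := Submodule.subset_span ⟨Fin.cast hn i, by simp [f']⟩
      rw [Submodule.mkQ_apply, (Submodule.Quotient.mk_eq_zero S).2 this, tmul_zero]
    | zero => simp
    | add a b _ _ ha hb => rw [map_add, ha, hb, add_zero]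
    | smul r b _ hb => rw [map_smul, hb, smul_zero]
  rw [Module.support_eq_zeroLocus, PrimeSpectrum.mem_zeroLocus, Set.not_subset] at hnot
  obtain ⟨a, ha, hau⟩ := hnot
  have hfi : Function.Injective f := fun i j hij => hv''.injective (by rw [← hf i, ← hf j, hij])
  refine ⟨f', a, hfi.comp (Fin.cast_injective _), hau,
    fun b => (Submodule.Quotient.mk_eq_zero S).1 ?_⟩
  rw [Submodule.Quotient.mk_smul]
  exact Module.mem_annihilator.1 ha _

omit [Module.Finite A B] [Module.Projective A B] in
lemma isIntegral_tensor [Algebra.IsIntegral C A] (C' : Type u) [CommRing C'] [Algebra C C'] :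
    (Algebra.TensorProduct.includeRight : C' →ₐ[C] A ⊗[C] C').toRingHom.IsIntegral := by
  intro z
  induction z with
  | zero => exact RingHom.isIntegralElem_zero _
  | add a b ha hb => exact ha.add _ hb
  | tmul a c =>
    rw [show a ⊗ₜ[C] c = a ⊗ₜ 1 * 1 ⊗ₜ c by simp]
    refine RingHom.IsIntegralElem.mul _ ?_ (RingHom.isIntegralElem_map _)
    obtain ⟨q, hq, hqa⟩ := Algebra.IsIntegral.isIntegral (R := C) a
    refine ⟨q.map (algebraMap C C'), hq.map _, ?_⟩
    rw [Polynomial.eval₂_map]
    have h := congrArg (Algebra.TensorProduct.includeLeft : A →ₐ[C] A ⊗[C] C').toRingHom hqa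
    rw [Polynomial.hom_eval₂, map_zero] at h
    have e : ((Algebra.TensorProduct.includeRight : C' →ₐ[C] A ⊗[C] C').toRingHom).comp
        (algebraMap C C') = ((Algebra.TensorProduct.includeLeft : A →ₐ[C] A ⊗[C] C').toRingHom).comp
        (algebraMap C A) := RingHom.ext fun c =>
      ((Algebra.TensorProduct.includeRight : C' →ₐ[C] A ⊗[C] C').commutes c).trans
        ((Algebra.TensorProduct.includeLeft : A →ₐ[C] A ⊗[C] C').commutes c).symm
    rw [e]
    exact h

omit [Module.Finite A B] [Module.Projective A B] in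
/-- Spanning after inverting a scalar is preserved by base change of arrows. -/
lemma smul_mem_span_map {B' : Type u} [CommRing B'] {A' : Type u} [CommRing A'] [Algebra A' B']
    {A₀ B₀ : Type u} [CommRing A₀] [CommRing B₀] [Algebra A₀ B₀] (f : A₀ →+* A') (g : B₀ →+* B')
    (h : ∀ a, g (algebraMap A₀ B₀ a) = algebraMap A' B' (f a)) {σ : Type*} (y : σ → B₀) {z : B₀}
    (hz : z ∈ Submodule.span A₀ (Set.range y)) : g z ∈ Submodule.span A' (Set.range (g ∘ y)) := by
  induction hz using Submodule.span_induction with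
  | mem b hb => obtain ⟨i, rfl⟩ := hb; exact Submodule.subset_span ⟨i, rfl⟩
  | zero => simp
  | add a b _ _ ha hb => rw [map_add]; exact add_mem ha hb
  | smul r b _ hb => rw [Algebra.smul_def, map_mul, h, ← Algebra.smul_def]; exact Submodule.smul_mem _ _ hb

include hinj hC hinv in
/-- Above each point of the constants there is a flat extension trivialising the relation. -/
theorem exists_flat_basis (hgen : Submodule.span A (Set.range G.t) = ⊤) (p : PrimeSpectrum C) :
    ∃ (D : Type u) (_ : CommRing D) (_ : Algebra C D), Module.Flat C D ∧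
      (∃ P : Ideal D, P.IsPrime ∧ P.comap (algebraMap C D) = p.asIdeal) ∧
      ∃ (n : ℕ) (x : ULift.{u} (Fin n) → A ⊗[C] D)
        (b : Module.Basis (ULift.{u} (Fin n)) (A ⊗[C] D) ((A ⊗[C] D) ⊗[A] B)),
        ∀ i, b i = G.bcT hC D (x i) := by
  classical
  have hI : Algebra.IsIntegral C A := ⟨fun g => G.isIntegral hinv g⟩
  obtain ⟨n, c, hcp, hrk⟩ := G.exists_rank hinj hinv p
  obtain ⟨s, hs⟩ : ∃ s : Finset A, Submodule.span A (Set.range fun l : s => G.t l) = ⊤ := by
    obtain ⟨T, hT⟩ := (Module.Finite.fg_top : (⊤ : Submodule A B).FG)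
    have h : ∀ x ∈ T, ∃ l : A →₀ A, Finsupp.linearCombination A G.t l = x := fun x _ => by
      have : x ∈ Submodule.span A (Set.range G.t) := hgen ▸ Submodule.mem_top
      obtain ⟨l, hl⟩ := Finsupp.mem_span_range_iff_exists_finsupp.1 this
      exact ⟨l, by rw [Finsupp.linearCombination_apply]; exact hl⟩
    choose l hl using h
    refine ⟨T.attach.biUnion fun x => (l x.1 x.2).support, ?_⟩
    rw [eq_top_iff, ← hT, Submodule.span_le]
    intro x hx
    rw [SetLike.mem_coe, ← hl x hx, Finsupp.linearCombination_apply]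
    refine Submodule.sum_mem _ fun a ha => Submodule.smul_mem _ _ (Submodule.subset_span ?_)
    exact ⟨⟨a, Finset.mem_biUnion.2 ⟨⟨x, hx⟩, Finset.mem_attach _ _, ha⟩⟩, rfl⟩
  let C₁ := MvPolynomial (Fin n × s) C
  let Y : Fin n → A ⊗[C] C₁ := fun j => ∑ l : s, (l : A) ⊗ₜ MvPolynomial.X (j, l)
  let B₁ := (A ⊗[C] C₁) ⊗[A] B
  let M := Submodule.span (A ⊗[C] C₁) (Set.range fun j => G.bcT hC C₁ (Y j))
  let ι₁ : C₁ →+* A ⊗[C] C₁ := (Algebra.TensorProduct.includeRight : C₁ →ₐ[C] A ⊗[C] C₁).toRingHom
  let P₀ : Ideal C₁ := RingHom.ker (MvPolynomial.map (σ := Fin n × s) (Ideal.Quotient.mk p.asIdeal))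
  have hP₀ : P₀.IsPrime := RingHom.ker_isPrime _
  have hP₀c : P₀.comap (algebraMap C C₁) = p.asIdeal := by
    ext z
    rw [Ideal.mem_comap, RingHom.mem_ker]
    show MvPolynomial.map (Ideal.Quotient.mk p.asIdeal) (MvPolynomial.C z : C₁) = 0 ↔ _
    simp [C₁, Ideal.Quotient.eq_zero_iff_mem]
  -- no point over the generic point of the fibre lies in the bad locus
  have hbad : ∀ Q : PrimeSpectrum (A ⊗[C] C₁), Q.asIdeal.comap ι₁ = P₀ →
      Q ∉ Module.support (A ⊗[C] C₁) (B₁ ⧸ M) := by
    intro Q hQ
    let u : PrimeSpectrum A := Q.comap (algebraMap A (A ⊗[C] C₁))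
    have hup : u.asIdeal.comap (algebraMap C A) = p.asIdeal := by
      rw [← hP₀c, ← hQ]
      ext z
      simp only [u, PrimeSpectrum.comap_asIdeal, Ideal.mem_comap]
      rw [← IsScalarTower.algebraMap_apply, show ι₁ (algebraMap C C₁ z) = _ from
        (Algebra.TensorProduct.includeRight : C₁ →ₐ[C] A ⊗[C] C₁).commutes z]
    have hru : Module.rankAtStalk B u = n := hrk u fun h => hcp (hup ▸ h)
    obtain ⟨f, a, hfinj, hau, ha⟩ := exists_local_gen (fun l : s => G.t l) hs u
    let f' : Fin n → s := f ∘ Fin.cast hru.symm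
    have ha' : ∀ b, a • b ∈ Submodule.span A (Set.range fun k => G.t (f' k : A)) := fun b => by
      refine Submodule.span_mono ?_ (ha b)
      rintro _ ⟨i, rfl⟩
      exact ⟨Fin.cast hru i, by simp [f']⟩
    have hK₀ : ∀ l : s, ∃ K : Fin n → A, ∑ k, K k • G.t (f' k : A) = a • G.t (l : A) := fun l =>
      Submodule.mem_span_range_iff_exists_fun A |>.1 (ha' _)
    choose K₀ hK₀' using hK₀
    let K : s → Fin n → A := fun l =>
      if h : ∃ j, f' j = l then Pi.single h.choose a else K₀ l
    have hK : ∀ l, ∑ k, K l k • G.t (f' k : A) = a • G.t (l : A) := fun l => by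
      simp only [K]
      split_ifs with h
      · conv_rhs => rw [← h.choose_spec]
        rw [Finset.sum_eq_single h.choose (fun b _ hb => by simp [hb]) (by simp), Pi.single_eq_same]
      · exact hK₀' l
    let e := MvPolynomial.algebraTensorAlgEquiv (σ := Fin n × s) C A
    let T : Matrix (Fin n) (Fin n) (A ⊗[C] C₁) := Matrix.of fun j k =>
      ∑ l : s, K l k ⊗ₜ MvPolynomial.X (j, l)
    let w : Fin n → B₁ := fun k => (1 : A ⊗[C] C₁) ⊗ₜ[A] G.t (f' k : A)
    let v : Fin n → B₁ := fun j => G.bcT hC C₁ (Y j)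
    have hT : ∀ j, (algebraMap A (A ⊗[C] C₁) a) • v j = ∑ k, T j k • w k := by
      intro j
      simp only [v, Y, T, w, Matrix.of_apply, map_sum, Finset.smul_sum, Finset.sum_smul]
      rw [Finset.sum_comm (t := (Finset.univ : Finset s))]
      refine Finset.sum_congr rfl fun l _ => ?_
      have hY : G.bcT hC C₁ ((l : A) ⊗ₜ MvPolynomial.X (j, l)) =
          ((1 : A) ⊗ₜ[C] (MvPolynomial.X (j, l) : C₁)) ⊗ₜ[A] G.t (l : A) := by
        rw [show (l : A) ⊗ₜ[C] (MvPolynomial.X (j, l) : C₁) =
          (l : A) ⊗ₜ 1 * 1 ⊗ₜ MvPolynomial.X (j, l) by simp, map_mul, bcT_left, bcT_right,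
          incC_apply]
        simp
      rw [hY, algebraMap_smul, smul_tmul', smul_tmul, ← hK l, tmul_sum]
      refine Finset.sum_congr rfl fun k _ => ?_
      rw [← smul_tmul, smul_tmul' (K l k ⊗ₜ[C] (MvPolynomial.X (j, l) : C₁)), smul_eq_mul, mul_one,
        smul_tmul']
      simp
    have hdet : ∀ z, (T.det * (algebraMap A (A ⊗[C] C₁) a)) • z ∈ M := by
      have hw : ∀ k, T.det • w k ∈ M := fun k => by
        have : T.det • w k = ∑ j, T.adjugate k j • ∑ k', T j k' • w k' := by
          calc T.det • w k = ∑ k', ((T.adjugate * T) k k') • w k' := by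
                rw [Matrix.adjugate_mul, Finset.sum_eq_single k (fun k' _ hk' => ?_)
                  (fun h => absurd (Finset.mem_univ k) h), Matrix.smul_apply, Matrix.one_apply_eq,
                  smul_eq_mul, mul_one]
                rw [Matrix.smul_apply, Matrix.one_apply_ne (Ne.symm hk'), smul_zero]
                exact zero_smul (A ⊗[C] C₁) (w k')
            _ = ∑ j, ∑ k', (T.adjugate k j * T j k') • w k' := by
                rw [Finset.sum_comm]
                exact Finset.sum_congr rfl fun k' _ => by rw [Matrix.mul_apply, Finset.sum_smul]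
            _ = _ := Finset.sum_congr rfl fun j _ => by
                rw [Finset.smul_sum]
                exact Finset.sum_congr rfl fun k' _ => (smul_smul (T.adjugate k j) (T j k') (w k')).symm
        rw [this]
        refine Submodule.sum_mem _ fun j _ => Submodule.smul_mem _ _ ?_
        rw [← hT]
        exact Submodule.smul_mem _ _ (Submodule.subset_span ⟨j, rfl⟩)
      intro z
      induction z with
      | zero => simp
      | add a b ha hb => rw [smul_add]; exact add_mem ha hb
      | tmul x b =>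
        rw [show x ⊗ₜ[A] b = x • ((1 : A ⊗[C] C₁) ⊗ₜ[A] b) by simp [smul_tmul'], smul_comm]
        refine Submodule.smul_mem _ _ ?_
        rw [show (T.det * algebraMap A (A ⊗[C] C₁) a) • ((1 : A ⊗[C] C₁) ⊗ₜ[A] b) =
            T.det • ((1 : A ⊗[C] C₁) ⊗ₜ[A] (a • b)) by
          rw [smul_tmul', smul_tmul', ← smul_tmul, smul_eq_mul, smul_eq_mul, mul_one, mul_one,
            show a • T.det = algebraMap A (A ⊗[C] C₁) a * T.det from Algebra.smul_def a T.det,
            mul_comm]]
        obtain ⟨d, hd⟩ := (Submodule.mem_span_range_iff_exists_fun A).1 (ha' b)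
        rw [← hd, tmul_sum, Finset.smul_sum]
        refine Submodule.sum_mem _ fun k _ => ?_
        rw [tmul_smul, ← algebraMap_smul (A ⊗[C] C₁) (d k), smul_comm]
        exact Submodule.smul_mem _ _ (hw k)
    intro hsup
    have hmem : T.det * (algebraMap A (A ⊗[C] C₁) a) ∈ Q.asIdeal := by
      rw [Module.support_eq_zeroLocus, PrimeSpectrum.mem_zeroLocus] at hsup
      refine hsup (Module.mem_annihilator.2 fun z => ?_)
      obtain ⟨z, rfl⟩ := Submodule.Quotient.mk_surjective M z
      rw [← Submodule.Quotient.mk_smul, Submodule.Quotient.mk_eq_zero]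
      exact hdet z
    rcases Q.2.mem_or_mem hmem with hd | hd
    swap; · exact hau hd
    let red : A ⊗[C] C₁ →+* MvPolynomial (Fin n × s) (A ⧸ u.asIdeal) :=
      (MvPolynomial.map (Ideal.Quotient.mk u.asIdeal)).comp e.toAlgHom.toRingHom
    let Q₁ : Ideal (A ⊗[C] C₁) := RingHom.ker red
    have : Q₁.IsPrime := RingHom.ker_isPrime _
    have hle : Q₁ ≤ Q.asIdeal := by
      intro z hz
      have hz' : e z ∈ RingHom.ker (MvPolynomial.map (σ := Fin n × s) (Ideal.Quotient.mk u.asIdeal)) := hz
      rw [MvPolynomial.ker_map, Ideal.mk_ker] at hz'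
      have : z ∈ u.asIdeal.map (algebraMap A (A ⊗[C] C₁)) := by
        have := Ideal.mem_map_of_mem e.symm.toAlgHom.toRingHom hz'
        rw [Ideal.map_map] at this
        convert this using 2
        · ext x
          exact (e.symm.commutes x).symm
        · exact (e.symm_apply_apply z).symm
      exact Ideal.map_le_iff_le_comap.2 le_rfl this
    have hQ₁ : Q₁ = Q.asIdeal := by
      by_contra hne
      have := (isIntegral_tensor (C := C) (A := A) C₁)
      let algC : Algebra C₁ (A ⊗[C] C₁) := ι₁.toAlgebra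
      have : Algebra.IsIntegral C₁ (A ⊗[C] C₁) := ⟨this⟩
      have hlt := Ideal.IsIntegral.comap_lt_comap (R := C₁) (lt_of_le_of_ne hle hne)
      refine hlt.ne (le_antisymm (Ideal.comap_mono hle) ?_)
      show Q.asIdeal.comap ι₁ ≤ Q₁.comap ι₁
      rw [hQ]
      intro z hz
      rw [Ideal.mem_comap]
      show red (1 ⊗ₜ z) = 0
      simp only [red, RingHom.comp_apply]
      show MvPolynomial.map _ (e (1 ⊗ₜ z)) = 0
      rw [MvPolynomial.algebraTensorAlgEquiv_tmul, one_smul, MvPolynomial.map_map]
      refine MvPolynomial.ext _ _ fun m => ?_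
      rw [MvPolynomial.coeff_map, MvPolynomial.coeff_zero, RingHom.comp_apply,
        Ideal.Quotient.eq_zero_iff_mem, ← Ideal.mem_comap, hup,
        ← Ideal.Quotient.eq_zero_iff_mem, ← MvPolynomial.coeff_map, RingHom.mem_ker.1 hz,
        MvPolynomial.coeff_zero]
    rw [← hQ₁, RingHom.mem_ker] at hd
    have hev := congrArg
      (MvPolynomial.eval fun jl : Fin n × s => if f' jl.1 = jl.2 then 1 else 0) hd
    rw [map_zero, ← RingHom.comp_apply, RingHom.map_det] at hev
    have hmat : ((MvPolynomial.eval fun jl : Fin n × s => if f' jl.1 = jl.2 then 1 else 0).comp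
        red).mapMatrix T = Ideal.Quotient.mk u.asIdeal a • (1 : Matrix (Fin n) (Fin n) _) := by
      ext j k
      simp only [RingHom.mapMatrix_apply, Matrix.map_apply, T, Matrix.of_apply, map_sum,
        RingHom.comp_apply, red]
      rw [Finset.sum_eq_single (f' j)]
      · have hj : ∃ i, f' i = f' j := ⟨j, rfl⟩
        have hKj : K (f' j) = Pi.single j a := by
          have hh : hj.choose = j := (hfinj.comp (Fin.cast_injective _)) hj.choose_spec
          simp only [K, dif_pos hj, hh]
        show MvPolynomial.eval _ (MvPolynomial.map _ (e (K (f' j) k ⊗ₜ MvPolynomial.X (j, f' j)))) = _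
        rw [MvPolynomial.algebraTensorAlgEquiv_tmul, hKj]
        simp [MvPolynomial.smul_eq_C_mul, Pi.single_apply, Matrix.one_apply, eq_comm (a := k),
          apply_ite (Ideal.Quotient.mk u.asIdeal)]
        split_ifs <;> simp
      · intro l _ hl
        show MvPolynomial.eval _ (MvPolynomial.map _ (e (K l k ⊗ₜ MvPolynomial.X (j, l)))) = _
        rw [MvPolynomial.algebraTensorAlgEquiv_tmul]
        simp [MvPolynomial.smul_eq_C_mul, Ne.symm hl]
      · simp
    rw [hmat, Matrix.det_smul, Matrix.det_one, mul_one] at hev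
    exact hau (Ideal.Quotient.eq_zero_iff_mem.1 (eq_zero_of_pow_eq_zero hev))
  -- a function on the constants cutting out a neighbourhood missing the bad locus
  have hcl : IsClosed (PrimeSpectrum.comap ι₁ '' Module.support (A ⊗[C] C₁) (B₁ ⧸ M)) :=
    PrimeSpectrum.isClosedMap_comap_of_isIntegral ι₁ (isIntegral_tensor C₁) _
      Module.isClosed_support
  have hnotP : (⟨P₀, hP₀⟩ : PrimeSpectrum C₁) ∈
      (PrimeSpectrum.comap ι₁ '' Module.support (A ⊗[C] C₁) (B₁ ⧸ M))ᶜ := by
    rintro ⟨Q, hQ, hQP⟩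
    exact hbad Q (congrArg PrimeSpectrum.asIdeal hQP) hQ
  obtain ⟨_, ⟨h₀, rfl⟩, hP, hsub⟩ :=
    PrimeSpectrum.isTopologicalBasis_basic_opens.exists_subset_of_mem_open hnotP hcl.isOpen_compl
  let h : C₁ := algebraMap C C₁ c * h₀
  have hhP : h ∉ P₀ := fun hh => (hP₀.mem_or_mem hh).elim
    (fun hh => hcp (hP₀c ▸ hh)) hP
  obtain ⟨k, hk⟩ : ∃ k : ℕ, ι₁ h₀ ^ k ∈ Module.annihilator (A ⊗[C] C₁) (B₁ ⧸ M) := by
    have : ι₁ h₀ ∈ (Module.annihilator (A ⊗[C] C₁) (B₁ ⧸ M)).radical := by
      rw [Ideal.radical_eq_sInf]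
      refine Submodule.mem_sInf.2 fun J hJ => ?_
      by_contra hJh
      exact hsub (a := PrimeSpectrum.comap ι₁ ⟨J, hJ.2⟩) hJh
        ⟨⟨J, hJ.2⟩, by rw [Module.support_eq_zeroLocus]; exact hJ.1, rfl⟩
    exact this
  let D := Localization.Away h
  refine ⟨D, inferInstance, inferInstance, Module.Flat.trans C C₁ D, ?_, n, ?_⟩
  · have hd : Disjoint (Submonoid.powers h : Set C₁) (P₀ : Set C₁) := by
      rw [Set.disjoint_left]
      rintro _ ⟨i, rfl⟩ hi
      exact hhP (hP₀.mem_of_pow_mem i hi)
    refine ⟨P₀.map (algebraMap C₁ D), IsLocalization.isPrime_of_isPrime_disjoint _ _ _ hP₀ hd, ?_⟩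
    rw [IsScalarTower.algebraMap_eq C C₁ D, ← Ideal.comap_comap,
      show (P₀.map (algebraMap C₁ D)).comap (algebraMap C₁ D) = P₀ from
        IsLocalization.under_map_of_isPrime_disjoint _ _ hP₀ hd, hP₀c]
  let π : C₁ →ₐ[C] D := IsScalarTower.toAlgHom C C₁ D
  let jA : A ⊗[C] C₁ →ₐ[A] A ⊗[C] D := Algebra.TensorProduct.map (AlgHom.id A A) π
  let x : ULift.{u} (Fin n) → A ⊗[C] D := fun i => jA (Y i.down)
  let B' := (A ⊗[C] D) ⊗[A] B
  let L := Fintype.linearCombination (A ⊗[C] D) (fun i => G.bcT hC D (x i))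
  have hjt : ∀ z, bcMap (A := A) (B := B) π (G.bcT hC C₁ z) = G.bcT hC D (jA z) := fun z => by
    have : (bcMap (A := A) (B := B) π).toRingHom.comp (G.bcT hC C₁) =
        (G.bcT hC D).comp jA.toRingHom := by
      refine ringHom_ext_tmul (fun a => ?_) fun c => ?_
      · simp [bcMap, bcT_left, jA, ← Algebra.TensorProduct.one_def]
      · simp [bcMap, bcT_right, incC_apply, jA]
    exact RingHom.congr_fun this z
  have hu : ∀ q : C₁, q ∣ h → IsUnit (jA (ι₁ q)) := fun q hq => by
    have h1 : IsUnit (algebraMap C₁ D q) := isUnit_of_dvd_unit (map_dvd _ hq)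
      (IsLocalization.Away.algebraMap_isUnit h)
    exact h1.map (Algebra.TensorProduct.includeRight : D →ₐ[C] A ⊗[C] D)
  have hsurj : Function.Surjective L := by
    rw [← LinearMap.range_eq_top, Fintype.range_linearCombination, eq_top_iff]
    rintro z -
    induction z with
    | zero => exact zero_mem _
    | add a b ha hb => exact add_mem ha hb
    | tmul d b =>
      rw [show d ⊗ₜ[A] b = d • ((1 : A ⊗[C] D) ⊗ₜ[A] b) by simp [smul_tmul']]
      refine Submodule.smul_mem _ _ ?_
      have hmem : ι₁ h₀ ^ k • ((1 : A ⊗[C] C₁) ⊗ₜ[A] b) ∈ M := by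
        refine (Submodule.Quotient.mk_eq_zero M).1 ?_
        rw [Submodule.Quotient.mk_smul]
        exact Module.mem_annihilator.1 hk _
      have hmap := smul_mem_span_map jA.toRingHom (bcMap (A := A) (B := B) π).toRingHom
        (fun a => by simp [bcMap, jA, Algebra.TensorProduct.algebraMap_apply]) _ hmem
      have h2 : (bcMap (A := A) (B := B) π).toRingHom (ι₁ h₀ ^ k • ((1 : A ⊗[C] C₁) ⊗ₜ[A] b)) =
          jA (ι₁ h₀) ^ k • ((1 : A ⊗[C] D) ⊗ₜ[A] b) := by
        simp [bcMap, jA, smul_tmul', smul_eq_mul, ← Algebra.TensorProduct.one_def]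
      rw [h2] at hmap
      have hmap' := Submodule.smul_mem _ ((((hu h₀ (dvd_mul_left _ _)).pow k).unit⁻¹ :
        (A ⊗[C] D)ˣ) : A ⊗[C] D) hmap
      rw [smul_tmul', smul_tmul', smul_eq_mul, smul_eq_mul, mul_one, IsUnit.val_inv_mul] at hmap'
      refine Submodule.span_le.2 ?_ hmap'
      rintro _ ⟨j, rfl⟩
      exact Submodule.subset_span ⟨⟨j⟩, (hjt (Y j)).symm⟩
  have hrank : ∀ Q : PrimeSpectrum (A ⊗[C] D), Module.rankAtStalk B' Q = n := fun Q => by
    rw [Module.rankAtStalk_baseChange]
    refine hrk _ fun hQ => Q.2.ne_top (Ideal.eq_top_of_isUnit_mem _ ?_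
      (hu (algebraMap C C₁ c) (dvd_mul_right _ _)))
    rw [PrimeSpectrum.comap_asIdeal, Ideal.mem_comap] at hQ
    convert hQ using 1
    show jA (1 ⊗ₜ algebraMap C C₁ c) = algebraMap C A c ⊗ₜ 1
    rw [show (1 : A) ⊗ₜ[C] algebraMap C C₁ c = algebraMap C (A ⊗[C] C₁) c from
      (Algebra.TensorProduct.includeRight : C₁ →ₐ[C] A ⊗[C] C₁).commutes c,
      IsScalarTower.algebraMap_apply C A, AlgHom.commutes]
    rfl
  have hinjL : Function.Injective L :=
    (Module.bijective_of_surjective_of_rankAtStalk_eq hsurj fun m _ => by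
      have : Nontrivial (A ⊗[C] D) := nontrivial_iff.2 ⟨0, 1, fun h01 =>
        (inferInstance : m.IsMaximal).ne_top ((Ideal.eq_top_iff_one m).2 (h01 ▸ m.zero_mem))⟩
      rw [hrank, Module.rankAtStalk_eq_finrank_of_free]
      simp [Module.finrank_pi]).injective
  exact ⟨x, Module.Basis.ofEquivFun (LinearEquiv.ofBijective L ⟨hinjL, hsurj⟩).symm, fun i => by
    simp [L, Fintype.linearCombination_apply]⟩

end GR

end Groth.Agent.GrpdLib
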