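import Groth.Agent.Grpd.Frame
import Mathlib.LinearAlgebra.Matrix.Charpoly.Coeff
import Mathlib.RingTheory.TensorProduct.Maps

/-!
Affine groupoids on the level of rings, and invariance of the characteristic polynomial.
-/

universe u

open Polynomial TensorProduct

namespace Groth.Agent.GrpdLib

/-- An affine groupoid: objects `A`, arrows `B`, source `algebraMap A B`. -/
structure GR (A B : Type u) [CommRing A] [CommRing B] [Algebra A B] where
  t : A →+* B
  e : B →+* A
  i : B →+* B
  e_s : ∀ a, e (algebraMap A B a) = a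
  e_t : ∀ a, e (t a) = a
  i_s : ∀ a, i (algebraMap A B a) = t a
  i_t : ∀ a, i (t a) = algebraMap A B a
  comp : ∀ {D : Type u} [CommRing D] (p q : B →+* D),
    (∀ a, p (algebraMap A B a) = q (t a)) → (B →+* D)
  comp_s : ∀ {D : Type u} [CommRing D] (p q : B →+* D) h a,
    comp p q h (algebraMap A B a) = q (algebraMap A B a)
  comp_t : ∀ {D : Type u} [CommRing D] (p q : B →+* D) h a, comp p q h (t a) = p (t a)
  comp_nat : ∀ {D D' : Type u} [CommRing D] [CommRing D'] (g : D →+* D') (p q : B →+* D) h h',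
    g.comp (comp p q h) = comp (g.comp p) (g.comp q) h'
  assoc : ∀ {D : Type u} [CommRing D] (p q r : B →+* D) h₁ h₂ h₃ h₄,
    comp (comp p q h₁) r h₃ = comp p (comp q r h₂) h₄
  comp_e : ∀ {D : Type u} [CommRing D] (p q : B →+* D),
    (∀ b, q b = p (algebraMap A B (e b))) → ∀ h, comp p q h = p
  e_comp : ∀ {D : Type u} [CommRing D] (p q : B →+* D),
    (∀ b, p b = q (t (e b))) → ∀ h, comp p q h = q
  comp_i : ∀ {D : Type u} [CommRing D] (p q : B →+* D),
    (∀ b, q b = p (i b)) → ∀ h b, comp p q h b = p (t (e b))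
  i_comp : ∀ {D : Type u} [CommRing D] (p q : B →+* D),
    (∀ b, p b = q (i b)) → ∀ h b, comp p q h b = q (algebraMap A B (e b))

/-- A ring map out of a tensor product from two compatible ring maps. -/
noncomputable def liftRing {A B C D : Type*} [CommRing A] [CommRing B] [CommRing C] [CommRing D]
    [Algebra A B] [Algebra A C] (f : B →+* D) (g : C →+* D)
    (h : ∀ a, f (algebraMap A B a) = g (algebraMap A C a)) : B ⊗[A] C →+* D :=
  letI := (f.comp (algebraMap A B)).toAlgebra
  let f' : B →ₐ[A] D := { f with commutes' := fun _ => rfl }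
  let g' : C →ₐ[A] D := { g with commutes' := fun a => (h a).symm }
  (Algebra.TensorProduct.lift f' g' fun _ _ => .all _ _).toRingHom

@[simp] lemma liftRing_tmul {A B C D : Type*} [CommRing A] [CommRing B] [CommRing C] [CommRing D]
    [Algebra A B] [Algebra A C] (f : B →+* D) (g : C →+* D)
    (h : ∀ a, f (algebraMap A B a) = g (algebraMap A C a)) (b : B) (c : C) :
    liftRing f g h (b ⊗ₜ c) = f b * g c := by
  simp [liftRing]

lemma ringHom_ext_tmul {A B C D : Type*} [CommRing A] [CommRing B] [CommRing C] [CommRing D]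
    [Algebra A B] [Algebra A C] {f g : B ⊗[A] C →+* D}
    (h₁ : ∀ b, f (b ⊗ₜ 1) = g (b ⊗ₜ 1)) (h₂ : ∀ c, f (1 ⊗ₜ c) = g (1 ⊗ₜ c)) : f = g := by
  refine RingHom.ext fun x => ?_
  induction x with
  | zero => simp
  | add a b ha hb => simp [map_add, ha, hb]
  | tmul b c =>
    have : b ⊗ₜ[A] c = b ⊗ₜ 1 * 1 ⊗ₜ c := by simp
    rw [this, map_mul, map_mul, h₁, h₂]

namespace GR

variable {A B : Type u} [CommRing A] [CommRing B] [Algebra A B] (G : GR A B)

/-- `B`, as an `A`-algebra by the target map. -/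
def TB (_ : GR A B) : Type u := B

noncomputable instance : CommRing G.TB := inferInstanceAs (CommRing B)
noncomputable instance : Algebra A G.TB := (G.t : A →+* G.TB).toAlgebra

/-- The identity `B → TB`. -/
def toTB : B →+* G.TB := RingHom.id B

/-- The identity `TB → B`. -/
def ofTB : G.TB →+* B := RingHom.id B

@[simp] lemma toTB_ofTB (b : G.TB) : G.toTB (G.ofTB b) = b := rfl
@[simp] lemma ofTB_toTB (b : B) : G.ofTB (G.toTB b) = b := rfl
lemma algebraMap_TB (a : A) : algebraMap A G.TB a = G.toTB (G.t a) := rfl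

private noncomputable def qs : B →+* B ⊗[A] B := Algebra.TensorProduct.includeLeftRingHom
private noncomputable def rs : B →+* B ⊗[A] B := Algebra.TensorProduct.includeRight.toRingHom
private noncomputable def qt : B →+* G.TB ⊗[A] B :=
  Algebra.TensorProduct.includeLeftRingHom.comp G.toTB
private noncomputable def pt : B →+* G.TB ⊗[A] B := Algebra.TensorProduct.includeRight.toRingHom

private lemma qs_apply (b : B) : qs (A := A) b = b ⊗ₜ 1 := rfl
private lemma rs_apply (b : B) : rs (A := A) b = 1 ⊗ₜ b := rfl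
private lemma qt_apply (b : B) : G.qt b = G.toTB b ⊗ₜ 1 := rfl
private lemma pt_apply (b : B) : G.pt b = 1 ⊗ₜ b := rfl

private lemma ptqt (a : A) : G.pt (algebraMap A B a) = G.qt (G.t a) := by
  rw [pt_apply, qt_apply, Algebra.algebraMap_eq_smul_one, tmul_smul, smul_tmul',
    ← Algebra.algebraMap_eq_smul_one, algebraMap_TB]

private lemma rsqs (a : A) : rs (A := A) (algebraMap A B a) = qs (algebraMap A B a) := by
  rw [rs_apply, qs_apply, Algebra.algebraMap_eq_smul_one, tmul_smul, smul_tmul']

private lemma rsqsi (a : A) : rs (A := A) (algebraMap A B a) = (qs.comp G.i) (G.t a) := by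
  rw [RingHom.comp_apply, G.i_t, rsqs]

/-- `(β, γ) ↦ (γ ∘ β⁻¹, β)`: from pairs with composable ends to pairs with a common source. -/
noncomputable def shear : G.TB ⊗[A] B →+* B ⊗[A] B :=
  liftRing (qs.comp G.ofTB) (G.comp rs (qs.comp G.i) G.rsqsi) fun a => by
    rw [RingHom.comp_apply, algebraMap_TB, ofTB_toTB, G.comp_s, RingHom.comp_apply, G.i_s]

/-- The inverse of `shear`. -/
noncomputable def shearInv : B ⊗[A] B →+* G.TB ⊗[A] B :=
  liftRing G.qt (G.comp G.pt G.qt G.ptqt) fun a => by rw [G.comp_s]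

lemma shear_qt (b : B) : G.shear (G.toTB b ⊗ₜ 1) = b ⊗ₜ 1 := by
  simp [shear, qs_apply]

lemma shearInv_qs (b : B) : G.shearInv (b ⊗ₜ 1) = G.toTB b ⊗ₜ 1 := by
  simp [shearInv, qt_apply]

lemma shear_pt_t (a : A) : G.shear (1 ⊗ₜ G.t a) = 1 ⊗ₜ G.t a := by
  simp [shear, G.comp_t, rs_apply]

lemma shear_shearInv : G.shear.comp G.shearInv = RingHom.id _ := by
  refine ringHom_ext_tmul (fun b => by simp [shearInv_qs, shear_qt]) fun c => ?_
  have e1 : G.shear.comp G.qt = qs := RingHom.ext fun b => G.shear_qt b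
  have e2 : G.shear.comp G.pt = G.comp rs (qs.comp G.i) G.rsqsi := RingHom.ext fun b => by
    simp [shear, pt_apply]
  have hc : (qs.comp G.i : B →+* B ⊗[A] B).comp (RingHom.id B) = qs.comp G.i := RingHom.comp_id _
  have h' : ∀ a, (G.shear.comp G.pt) (algebraMap A B a) = (G.shear.comp G.qt) (G.t a) := fun a => by
    simp only [RingHom.comp_apply, ptqt]
  show (G.shear.comp G.shearInv) (1 ⊗ₜ c) = 1 ⊗ₜ c
  have h0 : G.shearInv (1 ⊗ₜ c) = G.comp G.pt G.qt G.ptqt c := by simp [shearInv]
  rw [RingHom.comp_apply, h0, ← RingHom.comp_apply, G.comp_nat _ _ _ _ h']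
  have hiq : ∀ a, (qs.comp G.i : B →+* B ⊗[A] B) (algebraMap A B a) = qs (G.t a) := fun a => by
    rw [RingHom.comp_apply, G.i_s]
  have h4 : ∀ a, rs (A := A) (algebraMap A B a) = G.comp (qs.comp G.i) qs hiq (G.t a) := fun a => by
    rw [G.comp_t, G.rsqsi]
  have h3 : ∀ a, G.comp rs (qs.comp G.i) G.rsqsi (algebraMap A B a) = qs (A := A) (G.t a) :=
    fun a => by rw [G.comp_s, hiq]
  have step : G.comp (G.shear.comp G.pt) (G.shear.comp G.qt) h' = rs := by
    have : G.comp (G.comp rs (qs.comp G.i) G.rsqsi) qs h3 = rs := by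
      rw [G.assoc rs (qs.comp G.i) qs G.rsqsi hiq h3 h4]
      refine G.comp_e _ _ (fun b => ?_) _
      rw [G.i_comp _ _ (fun b => rfl), rsqs]
    convert this
  rw [step, rs_apply]

lemma shearInv_shear : G.shearInv.comp G.shear = RingHom.id _ := by
  refine ringHom_ext_tmul (fun b => ?_) fun c => ?_
  · obtain ⟨b, rfl⟩ : ∃ b', G.toTB b' = b := ⟨G.ofTB b, rfl⟩
    simp [shearInv_qs, shear_qt]
  have e1 : G.shearInv.comp (qs.comp G.i) = G.qt.comp G.i := RingHom.ext fun b => G.shearInv_qs _
  have e2 : G.shearInv.comp rs = G.comp G.pt G.qt G.ptqt := RingHom.ext fun b => by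
    simp [shearInv, rs_apply]
  have h' : ∀ a, (G.shearInv.comp rs) (algebraMap A B a) =
      (G.shearInv.comp (qs.comp G.i)) (G.t a) := fun a => by
    rw [RingHom.comp_apply, rsqsi]; rfl
  show (G.shearInv.comp G.shear) (1 ⊗ₜ c) = 1 ⊗ₜ c
  have h0 : G.shear (1 ⊗ₜ c) = G.comp rs (qs.comp G.i) G.rsqsi c := by simp [shear]
  rw [RingHom.comp_apply, h0, ← RingHom.comp_apply, G.comp_nat _ _ _ _ h']
  have hqi : ∀ a, G.qt (algebraMap A B a) = (G.qt.comp G.i) (G.t a) := fun a => by
    rw [RingHom.comp_apply, G.i_t]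
  have h3 : ∀ a, G.comp G.pt G.qt G.ptqt (algebraMap A B a) = (G.qt.comp G.i) (G.t a) := fun a => by
    rw [G.comp_s, hqi]
  have h4 : ∀ a, G.pt (algebraMap A B a) = G.comp G.qt (G.qt.comp G.i) hqi (G.t a) := fun a => by
    rw [G.comp_t, G.ptqt]
  have step : G.comp (G.shearInv.comp rs) (G.shearInv.comp (qs.comp G.i)) h' = G.pt := by
    have : G.comp (G.comp G.pt G.qt G.ptqt) (G.qt.comp G.i) h3 = G.pt := by
      rw [G.assoc G.pt G.qt (G.qt.comp G.i) G.ptqt hqi h3 h4]
      refine G.comp_e _ _ (fun b => ?_) _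
      rw [G.comp_i _ _ (fun b => rfl), G.ptqt]
    convert this
  rw [step, pt_apply]

/-- `shear` as a ring equivalence. -/
noncomputable def shearEquiv : G.TB ⊗[A] B ≃+* B ⊗[A] B :=
  RingEquiv.ofRingHom G.shear G.shearInv G.shear_shearInv G.shearInv_shear

@[simp] lemma shearEquiv_apply (x : G.TB ⊗[A] B) : G.shearEquiv x = G.shear x := rfl

lemma shearEquiv_smul (b : G.TB) (x : G.TB ⊗[A] B) :
    G.shearEquiv (b • x) = G.ofTB b • G.shearEquiv x := by
  rw [Algebra.smul_def, Algebra.smul_def, map_mul, shearEquiv_apply]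
  congr 1
  exact G.shear_qt (G.ofTB b)

lemma shearEquiv_symm_smul (b : B) (x : B ⊗[A] B) :
    G.shearEquiv.symm (b • x) = G.toTB b • G.shearEquiv.symm x := by
  apply G.shearEquiv.injective
  rw [shearEquiv_smul, RingEquiv.apply_symm_apply, RingEquiv.apply_symm_apply, ofTB_toTB]

variable {ι : Type*} [Fintype ι] [DecidableEq ι] (F : Frame A B ι)

/-- The frame of `B ⊗[A] B` transported from the base change along the target map. -/
noncomputable def shearFrame : Frame B (B ⊗[A] B) ι where
  x i := G.shearEquiv ((F.baseChange G.TB).x i)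
  lam :=
    { toFun := fun d i => G.ofTB ((F.baseChange G.TB).lam (G.shearEquiv.symm d) i)
      map_add' := fun a b => by ext i; simp
      map_smul' := fun b a => by
        ext i
        simp only [shearEquiv_symm_smul, map_smul, Pi.smul_apply, smul_eq_mul, map_mul, ofTB_toTB,
          RingHom.id_apply] }
  recon d := by
    conv_rhs => rw [← G.shearEquiv.apply_symm_apply d,
      ← (F.baseChange G.TB).recon (G.shearEquiv.symm d), map_sum]
    exact Finset.sum_congr rfl fun i _ => (G.shearEquiv_smul _ _).symm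

/-- The characteristic polynomial of multiplication by the image of an object function. -/
noncomputable def P (g : A) : A[X] := (F.M (G.t g)).charpoly

/-- The characteristic polynomial has invariant coefficients. -/
theorem P_invariant (g : A) : (G.P F g).map G.t = (G.P F g).map (algebraMap A B) := by
  have h1 : ((F.baseChange G.TB).M (1 ⊗ₜ G.t g)).map G.ofTB =
      (G.shearFrame F).M (1 ⊗ₜ G.t g) := by
    have h := (F.baseChange G.TB).M_map (G.shearFrame F) G.ofTB G.shearEquiv.toRingHom
      (fun _ => rfl) (fun d i => by simp [shearFrame, ← shearEquiv_apply]) (1 ⊗ₜ G.t g)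
    rw [← h]
    congr 1
    exact G.shear_pt_t g
  have h2 := (G.shearFrame F).charpoly_eq (F.baseChange B) (1 ⊗ₜ G.t g)
  rw [← h1, F.baseChange_M, F.baseChange_M, Matrix.charpoly_map, Matrix.charpoly_map,
    Matrix.charpoly_map, Polynomial.map_map] at h2
  exact h2

end GR

end Groth.Agent.GrpdLib
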