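import Groth.Prelude.Def_Grpd
import Groth.Agent.Grpd.Ring
import Mathlib.AlgebraicGeometry.Morphisms.FinitePresentation
import Mathlib.AlgebraicGeometry.Morphisms.Flat
import Mathlib.RingTheory.Finiteness.ModuleFinitePresentation
import Mathlib.RingTheory.Flat.EquationalCriterion

/-!
The affine groupoid on global functions of an affine groupoid scheme.
-/

universe u

open AlgebraicGeometry CategoryTheory CategoryTheory.Limits

namespace Groth.Agent.GrpdLib

variable {S : Scheme.{u}} (G : Grpd.GroupoidScheme S)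

/-- The global functions of an affine scheme with values in `D` give points. -/
noncomputable def pt {X : Scheme.{u}} [IsAffine X] {D : Type u} [CommRing D]
    (p : Γ(X, ⊤) →+* D) : Spec (CommRingCat.of D) ⟶ X :=
  Spec.map (CommRingCat.ofHom p) ≫ X.isoSpec.inv

/-- Points give ring maps out of global functions. -/
noncomputable def ev {X : Scheme.{u}} [IsAffine X] {D : Type u} [CommRing D]
    (x : Spec (CommRingCat.of D) ⟶ X) : Γ(X, ⊤) →+* D :=
  (Spec.preimage (x ≫ X.isoSpec.hom)).hom

lemma pt_ev {X : Scheme.{u}} [IsAffine X] {D : Type u} [CommRing D]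
    (x : Spec (CommRingCat.of D) ⟶ X) : pt (ev x) = x := by
  simp [pt, ev]

lemma ev_pt {X : Scheme.{u}} [IsAffine X] {D : Type u} [CommRing D]
    (p : Γ(X, ⊤) →+* D) : ev (pt p) = p := by
  simp [pt, ev]

lemma pt_injective {X : Scheme.{u}} [IsAffine X] {D : Type u} [CommRing D]
    {p q : Γ(X, ⊤) →+* D} (h : pt p = pt q) : p = q := by
  rw [← ev_pt p, h, ev_pt]

lemma pt_comp {X Y : Scheme.{u}} [IsAffine X] [IsAffine Y] (f : X ⟶ Y) {D : Type u} [CommRing D]
    (p : Γ(X, ⊤) →+* D) : pt p ≫ f = pt (p.comp f.appTop.hom) := by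
  rw [pt, pt, CommRingCat.ofHom_comp, Spec.map_comp, Category.assoc, Category.assoc,
    CommRingCat.ofHom_hom, Scheme.isoSpec_inv_naturality]

lemma map_pt {X : Scheme.{u}} [IsAffine X] {D D' : Type u} [CommRing D] [CommRing D']
    (g : D →+* D') (p : Γ(X, ⊤) →+* D) :
    Spec.map (CommRingCat.ofHom g) ≫ pt p = pt (g.comp p) := by
  rw [pt, pt, CommRingCat.ofHom_comp, Spec.map_comp_assoc]

lemma pt_id {X : Scheme.{u}} [IsAffine X] :
    pt (RingHom.id Γ(X, ⊤)) = X.isoSpec.inv := by
  simp [pt]

lemma appTop_comp {X Y Z : Scheme.{u}} (f : X ⟶ Y) (g : Y ⟶ Z) {h : X ⟶ Z} (w : f ≫ g = h)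
    (a : Γ(Z, ⊤)) : f.appTop.hom (g.appTop.hom a) = h.appTop.hom a := by
  subst w
  simp

variable [IsAffine G.U] [IsAffine G.R]

lemma ev_cond {D : Type u} [CommRing D] (p q : Γ(G.R, ⊤) →+* D)
    (h : ∀ a, p (G.s.appTop.hom a) = q (G.t.appTop.hom a)) : pt p ≫ G.s = pt q ≫ G.t := by
  rw [pt_comp, pt_comp]
  exact congrArg pt (RingHom.ext h)

/-- Composition on ring-valued arrows. -/
noncomputable def compHom {D : Type u} [CommRing D] (p q : Γ(G.R, ⊤) →+* D)
    (h : ∀ a, p (G.s.appTop.hom a) = q (G.t.appTop.hom a)) : Γ(G.R, ⊤) →+* D :=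
  ev (pullback.lift (pt p) (pt q) (ev_cond G p q h) ≫ G.c)

lemma pt_compHom {D : Type u} [CommRing D] (p q : Γ(G.R, ⊤) →+* D)
    (h : ∀ a, p (G.s.appTop.hom a) = q (G.t.appTop.hom a)) :
    pt (compHom G p q h) = pullback.lift (pt p) (pt q) (ev_cond G p q h) ≫ G.c :=
  pt_ev _

lemma lift_congr {T : Scheme.{u}} {α α' β β' : T ⟶ G.R} (h₁ : α = α') (h₂ : β = β')
    (h : α ≫ G.s = β ≫ G.t) (h' : α' ≫ G.s = β' ≫ G.t) :
    pullback.lift α β h ≫ G.c = pullback.lift α' β' h' ≫ G.c := by
  subst h₁ h₂
  rfl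

/-- The affine groupoid of global functions. -/
noncomputable def grOfScheme :
    @GR Γ(G.U, ⊤) Γ(G.R, ⊤) _ _ G.s.appTop.hom.toAlgebra :=
  letI := G.s.appTop.hom.toAlgebra
  { t := G.t.appTop.hom
    e := G.e.appTop.hom
    i := G.i.appTop.hom
    e_s := fun a => (appTop_comp G.e G.s G.e_s a).trans (by simp)
    e_t := fun a => (appTop_comp G.e G.t G.e_t a).trans (by simp)
    i_s := fun a => appTop_comp G.i G.s G.i_s a
    i_t := fun a => appTop_comp G.i G.t G.i_t a
    comp := fun p q h => compHom G p q h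
    comp_s := fun p q h a => by
      have := G.comp_s (pt p) (pt q) (ev_cond G p q h)
      rw [← pt_compHom, pt_comp, pt_comp] at this
      exact RingHom.congr_fun (pt_injective this) a
    comp_t := fun p q h a => by
      have := G.comp_t (pt p) (pt q) (ev_cond G p q h)
      rw [← pt_compHom, pt_comp, pt_comp] at this
      exact RingHom.congr_fun (pt_injective this) a
    comp_nat := fun g p q h h' => by
      refine pt_injective ?_
      rw [← map_pt, pt_compHom, pt_compHom, ← Category.assoc]
      congr 1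
      apply pullback.hom_ext
      · rw [Category.assoc, pullback.lift_fst, map_pt, pullback.lift_fst]
      · rw [Category.assoc, pullback.lift_snd, map_pt, pullback.lift_snd]
    assoc := fun p q r h₁ h₂ h₃ h₄ => by
      refine pt_injective ?_
      refine (pt_compHom G _ _ _).trans (Eq.trans ?_ (pt_compHom G _ _ _).symm)
      refine (lift_congr G (pt_compHom G p q h₁) rfl _
        ((G.comp_s (pt p) (pt q) (ev_cond G p q h₁)).trans (ev_cond G q r h₂))).trans
        ((G.assoc (pt p) (pt q) (pt r) (ev_cond G p q h₁) (ev_cond G q r h₂)).trans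
          (lift_congr G rfl (pt_compHom G q r h₂).symm _ _))
    comp_e := fun p q hq h => by
      refine pt_injective ?_
      rw [pt_compHom]
      refine (lift_congr G rfl ?_ _ ?_).trans (G.comp_e (pt p))
      · rw [pt_comp]
        exact congrArg pt (RingHom.ext fun b => by simp [hq b, RingHom.algebraMap_toAlgebra])
      · rw [Category.assoc, Category.assoc, G.e_t, Category.comp_id]
    e_comp := fun p q hp h => by
      refine pt_injective ?_
      rw [pt_compHom]
      refine (lift_congr G ?_ rfl _ ?_).trans (G.e_comp (pt q))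
      · rw [pt_comp]
        exact congrArg pt (RingHom.ext fun b => by simp [hp b])
      · rw [Category.assoc, Category.assoc, G.e_s, Category.comp_id]
    comp_i := fun p q hq h b => by
      refine RingHom.congr_fun (pt_injective
        (q := (p.comp G.t.appTop.hom).comp G.e.appTop.hom) ?_) b
      rw [pt_compHom]
      refine (lift_congr G rfl ?_ _ ?_).trans ((G.comp_i (pt p)).trans ?_)
      · rw [pt_comp]
        exact congrArg pt (RingHom.ext fun b => hq b)
      · rw [Category.assoc, G.i_t]
      · rw [pt_comp]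
        exact congrArg pt (RingHom.ext fun b => by simp)
    i_comp := fun p q hp h b => by
      refine RingHom.congr_fun (pt_injective
        (q := (q.comp G.s.appTop.hom).comp G.e.appTop.hom) ?_) b
      rw [pt_compHom]
      refine (lift_congr G ?_ rfl _ ?_).trans ((G.i_comp (pt q)).trans ?_)
      · rw [pt_comp]
        exact congrArg pt (RingHom.ext fun b => hp b)
      · rw [Category.assoc, G.i_s]
      · rw [pt_comp]
        exact congrArg pt (RingHom.ext fun b => by simp) }

lemma grOfScheme_t : letI := G.s.appTop.hom.toAlgebra; (grOfScheme G).t = G.t.appTop.hom := rfl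

/-- The invariant functions satisfy the hypotheses of the ring-level results. -/
lemma invariants_spec :
    letI := G.s.appTop.hom.toAlgebra
    (∀ c : G.invariants, (grOfScheme G).t (algebraMap G.invariants Γ(G.U, ⊤) c) =
      algebraMap Γ(G.U, ⊤) Γ(G.R, ⊤) (algebraMap G.invariants Γ(G.U, ⊤) c)) ∧
    ∀ a, (grOfScheme G).t a = algebraMap Γ(G.U, ⊤) Γ(G.R, ⊤) a →
      a ∈ (algebraMap G.invariants Γ(G.U, ⊤)).range :=
  ⟨fun c => c.2.symm, fun a ha => ⟨⟨a, ha.symm⟩, rfl⟩⟩

/-- The global functions on the arrows form a finite projective module via the source map. -/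
lemma module_finite_projective [IsFinite G.s] [Flat G.s] [LocallyOfFinitePresentation G.s] :
    letI := G.s.appTop.hom.toAlgebra
    Module.Finite Γ(G.U, ⊤) Γ(G.R, ⊤) ∧ Module.Projective Γ(G.U, ⊤) Γ(G.R, ⊤) := by
  letI := G.s.appTop.hom.toAlgebra
  have : Module.Finite Γ(G.U, ⊤) Γ(G.R, ⊤) := G.s.finite_appTop
  have : Module.Flat Γ(G.U, ⊤) Γ(G.R, ⊤) := G.s.flat_appTop
  have : Algebra.FinitePresentation Γ(G.U, ⊤) Γ(G.R, ⊤) := G.s.finitePresentation_appTop
  have := Module.FinitePresentation.of_finite_of_finitePresentation Γ(G.U, ⊤) Γ(G.R, ⊤)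
  exact ⟨‹_›, Module.Flat.projective_of_finitePresentation⟩

end Groth.Agent.GrpdLib
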