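import Groth.Agent.Grpd.Scheme
import Groth.Agent.Grpd.Descent
import Mathlib.Algebra.Category.Ring.Epi
import Mathlib.RingTheory.RingHom.FinitePresentation
import Mathlib.RingTheory.RingHom.Flat
import Mathlib.RingTheory.RingHom.Finite

/-!
The quotient of an affine finite flat equivalence relation of schemes.
-/

universe u

open AlgebraicGeometry CategoryTheory CategoryTheory.Limits TensorProduct

namespace Groth.Agent.GrpdLib

variable {S : Scheme.{u}} (G : Grpd.GroupoidScheme S) [IsAffine G.U] [IsAffine G.R]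

/-- For a finite source map and a monomorphism `(t, s)`, the target functions generate. -/
lemma span_t_eq_top [IsFinite G.s] [Mono G.j] :
    letI := G.s.appTop.hom.toAlgebra
    Submodule.span Γ(G.U, ⊤) (Set.range G.t.appTop.hom) = ⊤ := by
  letI := G.s.appTop.hom.toAlgebra
  let J : Γ(G.U, ⊤) ⊗[ℤ] Γ(G.U, ⊤) →+* Γ(G.R, ⊤) :=
    liftRing G.t.appTop.hom G.s.appTop.hom fun n => by simp
  have hJt : ∀ a, J (a ⊗ₜ 1) = G.t.appTop.hom a := fun a => by simp [J]
  have hJs : ∀ a, J (1 ⊗ₜ a) = G.s.appTop.hom a := fun a => by simp [J]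
  have : Epi (CommRingCat.ofHom J) := by
    refine ⟨fun {D} g₁ g₂ h => ?_⟩
    have hh : ∀ z, g₁.hom (J z) = g₂.hom (J z) := fun z =>
      RingHom.congr_fun (congrArg CommRingCat.Hom.hom h) z
    have hpt : pt g₁.hom ≫ G.j = pt g₂.hom ≫ G.j := by
      apply pullback.hom_ext
      · simp only [Category.assoc, Grpd.GroupoidScheme.j, pullback.lift_fst]
        rw [pt_comp, pt_comp]
        exact congrArg pt (RingHom.ext fun a => by
          rw [RingHom.comp_apply, RingHom.comp_apply, ← hJt, hh])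
      · simp only [Category.assoc, Grpd.GroupoidScheme.j, pullback.lift_snd]
        rw [pt_comp, pt_comp]
        exact congrArg pt (RingHom.ext fun a => by
          rw [RingHom.comp_apply, RingHom.comp_apply, ← hJs, hh])
    exact CommRingCat.hom_ext (pt_injective ((cancel_mono G.j).1 hpt))
  have hfin : J.Finite := by
    refine RingHom.Finite.of_comp_finite
      (f := (Algebra.TensorProduct.includeRight : Γ(G.U, ⊤) →ₐ[ℤ] _).toRingHom) ?_
    have : J.comp (Algebra.TensorProduct.includeRight : Γ(G.U, ⊤) →ₐ[ℤ] _).toRingHom =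
        G.s.appTop.hom := RingHom.ext hJs
    rw [this]
    exact G.s.finite_appTop
  have hsurj : Function.Surjective J :=
    RingHom.surjective_of_epi_of_finite (CommRingCat.ofHom J) hfin
  rw [eq_top_iff]
  rintro b -
  obtain ⟨z, rfl⟩ := hsurj b
  induction z with
  | zero => simp
  | add u v hu hv => rw [map_add]; exact add_mem hu hv
  | tmul a a' =>
    rw [show J (a ⊗ₜ a') = a' • G.t.appTop.hom a by
      simp [J, Algebra.smul_def, mul_comm, RingHom.algebraMap_toAlgebra]]
    exact Submodule.smul_mem _ _ (Submodule.subset_span ⟨a, rfl⟩)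

lemma toQuot_eq : G.toQuot = G.U.isoSpec.hom ≫ Spec.map (CommRingCat.ofHom G.invariants.subtype) :=
  rfl

lemma t_toQuot : G.t ≫ G.toQuot = G.s ≫ G.toQuot := by
  have h : ∀ f : G.R ⟶ G.U, f ≫ G.U.isoSpec.hom = G.R.isoSpec.hom ≫ Spec.map f.appTop := fun f => by
    rw [← cancel_mono G.U.isoSpec.inv, Category.assoc, Category.assoc,
      Scheme.isoSpec_inv_naturality, Iso.hom_inv_id, Iso.hom_inv_id_assoc, Category.comp_id]
  rw [toQuot_eq, ← Category.assoc, ← Category.assoc, h, h, Category.assoc, Category.assoc,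
    ← Spec.map_comp, ← Spec.map_comp]
  congr 2
  exact CommRingCat.hom_ext (RingHom.ext fun c => c.2.symm)

/-- The quotient of a finite flat affine equivalence relation is finite flat, with
`R = U ×_M U`. -/
theorem quotient_spec [IsFinite G.s] [Flat G.s] [LocallyOfFinitePresentation G.s] [Mono G.j] :
    (IsFinite G.toQuot ∧ Flat G.toQuot ∧ LocallyOfFinitePresentation G.toQuot) ∧
      IsPullback G.t G.s G.toQuot G.toQuot := by
  letI := G.s.appTop.hom.toAlgebra
  obtain ⟨_, _⟩ := module_finite_projective G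
  have : Algebra.FinitePresentation Γ(G.U, ⊤) Γ(G.R, ⊤) := G.s.finitePresentation_appTop
  obtain ⟨hC, hinv⟩ := invariants_spec G
  obtain ⟨hflat, hfin, hfp, hbij⟩ :=
    (grOfScheme G).quotient (C := G.invariants) Subtype.val_injective hC hinv (span_t_eq_top G)
  let q : CommRingCat.of G.invariants ⟶ Γ(G.U, ⊤) := CommRingCat.ofHom G.invariants.subtype
  have hq : q.hom = algebraMap G.invariants Γ(G.U, ⊤) := rfl
  have h1 : IsFinite (Spec.map q) := by
    rw [IsFinite.SpecMap_iff, hq]
    exact RingHom.finite_algebraMap.2 hfin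
  have h2 : Flat (Spec.map q) := by
    rw [Flat.SpecMap_iff, hq]
    exact RingHom.flat_algebraMap_iff.2 hflat
  have h3 : LocallyOfFinitePresentation (Spec.map q) := by
    rw [HasRingHomProperty.Spec_iff (P := @LocallyOfFinitePresentation), hq]
    exact RingHom.finitePresentation_algebraMap.2 hfp
  refine ⟨⟨?_, ?_, ?_⟩, ?_⟩
  · rw [toQuot_eq]; infer_instance
  · rw [toQuot_eq]; infer_instance
  · rw [toQuot_eq]; infer_instance
  let e : CommRingCat.of (Γ(G.U, ⊤) ⊗[G.invariants] Γ(G.U, ⊤)) ≅ Γ(G.R, ⊤) :=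
    (RingEquiv.ofBijective _ hbij).toCommRingCatIso
  have hpo : IsPushout q q G.t.appTop G.s.appTop := by
    refine (CommRingCat.isPushout_tensorProduct G.invariants Γ(G.U, ⊤) Γ(G.U, ⊤)).of_iso
      (Iso.refl _) (Iso.refl _) (Iso.refl _) e (by simp [q]; rfl) (by simp [q]; rfl) ?_ ?_
    · refine CommRingCat.hom_ext (RingHom.ext fun a => ?_)
      show (grOfScheme G).mult hC (a ⊗ₜ 1) = G.t.appTop.hom a
      simp [GR.mult, grOfScheme_t]
    · refine CommRingCat.hom_ext (RingHom.ext fun a => ?_)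
      show (grOfScheme G).mult hC (1 ⊗ₜ a) = G.s.appTop.hom a
      simp [GR.mult, RingHom.algebraMap_toAlgebra]
  have hpb := isPullback_SpecMap_of_isPushout _ _ _ _ hpo
  refine hpb.of_iso G.R.isoSpec.symm G.U.isoSpec.symm G.U.isoSpec.symm (Iso.refl _) ?_ ?_ ?_ ?_
  · exact Scheme.isoSpec_inv_naturality G.t
  · exact Scheme.isoSpec_inv_naturality G.s
  · rw [toQuot_eq, Iso.symm_hom, Iso.inv_hom_id_assoc, Iso.refl_hom, Category.comp_id]
  · rw [toQuot_eq, Iso.symm_hom, Iso.inv_hom_id_assoc, Iso.refl_hom, Category.comp_id]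

end Groth.Agent.GrpdLib
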